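import Cfsg.Agent.Lib.Helper8.ONM.C

/-! # The multiplier of the O'Nan group, the table over the subgroup of index 122760: the check of the rows 1320 to 2639 of the certificate (generated) -/

set_option autoImplicit false
set_option maxRecDepth 100000

namespace Cfsg.Agent.Lib.Helper8.ONM

theorem rows_ok_11 : rowsOK 1320 120 = true := by decide +kernel

theorem rows_ok_12 : rowsOK 1440 120 = true := by decide +kernel

theorem rows_ok_13 : rowsOK 1560 120 = true := by decide +kernel

theorem rows_ok_14 : rowsOK 1680 120 = true := by decide +kernel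

theorem rows_ok_15 : rowsOK 1800 120 = true := by decide +kernel

theorem rows_ok_16 : rowsOK 1920 120 = true := by decide +kernel

theorem rows_ok_17 : rowsOK 2040 120 = true := by decide +kernel

theorem rows_ok_18 : rowsOK 2160 120 = true := by decide +kernel

theorem rows_ok_19 : rowsOK 2280 120 = true := by decide +kernel

theorem rows_ok_20 : rowsOK 2400 120 = true := by decide +kernel

theorem rows_ok_21 : rowsOK 2520 120 = true := by decide +kernel

theorem rows_ok_f1 : ∀ k, k < 11 → rowsOK (120 * (11 + k)) 120 = true
  | 0, _ => rows_ok_11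
  | 1, _ => rows_ok_12
  | 2, _ => rows_ok_13
  | 3, _ => rows_ok_14
  | 4, _ => rows_ok_15
  | 5, _ => rows_ok_16
  | 6, _ => rows_ok_17
  | 7, _ => rows_ok_18
  | 8, _ => rows_ok_19
  | 9, _ => rows_ok_20
  | 10, _ => rows_ok_21
  | k + 11, h => absurd h (by omega)

end Cfsg.Agent.Lib.Helper8.ONM
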