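import Cfsg.Agent.Lib.Helper8.ONM.C

/-! # The multiplier of the O'Nan group, the table over the subgroup of index 122760: the check of the rows 13200 to 14519 of the certificate (generated) -/

set_option autoImplicit false
set_option maxRecDepth 100000

namespace Cfsg.Agent.Lib.Helper8.ONM

theorem rows_ok_110 : rowsOK 13200 120 = true := by decide +kernel

theorem rows_ok_111 : rowsOK 13320 120 = true := by decide +kernel

theorem rows_ok_112 : rowsOK 13440 120 = true := by decide +kernel

theorem rows_ok_113 : rowsOK 13560 120 = true := by decide +kernel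

theorem rows_ok_114 : rowsOK 13680 120 = true := by decide +kernel

theorem rows_ok_115 : rowsOK 13800 120 = true := by decide +kernel

theorem rows_ok_116 : rowsOK 13920 120 = true := by decide +kernel

theorem rows_ok_117 : rowsOK 14040 120 = true := by decide +kernel

theorem rows_ok_118 : rowsOK 14160 120 = true := by decide +kernel

theorem rows_ok_119 : rowsOK 14280 120 = true := by decide +kernel

theorem rows_ok_120 : rowsOK 14400 120 = true := by decide +kernel

theorem rows_ok_f10 : ∀ k, k < 11 → rowsOK (120 * (110 + k)) 120 = true
  | 0, _ => rows_ok_110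
  | 1, _ => rows_ok_111
  | 2, _ => rows_ok_112
  | 3, _ => rows_ok_113
  | 4, _ => rows_ok_114
  | 5, _ => rows_ok_115
  | 6, _ => rows_ok_116
  | 7, _ => rows_ok_117
  | 8, _ => rows_ok_118
  | 9, _ => rows_ok_119
  | 10, _ => rows_ok_120
  | k + 11, h => absurd h (by omega)

end Cfsg.Agent.Lib.Helper8.ONM
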