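import Cfsg.Agent.Lib.Helper8.ONM.C

/-! # The multiplier of the O'Nan group, the table over the subgroup of index 122760: the check of the rows 14520 to 15839 of the certificate (generated) -/

set_option autoImplicit false
set_option maxRecDepth 100000

namespace Cfsg.Agent.Lib.Helper8.ONM

theorem rows_ok_121 : rowsOK 14520 120 = true := by decide +kernel

theorem rows_ok_122 : rowsOK 14640 120 = true := by decide +kernel

theorem rows_ok_123 : rowsOK 14760 120 = true := by decide +kernel

theorem rows_ok_124 : rowsOK 14880 120 = true := by decide +kernel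

theorem rows_ok_125 : rowsOK 15000 120 = true := by decide +kernel

theorem rows_ok_126 : rowsOK 15120 120 = true := by decide +kernel

theorem rows_ok_127 : rowsOK 15240 120 = true := by decide +kernel

theorem rows_ok_128 : rowsOK 15360 120 = true := by decide +kernel

theorem rows_ok_129 : rowsOK 15480 120 = true := by decide +kernel

theorem rows_ok_130 : rowsOK 15600 120 = true := by decide +kernel

theorem rows_ok_131 : rowsOK 15720 120 = true := by decide +kernel

theorem rows_ok_f11 : ∀ k, k < 11 → rowsOK (120 * (121 + k)) 120 = true
  | 0, _ => rows_ok_121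
  | 1, _ => rows_ok_122
  | 2, _ => rows_ok_123
  | 3, _ => rows_ok_124
  | 4, _ => rows_ok_125
  | 5, _ => rows_ok_126
  | 6, _ => rows_ok_127
  | 7, _ => rows_ok_128
  | 8, _ => rows_ok_129
  | 9, _ => rows_ok_130
  | 10, _ => rows_ok_131
  | k + 11, h => absurd h (by omega)

end Cfsg.Agent.Lib.Helper8.ONM
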