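import Cfsg.Agent.Lib.Helper8.ONM.C

/-! # The multiplier of the O'Nan group, the table over the subgroup of index 122760: the check of the rows 0 to 1319 of the certificate (generated) -/

set_option autoImplicit false
set_option maxRecDepth 100000

namespace Cfsg.Agent.Lib.Helper8.ONM

theorem rows_ok_0 : rowsOK 0 120 = true := by decide +kernel

theorem rows_ok_1 : rowsOK 120 120 = true := by decide +kernel

theorem rows_ok_2 : rowsOK 240 120 = true := by decide +kernel

theorem rows_ok_3 : rowsOK 360 120 = true := by decide +kernel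

theorem rows_ok_4 : rowsOK 480 120 = true := by decide +kernel

theorem rows_ok_5 : rowsOK 600 120 = true := by decide +kernel

theorem rows_ok_6 : rowsOK 720 120 = true := by decide +kernel

theorem rows_ok_7 : rowsOK 840 120 = true := by decide +kernel

theorem rows_ok_8 : rowsOK 960 120 = true := by decide +kernel

theorem rows_ok_9 : rowsOK 1080 120 = true := by decide +kernel

theorem rows_ok_10 : rowsOK 1200 120 = true := by decide +kernel

theorem rows_ok_f0 : ∀ k, k < 11 → rowsOK (120 * (0 + k)) 120 = true
  | 0, _ => rows_ok_0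
  | 1, _ => rows_ok_1
  | 2, _ => rows_ok_2
  | 3, _ => rows_ok_3
  | 4, _ => rows_ok_4
  | 5, _ => rows_ok_5
  | 6, _ => rows_ok_6
  | 7, _ => rows_ok_7
  | 8, _ => rows_ok_8
  | 9, _ => rows_ok_9
  | 10, _ => rows_ok_10
  | k + 11, h => absurd h (by omega)

end Cfsg.Agent.Lib.Helper8.ONM
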