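import Cfsg.Agent.Lib.Helper8.ONM.C
import Cfsg.Agent.Lib.Helper8.ONM.K0

/-! # The multiplier of the O'Nan group, the table over the subgroup of index 122760: the check of the rows 15840 to 17159 of the certificate (generated) -/

set_option autoImplicit false
set_option maxRecDepth 100000

namespace Cfsg.Agent.Lib.Helper8.ONM

theorem rows_ok_132 : rowsOK 15840 120 = true := by decide +kernel

theorem rows_ok_133 : rowsOK 15960 120 = true := by decide +kernel

theorem rows_ok_134 : rowsOK 16080 120 = true := by decide +kernel

theorem rows_ok_135 : rowsOK 16200 120 = true := by decide +kernel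

theorem rows_ok_136 : rowsOK 16320 120 = true := by decide +kernel

theorem rows_ok_137 : rowsOK 16440 120 = true := by decide +kernel

theorem rows_ok_138 : rowsOK 16560 120 = true := by decide +kernel

theorem rows_ok_139 : rowsOK 16680 120 = true := by decide +kernel

theorem rows_ok_140 : rowsOK 16800 120 = true := by decide +kernel

theorem rows_ok_141 : rowsOK 16920 120 = true := by decide +kernel

theorem rows_ok_142 : rowsOK 17040 120 = true := by decide +kernel

theorem rows_ok_f12 : ∀ k, k < 11 → rowsOK (120 * (132 + k)) 120 = true
  | 0, _ => rows_ok_132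
  | 1, _ => rows_ok_133
  | 2, _ => rows_ok_134
  | 3, _ => rows_ok_135
  | 4, _ => rows_ok_136
  | 5, _ => rows_ok_137
  | 6, _ => rows_ok_138
  | 7, _ => rows_ok_139
  | 8, _ => rows_ok_140
  | 9, _ => rows_ok_141
  | 10, _ => rows_ok_142
  | k + 11, h => absurd h (by omega)

end Cfsg.Agent.Lib.Helper8.ONM
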