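import Cfsg.Agent.Lib.Helper8.ONM.C

/-! # The multiplier of the O'Nan group, the table over the subgroup of index 122760: the check of the rows 2640 to 3959 of the certificate (generated) -/

set_option autoImplicit false
set_option maxRecDepth 100000

namespace Cfsg.Agent.Lib.Helper8.ONM

theorem rows_ok_22 : rowsOK 2640 120 = true := by decide +kernel

theorem rows_ok_23 : rowsOK 2760 120 = true := by decide +kernel

theorem rows_ok_24 : rowsOK 2880 120 = true := by decide +kernel

theorem rows_ok_25 : rowsOK 3000 120 = true := by decide +kernel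

theorem rows_ok_26 : rowsOK 3120 120 = true := by decide +kernel

theorem rows_ok_27 : rowsOK 3240 120 = true := by decide +kernel

theorem rows_ok_28 : rowsOK 3360 120 = true := by decide +kernel

theorem rows_ok_29 : rowsOK 3480 120 = true := by decide +kernel

theorem rows_ok_30 : rowsOK 3600 120 = true := by decide +kernel

theorem rows_ok_31 : rowsOK 3720 120 = true := by decide +kernel

theorem rows_ok_32 : rowsOK 3840 120 = true := by decide +kernel

theorem rows_ok_f2 : ∀ k, k < 11 → rowsOK (120 * (22 + k)) 120 = true
  | 0, _ => rows_ok_22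
  | 1, _ => rows_ok_23
  | 2, _ => rows_ok_24
  | 3, _ => rows_ok_25
  | 4, _ => rows_ok_26
  | 5, _ => rows_ok_27
  | 6, _ => rows_ok_28
  | 7, _ => rows_ok_29
  | 8, _ => rows_ok_30
  | 9, _ => rows_ok_31
  | 10, _ => rows_ok_32
  | k + 11, h => absurd h (by omega)

end Cfsg.Agent.Lib.Helper8.ONM
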