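import Cfsg.Agent.Lib.Helper8.ONM.C
import Cfsg.Agent.Lib.Helper8.ONM.K2

/-! # The multiplier of the O'Nan group, the table over the subgroup of index 122760: the check of the rows 18480 to 19799 of the certificate (generated) -/

set_option autoImplicit false
set_option maxRecDepth 100000

namespace Cfsg.Agent.Lib.Helper8.ONM

theorem rows_ok_154 : rowsOK 18480 120 = true := by decide +kernel

theorem rows_ok_155 : rowsOK 18600 120 = true := by decide +kernel

theorem rows_ok_156 : rowsOK 18720 120 = true := by decide +kernel

theorem rows_ok_157 : rowsOK 18840 120 = true := by decide +kernel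

theorem rows_ok_158 : rowsOK 18960 120 = true := by decide +kernel

theorem rows_ok_159 : rowsOK 19080 120 = true := by decide +kernel

theorem rows_ok_160 : rowsOK 19200 120 = true := by decide +kernel

theorem rows_ok_161 : rowsOK 19320 120 = true := by decide +kernel

theorem rows_ok_162 : rowsOK 19440 120 = true := by decide +kernel

theorem rows_ok_163 : rowsOK 19560 120 = true := by decide +kernel

theorem rows_ok_164 : rowsOK 19680 120 = true := by decide +kernel

theorem rows_ok_f14 : ∀ k, k < 11 → rowsOK (120 * (154 + k)) 120 = true
  | 0, _ => rows_ok_154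
  | 1, _ => rows_ok_155
  | 2, _ => rows_ok_156
  | 3, _ => rows_ok_157
  | 4, _ => rows_ok_158
  | 5, _ => rows_ok_159
  | 6, _ => rows_ok_160
  | 7, _ => rows_ok_161
  | 8, _ => rows_ok_162
  | 9, _ => rows_ok_163
  | 10, _ => rows_ok_164
  | k + 11, h => absurd h (by omega)

end Cfsg.Agent.Lib.Helper8.ONM
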