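import Cfsg.Agent.Lib.Helper8.ONM.C

/-! # The multiplier of the O'Nan group, the table over the subgroup of index 122760: the check of the rows 3960 to 5279 of the certificate (generated) -/

set_option autoImplicit false
set_option maxRecDepth 100000

namespace Cfsg.Agent.Lib.Helper8.ONM

theorem rows_ok_33 : rowsOK 3960 120 = true := by decide +kernel

theorem rows_ok_34 : rowsOK 4080 120 = true := by decide +kernel

theorem rows_ok_35 : rowsOK 4200 120 = true := by decide +kernel

theorem rows_ok_36 : rowsOK 4320 120 = true := by decide +kernel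

theorem rows_ok_37 : rowsOK 4440 120 = true := by decide +kernel

theorem rows_ok_38 : rowsOK 4560 120 = true := by decide +kernel

theorem rows_ok_39 : rowsOK 4680 120 = true := by decide +kernel

theorem rows_ok_40 : rowsOK 4800 120 = true := by decide +kernel

theorem rows_ok_41 : rowsOK 4920 120 = true := by decide +kernel

theorem rows_ok_42 : rowsOK 5040 120 = true := by decide +kernel

theorem rows_ok_43 : rowsOK 5160 120 = true := by decide +kernel

theorem rows_ok_f3 : ∀ k, k < 11 → rowsOK (120 * (33 + k)) 120 = true
  | 0, _ => rows_ok_33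
  | 1, _ => rows_ok_34
  | 2, _ => rows_ok_35
  | 3, _ => rows_ok_36
  | 4, _ => rows_ok_37
  | 5, _ => rows_ok_38
  | 6, _ => rows_ok_39
  | 7, _ => rows_ok_40
  | 8, _ => rows_ok_41
  | 9, _ => rows_ok_42
  | 10, _ => rows_ok_43
  | k + 11, h => absurd h (by omega)

end Cfsg.Agent.Lib.Helper8.ONM
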