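import Cfsg.Agent.Lib.Helper8.ONM.C
import Cfsg.Agent.Lib.Helper8.ONM.K3

/-! # The multiplier of the O'Nan group, the table over the subgroup of index 122760: the check of the rows 19800 to 21119 of the certificate (generated) -/

set_option autoImplicit false
set_option maxRecDepth 100000

namespace Cfsg.Agent.Lib.Helper8.ONM

theorem rows_ok_165 : rowsOK 19800 120 = true := by decide +kernel

theorem rows_ok_166 : rowsOK 19920 120 = true := by decide +kernel

theorem rows_ok_167 : rowsOK 20040 120 = true := by decide +kernel

theorem rows_ok_168 : rowsOK 20160 120 = true := by decide +kernel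

theorem rows_ok_169 : rowsOK 20280 120 = true := by decide +kernel

theorem rows_ok_170 : rowsOK 20400 120 = true := by decide +kernel

theorem rows_ok_171 : rowsOK 20520 120 = true := by decide +kernel

theorem rows_ok_172 : rowsOK 20640 120 = true := by decide +kernel

theorem rows_ok_173 : rowsOK 20760 120 = true := by decide +kernel

theorem rows_ok_174 : rowsOK 20880 120 = true := by decide +kernel

theorem rows_ok_175 : rowsOK 21000 120 = true := by decide +kernel

theorem rows_ok_f15 : ∀ k, k < 11 → rowsOK (120 * (165 + k)) 120 = true
  | 0, _ => rows_ok_165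
  | 1, _ => rows_ok_166
  | 2, _ => rows_ok_167
  | 3, _ => rows_ok_168
  | 4, _ => rows_ok_169
  | 5, _ => rows_ok_170
  | 6, _ => rows_ok_171
  | 7, _ => rows_ok_172
  | 8, _ => rows_ok_173
  | 9, _ => rows_ok_174
  | 10, _ => rows_ok_175
  | k + 11, h => absurd h (by omega)

end Cfsg.Agent.Lib.Helper8.ONM
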