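import Cfsg.Agent.Lib.Helper8.ONM.C

/-! # The multiplier of the O'Nan group, the table over the subgroup of index 122760: the check of the rows 5280 to 6599 of the certificate (generated) -/

set_option autoImplicit false
set_option maxRecDepth 100000

namespace Cfsg.Agent.Lib.Helper8.ONM

theorem rows_ok_44 : rowsOK 5280 120 = true := by decide +kernel

theorem rows_ok_45 : rowsOK 5400 120 = true := by decide +kernel

theorem rows_ok_46 : rowsOK 5520 120 = true := by decide +kernel

theorem rows_ok_47 : rowsOK 5640 120 = true := by decide +kernel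

theorem rows_ok_48 : rowsOK 5760 120 = true := by decide +kernel

theorem rows_ok_49 : rowsOK 5880 120 = true := by decide +kernel

theorem rows_ok_50 : rowsOK 6000 120 = true := by decide +kernel

theorem rows_ok_51 : rowsOK 6120 120 = true := by decide +kernel

theorem rows_ok_52 : rowsOK 6240 120 = true := by decide +kernel

theorem rows_ok_53 : rowsOK 6360 120 = true := by decide +kernel

theorem rows_ok_54 : rowsOK 6480 120 = true := by decide +kernel

theorem rows_ok_f4 : ∀ k, k < 11 → rowsOK (120 * (44 + k)) 120 = true
  | 0, _ => rows_ok_44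
  | 1, _ => rows_ok_45
  | 2, _ => rows_ok_46
  | 3, _ => rows_ok_47
  | 4, _ => rows_ok_48
  | 5, _ => rows_ok_49
  | 6, _ => rows_ok_50
  | 7, _ => rows_ok_51
  | 8, _ => rows_ok_52
  | 9, _ => rows_ok_53
  | 10, _ => rows_ok_54
  | k + 11, h => absurd h (by omega)

end Cfsg.Agent.Lib.Helper8.ONM
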