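import Cfsg.Agent.Lib.Helper8.ONM.C
import Cfsg.Agent.Lib.Helper8.ONM.K4

/-! # The multiplier of the O'Nan group, the table over the subgroup of index 122760: the check of the rows 21120 to 22439 of the certificate (generated) -/

set_option autoImplicit false
set_option maxRecDepth 100000

namespace Cfsg.Agent.Lib.Helper8.ONM

theorem rows_ok_176 : rowsOK 21120 120 = true := by decide +kernel

theorem rows_ok_177 : rowsOK 21240 120 = true := by decide +kernel

theorem rows_ok_178 : rowsOK 21360 120 = true := by decide +kernel

theorem rows_ok_179 : rowsOK 21480 120 = true := by decide +kernel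

theorem rows_ok_180 : rowsOK 21600 120 = true := by decide +kernel

theorem rows_ok_181 : rowsOK 21720 120 = true := by decide +kernel

theorem rows_ok_182 : rowsOK 21840 120 = true := by decide +kernel

theorem rows_ok_183 : rowsOK 21960 120 = true := by decide +kernel

theorem rows_ok_184 : rowsOK 22080 120 = true := by decide +kernel

theorem rows_ok_185 : rowsOK 22200 120 = true := by decide +kernel

theorem rows_ok_186 : rowsOK 22320 120 = true := by decide +kernel

theorem rows_ok_f16 : ∀ k, k < 11 → rowsOK (120 * (176 + k)) 120 = true
  | 0, _ => rows_ok_176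
  | 1, _ => rows_ok_177
  | 2, _ => rows_ok_178
  | 3, _ => rows_ok_179
  | 4, _ => rows_ok_180
  | 5, _ => rows_ok_181
  | 6, _ => rows_ok_182
  | 7, _ => rows_ok_183
  | 8, _ => rows_ok_184
  | 9, _ => rows_ok_185
  | 10, _ => rows_ok_186
  | k + 11, h => absurd h (by omega)

end Cfsg.Agent.Lib.Helper8.ONM
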