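import Cfsg.Agent.Lib.Helper8.ONM.C

/-! # The multiplier of the O'Nan group, the table over the subgroup of index 122760: the check of the rows 6600 to 7919 of the certificate (generated) -/

set_option autoImplicit false
set_option maxRecDepth 100000

namespace Cfsg.Agent.Lib.Helper8.ONM

theorem rows_ok_55 : rowsOK 6600 120 = true := by decide +kernel

theorem rows_ok_56 : rowsOK 6720 120 = true := by decide +kernel

theorem rows_ok_57 : rowsOK 6840 120 = true := by decide +kernel

theorem rows_ok_58 : rowsOK 6960 120 = true := by decide +kernel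

theorem rows_ok_59 : rowsOK 7080 120 = true := by decide +kernel

theorem rows_ok_60 : rowsOK 7200 120 = true := by decide +kernel

theorem rows_ok_61 : rowsOK 7320 120 = true := by decide +kernel

theorem rows_ok_62 : rowsOK 7440 120 = true := by decide +kernel

theorem rows_ok_63 : rowsOK 7560 120 = true := by decide +kernel

theorem rows_ok_64 : rowsOK 7680 120 = true := by decide +kernel

theorem rows_ok_65 : rowsOK 7800 120 = true := by decide +kernel

theorem rows_ok_f5 : ∀ k, k < 11 → rowsOK (120 * (55 + k)) 120 = true
  | 0, _ => rows_ok_55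
  | 1, _ => rows_ok_56
  | 2, _ => rows_ok_57
  | 3, _ => rows_ok_58
  | 4, _ => rows_ok_59
  | 5, _ => rows_ok_60
  | 6, _ => rows_ok_61
  | 7, _ => rows_ok_62
  | 8, _ => rows_ok_63
  | 9, _ => rows_ok_64
  | 10, _ => rows_ok_65
  | k + 11, h => absurd h (by omega)

end Cfsg.Agent.Lib.Helper8.ONM
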