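import Cfsg.Agent.Lib.Helper8.ONM.C
import Cfsg.Agent.Lib.Helper8.ONM.K5

/-! # The multiplier of the O'Nan group, the table over the subgroup of index 122760: the check of the rows 22440 to 23759 of the certificate (generated) -/

set_option autoImplicit false
set_option maxRecDepth 100000

namespace Cfsg.Agent.Lib.Helper8.ONM

theorem rows_ok_187 : rowsOK 22440 120 = true := by decide +kernel

theorem rows_ok_188 : rowsOK 22560 120 = true := by decide +kernel

theorem rows_ok_189 : rowsOK 22680 120 = true := by decide +kernel

theorem rows_ok_190 : rowsOK 22800 120 = true := by decide +kernel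

theorem rows_ok_191 : rowsOK 22920 120 = true := by decide +kernel

theorem rows_ok_192 : rowsOK 23040 120 = true := by decide +kernel

theorem rows_ok_193 : rowsOK 23160 120 = true := by decide +kernel

theorem rows_ok_194 : rowsOK 23280 120 = true := by decide +kernel

theorem rows_ok_195 : rowsOK 23400 120 = true := by decide +kernel

theorem rows_ok_196 : rowsOK 23520 120 = true := by decide +kernel

theorem rows_ok_197 : rowsOK 23640 120 = true := by decide +kernel

theorem rows_ok_f17 : ∀ k, k < 11 → rowsOK (120 * (187 + k)) 120 = true
  | 0, _ => rows_ok_187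
  | 1, _ => rows_ok_188
  | 2, _ => rows_ok_189
  | 3, _ => rows_ok_190
  | 4, _ => rows_ok_191
  | 5, _ => rows_ok_192
  | 6, _ => rows_ok_193
  | 7, _ => rows_ok_194
  | 8, _ => rows_ok_195
  | 9, _ => rows_ok_196
  | 10, _ => rows_ok_197
  | k + 11, h => absurd h (by omega)

end Cfsg.Agent.Lib.Helper8.ONM
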