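import Cfsg.Agent.Lib.Helper8.ONM.C

/-! # The multiplier of the O'Nan group, the table over the subgroup of index 122760: the check of the rows 7920 to 9239 of the certificate (generated) -/

set_option autoImplicit false
set_option maxRecDepth 100000

namespace Cfsg.Agent.Lib.Helper8.ONM

theorem rows_ok_66 : rowsOK 7920 120 = true := by decide +kernel

theorem rows_ok_67 : rowsOK 8040 120 = true := by decide +kernel

theorem rows_ok_68 : rowsOK 8160 120 = true := by decide +kernel

theorem rows_ok_69 : rowsOK 8280 120 = true := by decide +kernel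

theorem rows_ok_70 : rowsOK 8400 120 = true := by decide +kernel

theorem rows_ok_71 : rowsOK 8520 120 = true := by decide +kernel

theorem rows_ok_72 : rowsOK 8640 120 = true := by decide +kernel

theorem rows_ok_73 : rowsOK 8760 120 = true := by decide +kernel

theorem rows_ok_74 : rowsOK 8880 120 = true := by decide +kernel

theorem rows_ok_75 : rowsOK 9000 120 = true := by decide +kernel

theorem rows_ok_76 : rowsOK 9120 120 = true := by decide +kernel

theorem rows_ok_f6 : ∀ k, k < 11 → rowsOK (120 * (66 + k)) 120 = true
  | 0, _ => rows_ok_66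
  | 1, _ => rows_ok_67
  | 2, _ => rows_ok_68
  | 3, _ => rows_ok_69
  | 4, _ => rows_ok_70
  | 5, _ => rows_ok_71
  | 6, _ => rows_ok_72
  | 7, _ => rows_ok_73
  | 8, _ => rows_ok_74
  | 9, _ => rows_ok_75
  | 10, _ => rows_ok_76
  | k + 11, h => absurd h (by omega)

end Cfsg.Agent.Lib.Helper8.ONM
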