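import Cfsg.Agent.Lib.Helper8.ONM.C
import Cfsg.Agent.Lib.Helper8.ONM.K6

/-! # The multiplier of the O'Nan group, the table over the subgroup of index 122760: the check of the rows 23760 to 25079 of the certificate (generated) -/

set_option autoImplicit false
set_option maxRecDepth 100000

namespace Cfsg.Agent.Lib.Helper8.ONM

theorem rows_ok_198 : rowsOK 23760 120 = true := by decide +kernel

theorem rows_ok_199 : rowsOK 23880 120 = true := by decide +kernel

theorem rows_ok_200 : rowsOK 24000 120 = true := by decide +kernel

theorem rows_ok_201 : rowsOK 24120 120 = true := by decide +kernel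

theorem rows_ok_202 : rowsOK 24240 120 = true := by decide +kernel

theorem rows_ok_203 : rowsOK 24360 120 = true := by decide +kernel

theorem rows_ok_204 : rowsOK 24480 120 = true := by decide +kernel

theorem rows_ok_205 : rowsOK 24600 120 = true := by decide +kernel

theorem rows_ok_206 : rowsOK 24720 120 = true := by decide +kernel

theorem rows_ok_207 : rowsOK 24840 120 = true := by decide +kernel

theorem rows_ok_208 : rowsOK 24960 120 = true := by decide +kernel

theorem rows_ok_f18 : ∀ k, k < 11 → rowsOK (120 * (198 + k)) 120 = true
  | 0, _ => rows_ok_198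
  | 1, _ => rows_ok_199
  | 2, _ => rows_ok_200
  | 3, _ => rows_ok_201
  | 4, _ => rows_ok_202
  | 5, _ => rows_ok_203
  | 6, _ => rows_ok_204
  | 7, _ => rows_ok_205
  | 8, _ => rows_ok_206
  | 9, _ => rows_ok_207
  | 10, _ => rows_ok_208
  | k + 11, h => absurd h (by omega)

end Cfsg.Agent.Lib.Helper8.ONM
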