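import Cfsg.Agent.Lib.Helper8.ONM.C

/-! # The multiplier of the O'Nan group, the table over the subgroup of index 122760: the check of the rows 9240 to 10559 of the certificate (generated) -/

set_option autoImplicit false
set_option maxRecDepth 100000

namespace Cfsg.Agent.Lib.Helper8.ONM

theorem rows_ok_77 : rowsOK 9240 120 = true := by decide +kernel

theorem rows_ok_78 : rowsOK 9360 120 = true := by decide +kernel

theorem rows_ok_79 : rowsOK 9480 120 = true := by decide +kernel

theorem rows_ok_80 : rowsOK 9600 120 = true := by decide +kernel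

theorem rows_ok_81 : rowsOK 9720 120 = true := by decide +kernel

theorem rows_ok_82 : rowsOK 9840 120 = true := by decide +kernel

theorem rows_ok_83 : rowsOK 9960 120 = true := by decide +kernel

theorem rows_ok_84 : rowsOK 10080 120 = true := by decide +kernel

theorem rows_ok_85 : rowsOK 10200 120 = true := by decide +kernel

theorem rows_ok_86 : rowsOK 10320 120 = true := by decide +kernel

theorem rows_ok_87 : rowsOK 10440 120 = true := by decide +kernel

theorem rows_ok_f7 : ∀ k, k < 11 → rowsOK (120 * (77 + k)) 120 = true
  | 0, _ => rows_ok_77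
  | 1, _ => rows_ok_78
  | 2, _ => rows_ok_79
  | 3, _ => rows_ok_80
  | 4, _ => rows_ok_81
  | 5, _ => rows_ok_82
  | 6, _ => rows_ok_83
  | 7, _ => rows_ok_84
  | 8, _ => rows_ok_85
  | 9, _ => rows_ok_86
  | 10, _ => rows_ok_87
  | k + 11, h => absurd h (by omega)

end Cfsg.Agent.Lib.Helper8.ONM
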