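import Cfsg.Agent.Lib.Helper8.ONM.C
import Cfsg.Agent.Lib.Helper8.ONM.K7

/-! # The multiplier of the O'Nan group, the table over the subgroup of index 122760: the check of the rows 25080 to 26399 of the certificate (generated) -/

set_option autoImplicit false
set_option maxRecDepth 100000

namespace Cfsg.Agent.Lib.Helper8.ONM

theorem rows_ok_209 : rowsOK 25080 120 = true := by decide +kernel

theorem rows_ok_210 : rowsOK 25200 120 = true := by decide +kernel

theorem rows_ok_211 : rowsOK 25320 120 = true := by decide +kernel

theorem rows_ok_212 : rowsOK 25440 120 = true := by decide +kernel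

theorem rows_ok_213 : rowsOK 25560 120 = true := by decide +kernel

theorem rows_ok_214 : rowsOK 25680 120 = true := by decide +kernel

theorem rows_ok_215 : rowsOK 25800 120 = true := by decide +kernel

theorem rows_ok_216 : rowsOK 25920 120 = true := by decide +kernel

theorem rows_ok_217 : rowsOK 26040 120 = true := by decide +kernel

theorem rows_ok_218 : rowsOK 26160 120 = true := by decide +kernel

theorem rows_ok_219 : rowsOK 26280 120 = true := by decide +kernel

theorem rows_ok_f19 : ∀ k, k < 11 → rowsOK (120 * (209 + k)) 120 = true
  | 0, _ => rows_ok_209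
  | 1, _ => rows_ok_210
  | 2, _ => rows_ok_211
  | 3, _ => rows_ok_212
  | 4, _ => rows_ok_213
  | 5, _ => rows_ok_214
  | 6, _ => rows_ok_215
  | 7, _ => rows_ok_216
  | 8, _ => rows_ok_217
  | 9, _ => rows_ok_218
  | 10, _ => rows_ok_219
  | k + 11, h => absurd h (by omega)

end Cfsg.Agent.Lib.Helper8.ONM
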