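import Cfsg.Agent.Lib.Helper8.ONM.C

/-! # The multiplier of the O'Nan group, the table over the subgroup of index 122760: the check of the rows 10560 to 11879 of the certificate (generated) -/

set_option autoImplicit false
set_option maxRecDepth 100000

namespace Cfsg.Agent.Lib.Helper8.ONM

theorem rows_ok_88 : rowsOK 10560 120 = true := by decide +kernel

theorem rows_ok_89 : rowsOK 10680 120 = true := by decide +kernel

theorem rows_ok_90 : rowsOK 10800 120 = true := by decide +kernel

theorem rows_ok_91 : rowsOK 10920 120 = true := by decide +kernel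

theorem rows_ok_92 : rowsOK 11040 120 = true := by decide +kernel

theorem rows_ok_93 : rowsOK 11160 120 = true := by decide +kernel

theorem rows_ok_94 : rowsOK 11280 120 = true := by decide +kernel

theorem rows_ok_95 : rowsOK 11400 120 = true := by decide +kernel

theorem rows_ok_96 : rowsOK 11520 120 = true := by decide +kernel

theorem rows_ok_97 : rowsOK 11640 120 = true := by decide +kernel

theorem rows_ok_98 : rowsOK 11760 120 = true := by decide +kernel

theorem rows_ok_f8 : ∀ k, k < 11 → rowsOK (120 * (88 + k)) 120 = true
  | 0, _ => rows_ok_88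
  | 1, _ => rows_ok_89
  | 2, _ => rows_ok_90
  | 3, _ => rows_ok_91
  | 4, _ => rows_ok_92
  | 5, _ => rows_ok_93
  | 6, _ => rows_ok_94
  | 7, _ => rows_ok_95
  | 8, _ => rows_ok_96
  | 9, _ => rows_ok_97
  | 10, _ => rows_ok_98
  | k + 11, h => absurd h (by omega)

end Cfsg.Agent.Lib.Helper8.ONM
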