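import Cfsg.Agent.Lib.Helper8.ONM.C
import Cfsg.Agent.Lib.Helper8.ONM.K8

/-! # The multiplier of the O'Nan group, the table over the subgroup of index 122760: the check of the rows 26400 to 27719 of the certificate (generated) -/

set_option autoImplicit false
set_option maxRecDepth 100000

namespace Cfsg.Agent.Lib.Helper8.ONM

theorem rows_ok_220 : rowsOK 26400 120 = true := by decide +kernel

theorem rows_ok_221 : rowsOK 26520 120 = true := by decide +kernel

theorem rows_ok_222 : rowsOK 26640 120 = true := by decide +kernel

theorem rows_ok_223 : rowsOK 26760 120 = true := by decide +kernel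

theorem rows_ok_224 : rowsOK 26880 120 = true := by decide +kernel

theorem rows_ok_225 : rowsOK 27000 120 = true := by decide +kernel

theorem rows_ok_226 : rowsOK 27120 120 = true := by decide +kernel

theorem rows_ok_227 : rowsOK 27240 120 = true := by decide +kernel

theorem rows_ok_228 : rowsOK 27360 120 = true := by decide +kernel

theorem rows_ok_229 : rowsOK 27480 120 = true := by decide +kernel

theorem rows_ok_230 : rowsOK 27600 120 = true := by decide +kernel

theorem rows_ok_f20 : ∀ k, k < 11 → rowsOK (120 * (220 + k)) 120 = true
  | 0, _ => rows_ok_220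
  | 1, _ => rows_ok_221
  | 2, _ => rows_ok_222
  | 3, _ => rows_ok_223
  | 4, _ => rows_ok_224
  | 5, _ => rows_ok_225
  | 6, _ => rows_ok_226
  | 7, _ => rows_ok_227
  | 8, _ => rows_ok_228
  | 9, _ => rows_ok_229
  | 10, _ => rows_ok_230
  | k + 11, h => absurd h (by omega)

end Cfsg.Agent.Lib.Helper8.ONM
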