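import Cfsg.Agent.Lib.Helper8.ONM.C

/-! # The multiplier of the O'Nan group, the table over the subgroup of index 122760: the check of the rows 11880 to 13199 of the certificate (generated) -/

set_option autoImplicit false
set_option maxRecDepth 100000

namespace Cfsg.Agent.Lib.Helper8.ONM

theorem rows_ok_99 : rowsOK 11880 120 = true := by decide +kernel

theorem rows_ok_100 : rowsOK 12000 120 = true := by decide +kernel

theorem rows_ok_101 : rowsOK 12120 120 = true := by decide +kernel

theorem rows_ok_102 : rowsOK 12240 120 = true := by decide +kernel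

theorem rows_ok_103 : rowsOK 12360 120 = true := by decide +kernel

theorem rows_ok_104 : rowsOK 12480 120 = true := by decide +kernel

theorem rows_ok_105 : rowsOK 12600 120 = true := by decide +kernel

theorem rows_ok_106 : rowsOK 12720 120 = true := by decide +kernel

theorem rows_ok_107 : rowsOK 12840 120 = true := by decide +kernel

theorem rows_ok_108 : rowsOK 12960 120 = true := by decide +kernel

theorem rows_ok_109 : rowsOK 13080 120 = true := by decide +kernel

theorem rows_ok_f9 : ∀ k, k < 11 → rowsOK (120 * (99 + k)) 120 = true
  | 0, _ => rows_ok_99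
  | 1, _ => rows_ok_100
  | 2, _ => rows_ok_101
  | 3, _ => rows_ok_102
  | 4, _ => rows_ok_103
  | 5, _ => rows_ok_104
  | 6, _ => rows_ok_105
  | 7, _ => rows_ok_106
  | 8, _ => rows_ok_107
  | 9, _ => rows_ok_108
  | 10, _ => rows_ok_109
  | k + 11, h => absurd h (by omega)

end Cfsg.Agent.Lib.Helper8.ONM
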