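import Cfsg.Agent.Lib.Helper8.ONM.C
import Cfsg.Agent.Lib.Helper8.ONM.K9

/-! # The multiplier of the O'Nan group, the table over the subgroup of index 122760: the check of the rows 27720 to 29039 of the certificate (generated) -/

set_option autoImplicit false
set_option maxRecDepth 100000

namespace Cfsg.Agent.Lib.Helper8.ONM

theorem rows_ok_231 : rowsOK 27720 120 = true := by decide +kernel

theorem rows_ok_232 : rowsOK 27840 120 = true := by decide +kernel

theorem rows_ok_233 : rowsOK 27960 120 = true := by decide +kernel

theorem rows_ok_234 : rowsOK 28080 120 = true := by decide +kernel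

theorem rows_ok_235 : rowsOK 28200 120 = true := by decide +kernel

theorem rows_ok_236 : rowsOK 28320 120 = true := by decide +kernel

theorem rows_ok_237 : rowsOK 28440 120 = true := by decide +kernel

theorem rows_ok_238 : rowsOK 28560 120 = true := by decide +kernel

theorem rows_ok_239 : rowsOK 28680 120 = true := by decide +kernel

theorem rows_ok_240 : rowsOK 28800 120 = true := by decide +kernel

theorem rows_ok_241 : rowsOK 28920 120 = true := by decide +kernel

theorem rows_ok_f21 : ∀ k, k < 11 → rowsOK (120 * (231 + k)) 120 = true
  | 0, _ => rows_ok_231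
  | 1, _ => rows_ok_232
  | 2, _ => rows_ok_233
  | 3, _ => rows_ok_234
  | 4, _ => rows_ok_235
  | 5, _ => rows_ok_236
  | 6, _ => rows_ok_237
  | 7, _ => rows_ok_238
  | 8, _ => rows_ok_239
  | 9, _ => rows_ok_240
  | 10, _ => rows_ok_241
  | k + 11, h => absurd h (by omega)

end Cfsg.Agent.Lib.Helper8.ONM
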