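import Cfsg.Agent.Lib.Helper8.ONM.C
import Cfsg.Agent.Lib.Helper8.ONM.K10

/-! # The multiplier of the O'Nan group, the table over the subgroup of index 122760: the check of the rows 29040 to 30359 of the certificate (generated) -/

set_option autoImplicit false
set_option maxRecDepth 100000

namespace Cfsg.Agent.Lib.Helper8.ONM

theorem rows_ok_242 : rowsOK 29040 120 = true := by decide +kernel

theorem rows_ok_243 : rowsOK 29160 120 = true := by decide +kernel

theorem rows_ok_244 : rowsOK 29280 120 = true := by decide +kernel

theorem rows_ok_245 : rowsOK 29400 120 = true := by decide +kernel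

theorem rows_ok_246 : rowsOK 29520 120 = true := by decide +kernel

theorem rows_ok_247 : rowsOK 29640 120 = true := by decide +kernel

theorem rows_ok_248 : rowsOK 29760 120 = true := by decide +kernel

theorem rows_ok_249 : rowsOK 29880 120 = true := by decide +kernel

theorem rows_ok_250 : rowsOK 30000 120 = true := by decide +kernel

theorem rows_ok_251 : rowsOK 30120 120 = true := by decide +kernel

theorem rows_ok_252 : rowsOK 30240 120 = true := by decide +kernel

theorem rows_ok_f22 : ∀ k, k < 11 → rowsOK (120 * (242 + k)) 120 = true
  | 0, _ => rows_ok_242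
  | 1, _ => rows_ok_243
  | 2, _ => rows_ok_244
  | 3, _ => rows_ok_245
  | 4, _ => rows_ok_246
  | 5, _ => rows_ok_247
  | 6, _ => rows_ok_248
  | 7, _ => rows_ok_249
  | 8, _ => rows_ok_250
  | 9, _ => rows_ok_251
  | 10, _ => rows_ok_252
  | k + 11, h => absurd h (by omega)

end Cfsg.Agent.Lib.Helper8.ONM
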