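import Cfsg.Agent.Lib.Helper8.ONM.C
import Cfsg.Agent.Lib.Helper8.ONM.K11

/-! # The multiplier of the O'Nan group, the table over the subgroup of index 122760: the check of the rows 30360 to 31679 of the certificate (generated) -/

set_option autoImplicit false
set_option maxRecDepth 100000

namespace Cfsg.Agent.Lib.Helper8.ONM

theorem rows_ok_253 : rowsOK 30360 120 = true := by decide +kernel

theorem rows_ok_254 : rowsOK 30480 120 = true := by decide +kernel

theorem rows_ok_255 : rowsOK 30600 120 = true := by decide +kernel

theorem rows_ok_256 : rowsOK 30720 120 = true := by decide +kernel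

theorem rows_ok_257 : rowsOK 30840 120 = true := by decide +kernel

theorem rows_ok_258 : rowsOK 30960 120 = true := by decide +kernel

theorem rows_ok_259 : rowsOK 31080 120 = true := by decide +kernel

theorem rows_ok_260 : rowsOK 31200 120 = true := by decide +kernel

theorem rows_ok_261 : rowsOK 31320 120 = true := by decide +kernel

theorem rows_ok_262 : rowsOK 31440 120 = true := by decide +kernel

theorem rows_ok_263 : rowsOK 31560 120 = true := by decide +kernel

theorem rows_ok_f23 : ∀ k, k < 11 → rowsOK (120 * (253 + k)) 120 = true
  | 0, _ => rows_ok_253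
  | 1, _ => rows_ok_254
  | 2, _ => rows_ok_255
  | 3, _ => rows_ok_256
  | 4, _ => rows_ok_257
  | 5, _ => rows_ok_258
  | 6, _ => rows_ok_259
  | 7, _ => rows_ok_260
  | 8, _ => rows_ok_261
  | 9, _ => rows_ok_262
  | 10, _ => rows_ok_263
  | k + 11, h => absurd h (by omega)

end Cfsg.Agent.Lib.Helper8.ONM
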