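import Cfsg.Agent.Lib.Helper8.ONM.C
import Cfsg.Agent.Lib.Helper8.ONM.K12

/-! # The multiplier of the O'Nan group, the table over the subgroup of index 122760: the check of the rows 31680 to 32999 of the certificate (generated) -/

set_option autoImplicit false
set_option maxRecDepth 100000

namespace Cfsg.Agent.Lib.Helper8.ONM

theorem rows_ok_264 : rowsOK 31680 120 = true := by decide +kernel

theorem rows_ok_265 : rowsOK 31800 120 = true := by decide +kernel

theorem rows_ok_266 : rowsOK 31920 120 = true := by decide +kernel

theorem rows_ok_267 : rowsOK 32040 120 = true := by decide +kernel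

theorem rows_ok_268 : rowsOK 32160 120 = true := by decide +kernel

theorem rows_ok_269 : rowsOK 32280 120 = true := by decide +kernel

theorem rows_ok_270 : rowsOK 32400 120 = true := by decide +kernel

theorem rows_ok_271 : rowsOK 32520 120 = true := by decide +kernel

theorem rows_ok_272 : rowsOK 32640 120 = true := by decide +kernel

theorem rows_ok_273 : rowsOK 32760 120 = true := by decide +kernel

theorem rows_ok_274 : rowsOK 32880 120 = true := by decide +kernel

theorem rows_ok_f24 : ∀ k, k < 11 → rowsOK (120 * (264 + k)) 120 = true
  | 0, _ => rows_ok_264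
  | 1, _ => rows_ok_265
  | 2, _ => rows_ok_266
  | 3, _ => rows_ok_267
  | 4, _ => rows_ok_268
  | 5, _ => rows_ok_269
  | 6, _ => rows_ok_270
  | 7, _ => rows_ok_271
  | 8, _ => rows_ok_272
  | 9, _ => rows_ok_273
  | 10, _ => rows_ok_274
  | k + 11, h => absurd h (by omega)

end Cfsg.Agent.Lib.Helper8.ONM
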