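import Cfsg.Agent.Lib.Helper8.ONM.C
import Cfsg.Agent.Lib.Helper8.ONM.K1

/-! # The multiplier of the O'Nan group, the table over the subgroup of index 122760: the check of the rows 17160 to 18479 of the certificate (generated) -/

set_option autoImplicit false
set_option maxRecDepth 100000

namespace Cfsg.Agent.Lib.Helper8.ONM

theorem rows_ok_143 : rowsOK 17160 120 = true := by decide +kernel

theorem rows_ok_144 : rowsOK 17280 120 = true := by decide +kernel

theorem rows_ok_145 : rowsOK 17400 120 = true := by decide +kernel

theorem rows_ok_146 : rowsOK 17520 120 = true := by decide +kernel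

theorem rows_ok_147 : rowsOK 17640 120 = true := by decide +kernel

theorem rows_ok_148 : rowsOK 17760 120 = true := by decide +kernel

theorem rows_ok_149 : rowsOK 17880 120 = true := by decide +kernel

theorem rows_ok_150 : rowsOK 18000 120 = true := by decide +kernel

theorem rows_ok_151 : rowsOK 18120 120 = true := by decide +kernel

theorem rows_ok_152 : rowsOK 18240 120 = true := by decide +kernel

theorem rows_ok_153 : rowsOK 18360 120 = true := by decide +kernel

theorem rows_ok_f13 : ∀ k, k < 11 → rowsOK (120 * (143 + k)) 120 = true
  | 0, _ => rows_ok_143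
  | 1, _ => rows_ok_144
  | 2, _ => rows_ok_145
  | 3, _ => rows_ok_146
  | 4, _ => rows_ok_147
  | 5, _ => rows_ok_148
  | 6, _ => rows_ok_149
  | 7, _ => rows_ok_150
  | 8, _ => rows_ok_151
  | 9, _ => rows_ok_152
  | 10, _ => rows_ok_153
  | k + 11, h => absurd h (by omega)

end Cfsg.Agent.Lib.Helper8.ONM
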