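import Cfsg.Agent.Lib.Helper8.ONM.C
import Cfsg.Agent.Lib.Helper8.ONM.K13

/-! # The multiplier of the O'Nan group, the table over the subgroup of index 122760: the check of the rows 33000 to 34319 of the certificate (generated) -/

set_option autoImplicit false
set_option maxRecDepth 100000

namespace Cfsg.Agent.Lib.Helper8.ONM

theorem rows_ok_275 : rowsOK 33000 120 = true := by decide +kernel

theorem rows_ok_276 : rowsOK 33120 120 = true := by decide +kernel

theorem rows_ok_277 : rowsOK 33240 120 = true := by decide +kernel

theorem rows_ok_278 : rowsOK 33360 120 = true := by decide +kernel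

theorem rows_ok_279 : rowsOK 33480 120 = true := by decide +kernel

theorem rows_ok_280 : rowsOK 33600 120 = true := by decide +kernel

theorem rows_ok_281 : rowsOK 33720 120 = true := by decide +kernel

theorem rows_ok_282 : rowsOK 33840 120 = true := by decide +kernel

theorem rows_ok_283 : rowsOK 33960 120 = true := by decide +kernel

theorem rows_ok_284 : rowsOK 34080 120 = true := by decide +kernel

theorem rows_ok_285 : rowsOK 34200 120 = true := by decide +kernel

theorem rows_ok_f25 : ∀ k, k < 11 → rowsOK (120 * (275 + k)) 120 = true
  | 0, _ => rows_ok_275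
  | 1, _ => rows_ok_276
  | 2, _ => rows_ok_277
  | 3, _ => rows_ok_278
  | 4, _ => rows_ok_279
  | 5, _ => rows_ok_280
  | 6, _ => rows_ok_281
  | 7, _ => rows_ok_282
  | 8, _ => rows_ok_283
  | 9, _ => rows_ok_284
  | 10, _ => rows_ok_285
  | k + 11, h => absurd h (by omega)

end Cfsg.Agent.Lib.Helper8.ONM
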