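import Cfsg.Agent.Lib.Helper8.ONM.C
import Cfsg.Agent.Lib.Helper8.ONM.K15

/-! # The multiplier of the O'Nan group, the table over the subgroup of index 122760: the check of the rows 35640 to 36959 of the certificate (generated) -/

set_option autoImplicit false
set_option maxRecDepth 100000

namespace Cfsg.Agent.Lib.Helper8.ONM

theorem rows_ok_297 : rowsOK 35640 120 = true := by decide +kernel

theorem rows_ok_298 : rowsOK 35760 120 = true := by decide +kernel

theorem rows_ok_299 : rowsOK 35880 120 = true := by decide +kernel

theorem rows_ok_300 : rowsOK 36000 120 = true := by decide +kernel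

theorem rows_ok_301 : rowsOK 36120 120 = true := by decide +kernel

theorem rows_ok_302 : rowsOK 36240 120 = true := by decide +kernel

theorem rows_ok_303 : rowsOK 36360 120 = true := by decide +kernel

theorem rows_ok_304 : rowsOK 36480 120 = true := by decide +kernel

theorem rows_ok_305 : rowsOK 36600 120 = true := by decide +kernel

theorem rows_ok_306 : rowsOK 36720 120 = true := by decide +kernel

theorem rows_ok_307 : rowsOK 36840 120 = true := by decide +kernel

theorem rows_ok_f27 : ∀ k, k < 11 → rowsOK (120 * (297 + k)) 120 = true
  | 0, _ => rows_ok_297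
  | 1, _ => rows_ok_298
  | 2, _ => rows_ok_299
  | 3, _ => rows_ok_300
  | 4, _ => rows_ok_301
  | 5, _ => rows_ok_302
  | 6, _ => rows_ok_303
  | 7, _ => rows_ok_304
  | 8, _ => rows_ok_305
  | 9, _ => rows_ok_306
  | 10, _ => rows_ok_307
  | k + 11, h => absurd h (by omega)

end Cfsg.Agent.Lib.Helper8.ONM
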