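import Cfsg.Agent.Lib.Helper8.ONM.C
import Cfsg.Agent.Lib.Helper8.ONM.K16

/-! # The multiplier of the O'Nan group, the table over the subgroup of index 122760: the check of the rows 36960 to 38279 of the certificate (generated) -/

set_option autoImplicit false
set_option maxRecDepth 100000

namespace Cfsg.Agent.Lib.Helper8.ONM

theorem rows_ok_308 : rowsOK 36960 120 = true := by decide +kernel

theorem rows_ok_309 : rowsOK 37080 120 = true := by decide +kernel

theorem rows_ok_310 : rowsOK 37200 120 = true := by decide +kernel

theorem rows_ok_311 : rowsOK 37320 120 = true := by decide +kernel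

theorem rows_ok_312 : rowsOK 37440 120 = true := by decide +kernel

theorem rows_ok_313 : rowsOK 37560 120 = true := by decide +kernel

theorem rows_ok_314 : rowsOK 37680 120 = true := by decide +kernel

theorem rows_ok_315 : rowsOK 37800 120 = true := by decide +kernel

theorem rows_ok_316 : rowsOK 37920 120 = true := by decide +kernel

theorem rows_ok_317 : rowsOK 38040 120 = true := by decide +kernel

theorem rows_ok_318 : rowsOK 38160 120 = true := by decide +kernel

theorem rows_ok_f28 : ∀ k, k < 11 → rowsOK (120 * (308 + k)) 120 = true
  | 0, _ => rows_ok_308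
  | 1, _ => rows_ok_309
  | 2, _ => rows_ok_310
  | 3, _ => rows_ok_311
  | 4, _ => rows_ok_312
  | 5, _ => rows_ok_313
  | 6, _ => rows_ok_314
  | 7, _ => rows_ok_315
  | 8, _ => rows_ok_316
  | 9, _ => rows_ok_317
  | 10, _ => rows_ok_318
  | k + 11, h => absurd h (by omega)

end Cfsg.Agent.Lib.Helper8.ONM
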