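import Cfsg.Agent.Lib.Helper8.ONM.C
import Cfsg.Agent.Lib.Helper8.ONM.K17

/-! # The multiplier of the O'Nan group, the table over the subgroup of index 122760: the check of the rows 38280 to 39599 of the certificate (generated) -/

set_option autoImplicit false
set_option maxRecDepth 100000

namespace Cfsg.Agent.Lib.Helper8.ONM

theorem rows_ok_319 : rowsOK 38280 120 = true := by decide +kernel

theorem rows_ok_320 : rowsOK 38400 120 = true := by decide +kernel

theorem rows_ok_321 : rowsOK 38520 120 = true := by decide +kernel

theorem rows_ok_322 : rowsOK 38640 120 = true := by decide +kernel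

theorem rows_ok_323 : rowsOK 38760 120 = true := by decide +kernel

theorem rows_ok_324 : rowsOK 38880 120 = true := by decide +kernel

theorem rows_ok_325 : rowsOK 39000 120 = true := by decide +kernel

theorem rows_ok_326 : rowsOK 39120 120 = true := by decide +kernel

theorem rows_ok_327 : rowsOK 39240 120 = true := by decide +kernel

theorem rows_ok_328 : rowsOK 39360 120 = true := by decide +kernel

theorem rows_ok_329 : rowsOK 39480 120 = true := by decide +kernel

theorem rows_ok_f29 : ∀ k, k < 11 → rowsOK (120 * (319 + k)) 120 = true
  | 0, _ => rows_ok_319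
  | 1, _ => rows_ok_320
  | 2, _ => rows_ok_321
  | 3, _ => rows_ok_322
  | 4, _ => rows_ok_323
  | 5, _ => rows_ok_324
  | 6, _ => rows_ok_325
  | 7, _ => rows_ok_326
  | 8, _ => rows_ok_327
  | 9, _ => rows_ok_328
  | 10, _ => rows_ok_329
  | k + 11, h => absurd h (by omega)

end Cfsg.Agent.Lib.Helper8.ONM
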