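import Cfsg.Agent.Lib.Helper8.ONM.C
import Cfsg.Agent.Lib.Helper8.ONM.K18

/-! # The multiplier of the O'Nan group, the table over the subgroup of index 122760: the check of the rows 39600 to 40919 of the certificate (generated) -/

set_option autoImplicit false
set_option maxRecDepth 100000

namespace Cfsg.Agent.Lib.Helper8.ONM

theorem rows_ok_330 : rowsOK 39600 120 = true := by decide +kernel

theorem rows_ok_331 : rowsOK 39720 120 = true := by decide +kernel

theorem rows_ok_332 : rowsOK 39840 120 = true := by decide +kernel

theorem rows_ok_333 : rowsOK 39960 120 = true := by decide +kernel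

theorem rows_ok_334 : rowsOK 40080 120 = true := by decide +kernel

theorem rows_ok_335 : rowsOK 40200 120 = true := by decide +kernel

theorem rows_ok_336 : rowsOK 40320 120 = true := by decide +kernel

theorem rows_ok_337 : rowsOK 40440 120 = true := by decide +kernel

theorem rows_ok_338 : rowsOK 40560 120 = true := by decide +kernel

theorem rows_ok_339 : rowsOK 40680 120 = true := by decide +kernel

theorem rows_ok_340 : rowsOK 40800 120 = true := by decide +kernel

theorem rows_ok_f30 : ∀ k, k < 11 → rowsOK (120 * (330 + k)) 120 = true
  | 0, _ => rows_ok_330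
  | 1, _ => rows_ok_331
  | 2, _ => rows_ok_332
  | 3, _ => rows_ok_333
  | 4, _ => rows_ok_334
  | 5, _ => rows_ok_335
  | 6, _ => rows_ok_336
  | 7, _ => rows_ok_337
  | 8, _ => rows_ok_338
  | 9, _ => rows_ok_339
  | 10, _ => rows_ok_340
  | k + 11, h => absurd h (by omega)

end Cfsg.Agent.Lib.Helper8.ONM
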