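import Cfsg.Agent.Lib.Helper8.ONM.C
import Cfsg.Agent.Lib.Helper8.ONM.K19

/-! # The multiplier of the O'Nan group, the table over the subgroup of index 122760: the check of the rows 40920 to 42239 of the certificate (generated) -/

set_option autoImplicit false
set_option maxRecDepth 100000

namespace Cfsg.Agent.Lib.Helper8.ONM

theorem rows_ok_341 : rowsOK 40920 120 = true := by decide +kernel

theorem rows_ok_342 : rowsOK 41040 120 = true := by decide +kernel

theorem rows_ok_343 : rowsOK 41160 120 = true := by decide +kernel

theorem rows_ok_344 : rowsOK 41280 120 = true := by decide +kernel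

theorem rows_ok_345 : rowsOK 41400 120 = true := by decide +kernel

theorem rows_ok_346 : rowsOK 41520 120 = true := by decide +kernel

theorem rows_ok_347 : rowsOK 41640 120 = true := by decide +kernel

theorem rows_ok_348 : rowsOK 41760 120 = true := by decide +kernel

theorem rows_ok_349 : rowsOK 41880 120 = true := by decide +kernel

theorem rows_ok_350 : rowsOK 42000 120 = true := by decide +kernel

theorem rows_ok_351 : rowsOK 42120 120 = true := by decide +kernel

theorem rows_ok_f31 : ∀ k, k < 11 → rowsOK (120 * (341 + k)) 120 = true
  | 0, _ => rows_ok_341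
  | 1, _ => rows_ok_342
  | 2, _ => rows_ok_343
  | 3, _ => rows_ok_344
  | 4, _ => rows_ok_345
  | 5, _ => rows_ok_346
  | 6, _ => rows_ok_347
  | 7, _ => rows_ok_348
  | 8, _ => rows_ok_349
  | 9, _ => rows_ok_350
  | 10, _ => rows_ok_351
  | k + 11, h => absurd h (by omega)

end Cfsg.Agent.Lib.Helper8.ONM
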