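import Cfsg.Agent.Lib.Helper8.ONM.C
import Cfsg.Agent.Lib.Helper8.ONM.K20

/-! # The multiplier of the O'Nan group, the table over the subgroup of index 122760: the check of the rows 42240 to 43559 of the certificate (generated) -/

set_option autoImplicit false
set_option maxRecDepth 100000

namespace Cfsg.Agent.Lib.Helper8.ONM

theorem rows_ok_352 : rowsOK 42240 120 = true := by decide +kernel

theorem rows_ok_353 : rowsOK 42360 120 = true := by decide +kernel

theorem rows_ok_354 : rowsOK 42480 120 = true := by decide +kernel

theorem rows_ok_355 : rowsOK 42600 120 = true := by decide +kernel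

theorem rows_ok_356 : rowsOK 42720 120 = true := by decide +kernel

theorem rows_ok_357 : rowsOK 42840 120 = true := by decide +kernel

theorem rows_ok_358 : rowsOK 42960 120 = true := by decide +kernel

theorem rows_ok_359 : rowsOK 43080 120 = true := by decide +kernel

theorem rows_ok_360 : rowsOK 43200 120 = true := by decide +kernel

theorem rows_ok_361 : rowsOK 43320 120 = true := by decide +kernel

theorem rows_ok_362 : rowsOK 43440 120 = true := by decide +kernel

theorem rows_ok_f32 : ∀ k, k < 11 → rowsOK (120 * (352 + k)) 120 = true
  | 0, _ => rows_ok_352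
  | 1, _ => rows_ok_353
  | 2, _ => rows_ok_354
  | 3, _ => rows_ok_355
  | 4, _ => rows_ok_356
  | 5, _ => rows_ok_357
  | 6, _ => rows_ok_358
  | 7, _ => rows_ok_359
  | 8, _ => rows_ok_360
  | 9, _ => rows_ok_361
  | 10, _ => rows_ok_362
  | k + 11, h => absurd h (by omega)

end Cfsg.Agent.Lib.Helper8.ONM
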