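import Cfsg.Agent.Lib.Helper8.ONM.C
import Cfsg.Agent.Lib.Helper8.ONM.K21

/-! # The multiplier of the O'Nan group, the table over the subgroup of index 122760: the check of the rows 43560 to 44879 of the certificate (generated) -/

set_option autoImplicit false
set_option maxRecDepth 100000

namespace Cfsg.Agent.Lib.Helper8.ONM

theorem rows_ok_363 : rowsOK 43560 120 = true := by decide +kernel

theorem rows_ok_364 : rowsOK 43680 120 = true := by decide +kernel

theorem rows_ok_365 : rowsOK 43800 120 = true := by decide +kernel

theorem rows_ok_366 : rowsOK 43920 120 = true := by decide +kernel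

theorem rows_ok_367 : rowsOK 44040 120 = true := by decide +kernel

theorem rows_ok_368 : rowsOK 44160 120 = true := by decide +kernel

theorem rows_ok_369 : rowsOK 44280 120 = true := by decide +kernel

theorem rows_ok_370 : rowsOK 44400 120 = true := by decide +kernel

theorem rows_ok_371 : rowsOK 44520 120 = true := by decide +kernel

theorem rows_ok_372 : rowsOK 44640 120 = true := by decide +kernel

theorem rows_ok_373 : rowsOK 44760 120 = true := by decide +kernel

theorem rows_ok_f33 : ∀ k, k < 11 → rowsOK (120 * (363 + k)) 120 = true
  | 0, _ => rows_ok_363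
  | 1, _ => rows_ok_364
  | 2, _ => rows_ok_365
  | 3, _ => rows_ok_366
  | 4, _ => rows_ok_367
  | 5, _ => rows_ok_368
  | 6, _ => rows_ok_369
  | 7, _ => rows_ok_370
  | 8, _ => rows_ok_371
  | 9, _ => rows_ok_372
  | 10, _ => rows_ok_373
  | k + 11, h => absurd h (by omega)

end Cfsg.Agent.Lib.Helper8.ONM
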