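import Cfsg.Agent.Lib.Helper8.ONM.C
import Cfsg.Agent.Lib.Helper8.ONM.K22

/-! # The multiplier of the O'Nan group, the table over the subgroup of index 122760: the check of the rows 44880 to 46199 of the certificate (generated) -/

set_option autoImplicit false
set_option maxRecDepth 100000

namespace Cfsg.Agent.Lib.Helper8.ONM

theorem rows_ok_374 : rowsOK 44880 120 = true := by decide +kernel

theorem rows_ok_375 : rowsOK 45000 120 = true := by decide +kernel

theorem rows_ok_376 : rowsOK 45120 120 = true := by decide +kernel

theorem rows_ok_377 : rowsOK 45240 120 = true := by decide +kernel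

theorem rows_ok_378 : rowsOK 45360 120 = true := by decide +kernel

theorem rows_ok_379 : rowsOK 45480 120 = true := by decide +kernel

theorem rows_ok_380 : rowsOK 45600 120 = true := by decide +kernel

theorem rows_ok_381 : rowsOK 45720 120 = true := by decide +kernel

theorem rows_ok_382 : rowsOK 45840 120 = true := by decide +kernel

theorem rows_ok_383 : rowsOK 45960 120 = true := by decide +kernel

theorem rows_ok_384 : rowsOK 46080 120 = true := by decide +kernel

theorem rows_ok_f34 : ∀ k, k < 11 → rowsOK (120 * (374 + k)) 120 = true
  | 0, _ => rows_ok_374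
  | 1, _ => rows_ok_375
  | 2, _ => rows_ok_376
  | 3, _ => rows_ok_377
  | 4, _ => rows_ok_378
  | 5, _ => rows_ok_379
  | 6, _ => rows_ok_380
  | 7, _ => rows_ok_381
  | 8, _ => rows_ok_382
  | 9, _ => rows_ok_383
  | 10, _ => rows_ok_384
  | k + 11, h => absurd h (by omega)

end Cfsg.Agent.Lib.Helper8.ONM
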