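import Cfsg.Agent.Lib.Helper8.ONM.C
import Cfsg.Agent.Lib.Helper8.ONM.K23

/-! # The multiplier of the O'Nan group, the table over the subgroup of index 122760: the check of the rows 46200 to 47519 of the certificate (generated) -/

set_option autoImplicit false
set_option maxRecDepth 100000

namespace Cfsg.Agent.Lib.Helper8.ONM

theorem rows_ok_385 : rowsOK 46200 120 = true := by decide +kernel

theorem rows_ok_386 : rowsOK 46320 120 = true := by decide +kernel

theorem rows_ok_387 : rowsOK 46440 120 = true := by decide +kernel

theorem rows_ok_388 : rowsOK 46560 120 = true := by decide +kernel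

theorem rows_ok_389 : rowsOK 46680 120 = true := by decide +kernel

theorem rows_ok_390 : rowsOK 46800 120 = true := by decide +kernel

theorem rows_ok_391 : rowsOK 46920 120 = true := by decide +kernel

theorem rows_ok_392 : rowsOK 47040 120 = true := by decide +kernel

theorem rows_ok_393 : rowsOK 47160 120 = true := by decide +kernel

theorem rows_ok_394 : rowsOK 47280 120 = true := by decide +kernel

theorem rows_ok_395 : rowsOK 47400 120 = true := by decide +kernel

theorem rows_ok_f35 : ∀ k, k < 11 → rowsOK (120 * (385 + k)) 120 = true
  | 0, _ => rows_ok_385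
  | 1, _ => rows_ok_386
  | 2, _ => rows_ok_387
  | 3, _ => rows_ok_388
  | 4, _ => rows_ok_389
  | 5, _ => rows_ok_390
  | 6, _ => rows_ok_391
  | 7, _ => rows_ok_392
  | 8, _ => rows_ok_393
  | 9, _ => rows_ok_394
  | 10, _ => rows_ok_395
  | k + 11, h => absurd h (by omega)

end Cfsg.Agent.Lib.Helper8.ONM
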