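import Cfsg.Agent.Lib.Helper8.ONM.C
import Cfsg.Agent.Lib.Helper8.ONM.K24

/-! # The multiplier of the O'Nan group, the table over the subgroup of index 122760: the check of the rows 47520 to 48839 of the certificate (generated) -/

set_option autoImplicit false
set_option maxRecDepth 100000

namespace Cfsg.Agent.Lib.Helper8.ONM

theorem rows_ok_396 : rowsOK 47520 120 = true := by decide +kernel

theorem rows_ok_397 : rowsOK 47640 120 = true := by decide +kernel

theorem rows_ok_398 : rowsOK 47760 120 = true := by decide +kernel

theorem rows_ok_399 : rowsOK 47880 120 = true := by decide +kernel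

theorem rows_ok_400 : rowsOK 48000 120 = true := by decide +kernel

theorem rows_ok_401 : rowsOK 48120 120 = true := by decide +kernel

theorem rows_ok_402 : rowsOK 48240 120 = true := by decide +kernel

theorem rows_ok_403 : rowsOK 48360 120 = true := by decide +kernel

theorem rows_ok_404 : rowsOK 48480 120 = true := by decide +kernel

theorem rows_ok_405 : rowsOK 48600 120 = true := by decide +kernel

theorem rows_ok_406 : rowsOK 48720 120 = true := by decide +kernel

theorem rows_ok_f36 : ∀ k, k < 11 → rowsOK (120 * (396 + k)) 120 = true
  | 0, _ => rows_ok_396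
  | 1, _ => rows_ok_397
  | 2, _ => rows_ok_398
  | 3, _ => rows_ok_399
  | 4, _ => rows_ok_400
  | 5, _ => rows_ok_401
  | 6, _ => rows_ok_402
  | 7, _ => rows_ok_403
  | 8, _ => rows_ok_404
  | 9, _ => rows_ok_405
  | 10, _ => rows_ok_406
  | k + 11, h => absurd h (by omega)

end Cfsg.Agent.Lib.Helper8.ONM
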