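import Cfsg.Agent.Lib.Helper8.ONM.C
import Cfsg.Agent.Lib.Helper8.ONM.K25

/-! # The multiplier of the O'Nan group, the table over the subgroup of index 122760: the check of the rows 48840 to 50159 of the certificate (generated) -/

set_option autoImplicit false
set_option maxRecDepth 100000

namespace Cfsg.Agent.Lib.Helper8.ONM

theorem rows_ok_407 : rowsOK 48840 120 = true := by decide +kernel

theorem rows_ok_408 : rowsOK 48960 120 = true := by decide +kernel

theorem rows_ok_409 : rowsOK 49080 120 = true := by decide +kernel

theorem rows_ok_410 : rowsOK 49200 120 = true := by decide +kernel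

theorem rows_ok_411 : rowsOK 49320 120 = true := by decide +kernel

theorem rows_ok_412 : rowsOK 49440 120 = true := by decide +kernel

theorem rows_ok_413 : rowsOK 49560 120 = true := by decide +kernel

theorem rows_ok_414 : rowsOK 49680 120 = true := by decide +kernel

theorem rows_ok_415 : rowsOK 49800 120 = true := by decide +kernel

theorem rows_ok_416 : rowsOK 49920 120 = true := by decide +kernel

theorem rows_ok_417 : rowsOK 50040 120 = true := by decide +kernel

theorem rows_ok_f37 : ∀ k, k < 11 → rowsOK (120 * (407 + k)) 120 = true
  | 0, _ => rows_ok_407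
  | 1, _ => rows_ok_408
  | 2, _ => rows_ok_409
  | 3, _ => rows_ok_410
  | 4, _ => rows_ok_411
  | 5, _ => rows_ok_412
  | 6, _ => rows_ok_413
  | 7, _ => rows_ok_414
  | 8, _ => rows_ok_415
  | 9, _ => rows_ok_416
  | 10, _ => rows_ok_417
  | k + 11, h => absurd h (by omega)

end Cfsg.Agent.Lib.Helper8.ONM
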