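import Cfsg.Agent.Lib.Helper8.ONM.C
import Cfsg.Agent.Lib.Helper8.ONM.K14

/-! # The multiplier of the O'Nan group, the table over the subgroup of index 122760: the check of the rows 34320 to 35639 of the certificate (generated) -/

set_option autoImplicit false
set_option maxRecDepth 100000

namespace Cfsg.Agent.Lib.Helper8.ONM

theorem rows_ok_286 : rowsOK 34320 120 = true := by decide +kernel

theorem rows_ok_287 : rowsOK 34440 120 = true := by decide +kernel

theorem rows_ok_288 : rowsOK 34560 120 = true := by decide +kernel

theorem rows_ok_289 : rowsOK 34680 120 = true := by decide +kernel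

theorem rows_ok_290 : rowsOK 34800 120 = true := by decide +kernel

theorem rows_ok_291 : rowsOK 34920 120 = true := by decide +kernel

theorem rows_ok_292 : rowsOK 35040 120 = true := by decide +kernel

theorem rows_ok_293 : rowsOK 35160 120 = true := by decide +kernel

theorem rows_ok_294 : rowsOK 35280 120 = true := by decide +kernel

theorem rows_ok_295 : rowsOK 35400 120 = true := by decide +kernel

theorem rows_ok_296 : rowsOK 35520 120 = true := by decide +kernel

theorem rows_ok_f26 : ∀ k, k < 11 → rowsOK (120 * (286 + k)) 120 = true
  | 0, _ => rows_ok_286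
  | 1, _ => rows_ok_287
  | 2, _ => rows_ok_288
  | 3, _ => rows_ok_289
  | 4, _ => rows_ok_290
  | 5, _ => rows_ok_291
  | 6, _ => rows_ok_292
  | 7, _ => rows_ok_293
  | 8, _ => rows_ok_294
  | 9, _ => rows_ok_295
  | 10, _ => rows_ok_296
  | k + 11, h => absurd h (by omega)

end Cfsg.Agent.Lib.Helper8.ONM
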