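import Cfsg.Agent.Lib.Helper8.ONM.C
import Cfsg.Agent.Lib.Helper8.ONM.K26

/-! # The multiplier of the O'Nan group, the table over the subgroup of index 122760: the check of the rows 50160 to 51479 of the certificate (generated) -/

set_option autoImplicit false
set_option maxRecDepth 100000

namespace Cfsg.Agent.Lib.Helper8.ONM

theorem rows_ok_418 : rowsOK 50160 120 = true := by decide +kernel

theorem rows_ok_419 : rowsOK 50280 120 = true := by decide +kernel

theorem rows_ok_420 : rowsOK 50400 120 = true := by decide +kernel

theorem rows_ok_421 : rowsOK 50520 120 = true := by decide +kernel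

theorem rows_ok_422 : rowsOK 50640 120 = true := by decide +kernel

theorem rows_ok_423 : rowsOK 50760 120 = true := by decide +kernel

theorem rows_ok_424 : rowsOK 50880 120 = true := by decide +kernel

theorem rows_ok_425 : rowsOK 51000 120 = true := by decide +kernel

theorem rows_ok_426 : rowsOK 51120 120 = true := by decide +kernel

theorem rows_ok_427 : rowsOK 51240 120 = true := by decide +kernel

theorem rows_ok_428 : rowsOK 51360 120 = true := by decide +kernel

theorem rows_ok_f38 : ∀ k, k < 11 → rowsOK (120 * (418 + k)) 120 = true
  | 0, _ => rows_ok_418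
  | 1, _ => rows_ok_419
  | 2, _ => rows_ok_420
  | 3, _ => rows_ok_421
  | 4, _ => rows_ok_422
  | 5, _ => rows_ok_423
  | 6, _ => rows_ok_424
  | 7, _ => rows_ok_425
  | 8, _ => rows_ok_426
  | 9, _ => rows_ok_427
  | 10, _ => rows_ok_428
  | k + 11, h => absurd h (by omega)

end Cfsg.Agent.Lib.Helper8.ONM
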