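import Cfsg.Agent.Lib.Helper8.ONM.C
import Cfsg.Agent.Lib.Helper8.ONM.K28

/-! # The multiplier of the O'Nan group, the table over the subgroup of index 122760: the check of the rows 52800 to 54119 of the certificate (generated) -/

set_option autoImplicit false
set_option maxRecDepth 100000

namespace Cfsg.Agent.Lib.Helper8.ONM

theorem rows_ok_440 : rowsOK 52800 120 = true := by decide +kernel

theorem rows_ok_441 : rowsOK 52920 120 = true := by decide +kernel

theorem rows_ok_442 : rowsOK 53040 120 = true := by decide +kernel

theorem rows_ok_443 : rowsOK 53160 120 = true := by decide +kernel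

theorem rows_ok_444 : rowsOK 53280 120 = true := by decide +kernel

theorem rows_ok_445 : rowsOK 53400 120 = true := by decide +kernel

theorem rows_ok_446 : rowsOK 53520 120 = true := by decide +kernel

theorem rows_ok_447 : rowsOK 53640 120 = true := by decide +kernel

theorem rows_ok_448 : rowsOK 53760 120 = true := by decide +kernel

theorem rows_ok_449 : rowsOK 53880 120 = true := by decide +kernel

theorem rows_ok_450 : rowsOK 54000 120 = true := by decide +kernel

theorem rows_ok_f40 : ∀ k, k < 11 → rowsOK (120 * (440 + k)) 120 = true
  | 0, _ => rows_ok_440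
  | 1, _ => rows_ok_441
  | 2, _ => rows_ok_442
  | 3, _ => rows_ok_443
  | 4, _ => rows_ok_444
  | 5, _ => rows_ok_445
  | 6, _ => rows_ok_446
  | 7, _ => rows_ok_447
  | 8, _ => rows_ok_448
  | 9, _ => rows_ok_449
  | 10, _ => rows_ok_450
  | k + 11, h => absurd h (by omega)

end Cfsg.Agent.Lib.Helper8.ONM
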