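import Cfsg.Agent.Lib.Helper8.ONM.C
import Cfsg.Agent.Lib.Helper8.ONM.K29

/-! # The multiplier of the O'Nan group, the table over the subgroup of index 122760: the check of the rows 54120 to 55439 of the certificate (generated) -/

set_option autoImplicit false
set_option maxRecDepth 100000

namespace Cfsg.Agent.Lib.Helper8.ONM

theorem rows_ok_451 : rowsOK 54120 120 = true := by decide +kernel

theorem rows_ok_452 : rowsOK 54240 120 = true := by decide +kernel

theorem rows_ok_453 : rowsOK 54360 120 = true := by decide +kernel

theorem rows_ok_454 : rowsOK 54480 120 = true := by decide +kernel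

theorem rows_ok_455 : rowsOK 54600 120 = true := by decide +kernel

theorem rows_ok_456 : rowsOK 54720 120 = true := by decide +kernel

theorem rows_ok_457 : rowsOK 54840 120 = true := by decide +kernel

theorem rows_ok_458 : rowsOK 54960 120 = true := by decide +kernel

theorem rows_ok_459 : rowsOK 55080 120 = true := by decide +kernel

theorem rows_ok_460 : rowsOK 55200 120 = true := by decide +kernel

theorem rows_ok_461 : rowsOK 55320 120 = true := by decide +kernel

theorem rows_ok_f41 : ∀ k, k < 11 → rowsOK (120 * (451 + k)) 120 = true
  | 0, _ => rows_ok_451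
  | 1, _ => rows_ok_452
  | 2, _ => rows_ok_453
  | 3, _ => rows_ok_454
  | 4, _ => rows_ok_455
  | 5, _ => rows_ok_456
  | 6, _ => rows_ok_457
  | 7, _ => rows_ok_458
  | 8, _ => rows_ok_459
  | 9, _ => rows_ok_460
  | 10, _ => rows_ok_461
  | k + 11, h => absurd h (by omega)

end Cfsg.Agent.Lib.Helper8.ONM
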