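import Cfsg.Agent.Lib.Helper8.ONM.C
import Cfsg.Agent.Lib.Helper8.ONM.K30

/-! # The multiplier of the O'Nan group, the table over the subgroup of index 122760: the check of the rows 55440 to 56759 of the certificate (generated) -/

set_option autoImplicit false
set_option maxRecDepth 100000

namespace Cfsg.Agent.Lib.Helper8.ONM

theorem rows_ok_462 : rowsOK 55440 120 = true := by decide +kernel

theorem rows_ok_463 : rowsOK 55560 120 = true := by decide +kernel

theorem rows_ok_464 : rowsOK 55680 120 = true := by decide +kernel

theorem rows_ok_465 : rowsOK 55800 120 = true := by decide +kernel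

theorem rows_ok_466 : rowsOK 55920 120 = true := by decide +kernel

theorem rows_ok_467 : rowsOK 56040 120 = true := by decide +kernel

theorem rows_ok_468 : rowsOK 56160 120 = true := by decide +kernel

theorem rows_ok_469 : rowsOK 56280 120 = true := by decide +kernel

theorem rows_ok_470 : rowsOK 56400 120 = true := by decide +kernel

theorem rows_ok_471 : rowsOK 56520 120 = true := by decide +kernel

theorem rows_ok_472 : rowsOK 56640 120 = true := by decide +kernel

theorem rows_ok_f42 : ∀ k, k < 11 → rowsOK (120 * (462 + k)) 120 = true
  | 0, _ => rows_ok_462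
  | 1, _ => rows_ok_463
  | 2, _ => rows_ok_464
  | 3, _ => rows_ok_465
  | 4, _ => rows_ok_466
  | 5, _ => rows_ok_467
  | 6, _ => rows_ok_468
  | 7, _ => rows_ok_469
  | 8, _ => rows_ok_470
  | 9, _ => rows_ok_471
  | 10, _ => rows_ok_472
  | k + 11, h => absurd h (by omega)

end Cfsg.Agent.Lib.Helper8.ONM
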