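import Cfsg.Agent.Lib.Helper8.ONM.C
import Cfsg.Agent.Lib.Helper8.ONM.K31

/-! # The multiplier of the O'Nan group, the table over the subgroup of index 122760: the check of the rows 56760 to 58079 of the certificate (generated) -/

set_option autoImplicit false
set_option maxRecDepth 100000

namespace Cfsg.Agent.Lib.Helper8.ONM

theorem rows_ok_473 : rowsOK 56760 120 = true := by decide +kernel

theorem rows_ok_474 : rowsOK 56880 120 = true := by decide +kernel

theorem rows_ok_475 : rowsOK 57000 120 = true := by decide +kernel

theorem rows_ok_476 : rowsOK 57120 120 = true := by decide +kernel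

theorem rows_ok_477 : rowsOK 57240 120 = true := by decide +kernel

theorem rows_ok_478 : rowsOK 57360 120 = true := by decide +kernel

theorem rows_ok_479 : rowsOK 57480 120 = true := by decide +kernel

theorem rows_ok_480 : rowsOK 57600 120 = true := by decide +kernel

theorem rows_ok_481 : rowsOK 57720 120 = true := by decide +kernel

theorem rows_ok_482 : rowsOK 57840 120 = true := by decide +kernel

theorem rows_ok_483 : rowsOK 57960 120 = true := by decide +kernel

theorem rows_ok_f43 : ∀ k, k < 11 → rowsOK (120 * (473 + k)) 120 = true
  | 0, _ => rows_ok_473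
  | 1, _ => rows_ok_474
  | 2, _ => rows_ok_475
  | 3, _ => rows_ok_476
  | 4, _ => rows_ok_477
  | 5, _ => rows_ok_478
  | 6, _ => rows_ok_479
  | 7, _ => rows_ok_480
  | 8, _ => rows_ok_481
  | 9, _ => rows_ok_482
  | 10, _ => rows_ok_483
  | k + 11, h => absurd h (by omega)

end Cfsg.Agent.Lib.Helper8.ONM
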