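import Cfsg.Agent.Lib.Helper8.ONM.C
import Cfsg.Agent.Lib.Helper8.ONM.K32

/-! # The multiplier of the O'Nan group, the table over the subgroup of index 122760: the check of the rows 58080 to 59399 of the certificate (generated) -/

set_option autoImplicit false
set_option maxRecDepth 100000

namespace Cfsg.Agent.Lib.Helper8.ONM

theorem rows_ok_484 : rowsOK 58080 120 = true := by decide +kernel

theorem rows_ok_485 : rowsOK 58200 120 = true := by decide +kernel

theorem rows_ok_486 : rowsOK 58320 120 = true := by decide +kernel

theorem rows_ok_487 : rowsOK 58440 120 = true := by decide +kernel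

theorem rows_ok_488 : rowsOK 58560 120 = true := by decide +kernel

theorem rows_ok_489 : rowsOK 58680 120 = true := by decide +kernel

theorem rows_ok_490 : rowsOK 58800 120 = true := by decide +kernel

theorem rows_ok_491 : rowsOK 58920 120 = true := by decide +kernel

theorem rows_ok_492 : rowsOK 59040 120 = true := by decide +kernel

theorem rows_ok_493 : rowsOK 59160 120 = true := by decide +kernel

theorem rows_ok_494 : rowsOK 59280 120 = true := by decide +kernel

theorem rows_ok_f44 : ∀ k, k < 11 → rowsOK (120 * (484 + k)) 120 = true
  | 0, _ => rows_ok_484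
  | 1, _ => rows_ok_485
  | 2, _ => rows_ok_486
  | 3, _ => rows_ok_487
  | 4, _ => rows_ok_488
  | 5, _ => rows_ok_489
  | 6, _ => rows_ok_490
  | 7, _ => rows_ok_491
  | 8, _ => rows_ok_492
  | 9, _ => rows_ok_493
  | 10, _ => rows_ok_494
  | k + 11, h => absurd h (by omega)

end Cfsg.Agent.Lib.Helper8.ONM
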