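import Cfsg.Agent.Lib.Helper8.ONM.C
import Cfsg.Agent.Lib.Helper8.ONM.K33

/-! # The multiplier of the O'Nan group, the table over the subgroup of index 122760: the check of the rows 59400 to 60719 of the certificate (generated) -/

set_option autoImplicit false
set_option maxRecDepth 100000

namespace Cfsg.Agent.Lib.Helper8.ONM

theorem rows_ok_495 : rowsOK 59400 120 = true := by decide +kernel

theorem rows_ok_496 : rowsOK 59520 120 = true := by decide +kernel

theorem rows_ok_497 : rowsOK 59640 120 = true := by decide +kernel

theorem rows_ok_498 : rowsOK 59760 120 = true := by decide +kernel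

theorem rows_ok_499 : rowsOK 59880 120 = true := by decide +kernel

theorem rows_ok_500 : rowsOK 60000 120 = true := by decide +kernel

theorem rows_ok_501 : rowsOK 60120 120 = true := by decide +kernel

theorem rows_ok_502 : rowsOK 60240 120 = true := by decide +kernel

theorem rows_ok_503 : rowsOK 60360 120 = true := by decide +kernel

theorem rows_ok_504 : rowsOK 60480 120 = true := by decide +kernel

theorem rows_ok_505 : rowsOK 60600 120 = true := by decide +kernel

theorem rows_ok_f45 : ∀ k, k < 11 → rowsOK (120 * (495 + k)) 120 = true
  | 0, _ => rows_ok_495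
  | 1, _ => rows_ok_496
  | 2, _ => rows_ok_497
  | 3, _ => rows_ok_498
  | 4, _ => rows_ok_499
  | 5, _ => rows_ok_500
  | 6, _ => rows_ok_501
  | 7, _ => rows_ok_502
  | 8, _ => rows_ok_503
  | 9, _ => rows_ok_504
  | 10, _ => rows_ok_505
  | k + 11, h => absurd h (by omega)

end Cfsg.Agent.Lib.Helper8.ONM
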