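import Cfsg.Agent.Lib.Helper8.ONM.C
import Cfsg.Agent.Lib.Helper8.ONM.K34

/-! # The multiplier of the O'Nan group, the table over the subgroup of index 122760: the check of the rows 60720 to 62039 of the certificate (generated) -/

set_option autoImplicit false
set_option maxRecDepth 100000

namespace Cfsg.Agent.Lib.Helper8.ONM

theorem rows_ok_506 : rowsOK 60720 120 = true := by decide +kernel

theorem rows_ok_507 : rowsOK 60840 120 = true := by decide +kernel

theorem rows_ok_508 : rowsOK 60960 120 = true := by decide +kernel

theorem rows_ok_509 : rowsOK 61080 120 = true := by decide +kernel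

theorem rows_ok_510 : rowsOK 61200 120 = true := by decide +kernel

theorem rows_ok_511 : rowsOK 61320 120 = true := by decide +kernel

theorem rows_ok_512 : rowsOK 61440 120 = true := by decide +kernel

theorem rows_ok_513 : rowsOK 61560 120 = true := by decide +kernel

theorem rows_ok_514 : rowsOK 61680 120 = true := by decide +kernel

theorem rows_ok_515 : rowsOK 61800 120 = true := by decide +kernel

theorem rows_ok_516 : rowsOK 61920 120 = true := by decide +kernel

theorem rows_ok_f46 : ∀ k, k < 11 → rowsOK (120 * (506 + k)) 120 = true
  | 0, _ => rows_ok_506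
  | 1, _ => rows_ok_507
  | 2, _ => rows_ok_508
  | 3, _ => rows_ok_509
  | 4, _ => rows_ok_510
  | 5, _ => rows_ok_511
  | 6, _ => rows_ok_512
  | 7, _ => rows_ok_513
  | 8, _ => rows_ok_514
  | 9, _ => rows_ok_515
  | 10, _ => rows_ok_516
  | k + 11, h => absurd h (by omega)

end Cfsg.Agent.Lib.Helper8.ONM
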