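import Cfsg.Agent.Lib.Helper8.ONM.C
import Cfsg.Agent.Lib.Helper8.ONM.K35

/-! # The multiplier of the O'Nan group, the table over the subgroup of index 122760: the check of the rows 62040 to 63359 of the certificate (generated) -/

set_option autoImplicit false
set_option maxRecDepth 100000

namespace Cfsg.Agent.Lib.Helper8.ONM

theorem rows_ok_517 : rowsOK 62040 120 = true := by decide +kernel

theorem rows_ok_518 : rowsOK 62160 120 = true := by decide +kernel

theorem rows_ok_519 : rowsOK 62280 120 = true := by decide +kernel

theorem rows_ok_520 : rowsOK 62400 120 = true := by decide +kernel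

theorem rows_ok_521 : rowsOK 62520 120 = true := by decide +kernel

theorem rows_ok_522 : rowsOK 62640 120 = true := by decide +kernel

theorem rows_ok_523 : rowsOK 62760 120 = true := by decide +kernel

theorem rows_ok_524 : rowsOK 62880 120 = true := by decide +kernel

theorem rows_ok_525 : rowsOK 63000 120 = true := by decide +kernel

theorem rows_ok_526 : rowsOK 63120 120 = true := by decide +kernel

theorem rows_ok_527 : rowsOK 63240 120 = true := by decide +kernel

theorem rows_ok_f47 : ∀ k, k < 11 → rowsOK (120 * (517 + k)) 120 = true
  | 0, _ => rows_ok_517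
  | 1, _ => rows_ok_518
  | 2, _ => rows_ok_519
  | 3, _ => rows_ok_520
  | 4, _ => rows_ok_521
  | 5, _ => rows_ok_522
  | 6, _ => rows_ok_523
  | 7, _ => rows_ok_524
  | 8, _ => rows_ok_525
  | 9, _ => rows_ok_526
  | 10, _ => rows_ok_527
  | k + 11, h => absurd h (by omega)

end Cfsg.Agent.Lib.Helper8.ONM
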