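import Cfsg.Agent.Lib.Helper8.ONM.C
import Cfsg.Agent.Lib.Helper8.ONM.K36

/-! # The multiplier of the O'Nan group, the table over the subgroup of index 122760: the check of the rows 63360 to 64679 of the certificate (generated) -/

set_option autoImplicit false
set_option maxRecDepth 100000

namespace Cfsg.Agent.Lib.Helper8.ONM

theorem rows_ok_528 : rowsOK 63360 120 = true := by decide +kernel

theorem rows_ok_529 : rowsOK 63480 120 = true := by decide +kernel

theorem rows_ok_530 : rowsOK 63600 120 = true := by decide +kernel

theorem rows_ok_531 : rowsOK 63720 120 = true := by decide +kernel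

theorem rows_ok_532 : rowsOK 63840 120 = true := by decide +kernel

theorem rows_ok_533 : rowsOK 63960 120 = true := by decide +kernel

theorem rows_ok_534 : rowsOK 64080 120 = true := by decide +kernel

theorem rows_ok_535 : rowsOK 64200 120 = true := by decide +kernel

theorem rows_ok_536 : rowsOK 64320 120 = true := by decide +kernel

theorem rows_ok_537 : rowsOK 64440 120 = true := by decide +kernel

theorem rows_ok_538 : rowsOK 64560 120 = true := by decide +kernel

theorem rows_ok_f48 : ∀ k, k < 11 → rowsOK (120 * (528 + k)) 120 = true
  | 0, _ => rows_ok_528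
  | 1, _ => rows_ok_529
  | 2, _ => rows_ok_530
  | 3, _ => rows_ok_531
  | 4, _ => rows_ok_532
  | 5, _ => rows_ok_533
  | 6, _ => rows_ok_534
  | 7, _ => rows_ok_535
  | 8, _ => rows_ok_536
  | 9, _ => rows_ok_537
  | 10, _ => rows_ok_538
  | k + 11, h => absurd h (by omega)

end Cfsg.Agent.Lib.Helper8.ONM
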