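import Cfsg.Agent.Lib.Helper8.ONM.C
import Cfsg.Agent.Lib.Helper8.ONM.K37

/-! # The multiplier of the O'Nan group, the table over the subgroup of index 122760: the check of the rows 64680 to 65999 of the certificate (generated) -/

set_option autoImplicit false
set_option maxRecDepth 100000

namespace Cfsg.Agent.Lib.Helper8.ONM

theorem rows_ok_539 : rowsOK 64680 120 = true := by decide +kernel

theorem rows_ok_540 : rowsOK 64800 120 = true := by decide +kernel

theorem rows_ok_541 : rowsOK 64920 120 = true := by decide +kernel

theorem rows_ok_542 : rowsOK 65040 120 = true := by decide +kernel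

theorem rows_ok_543 : rowsOK 65160 120 = true := by decide +kernel

theorem rows_ok_544 : rowsOK 65280 120 = true := by decide +kernel

theorem rows_ok_545 : rowsOK 65400 120 = true := by decide +kernel

theorem rows_ok_546 : rowsOK 65520 120 = true := by decide +kernel

theorem rows_ok_547 : rowsOK 65640 120 = true := by decide +kernel

theorem rows_ok_548 : rowsOK 65760 120 = true := by decide +kernel

theorem rows_ok_549 : rowsOK 65880 120 = true := by decide +kernel

theorem rows_ok_f49 : ∀ k, k < 11 → rowsOK (120 * (539 + k)) 120 = true
  | 0, _ => rows_ok_539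
  | 1, _ => rows_ok_540
  | 2, _ => rows_ok_541
  | 3, _ => rows_ok_542
  | 4, _ => rows_ok_543
  | 5, _ => rows_ok_544
  | 6, _ => rows_ok_545
  | 7, _ => rows_ok_546
  | 8, _ => rows_ok_547
  | 9, _ => rows_ok_548
  | 10, _ => rows_ok_549
  | k + 11, h => absurd h (by omega)

end Cfsg.Agent.Lib.Helper8.ONM
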