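import Cfsg.Agent.Lib.Helper8.ONM.C
import Cfsg.Agent.Lib.Helper8.ONM.K38

/-! # The multiplier of the O'Nan group, the table over the subgroup of index 122760: the check of the rows 66000 to 67319 of the certificate (generated) -/

set_option autoImplicit false
set_option maxRecDepth 100000

namespace Cfsg.Agent.Lib.Helper8.ONM

theorem rows_ok_550 : rowsOK 66000 120 = true := by decide +kernel

theorem rows_ok_551 : rowsOK 66120 120 = true := by decide +kernel

theorem rows_ok_552 : rowsOK 66240 120 = true := by decide +kernel

theorem rows_ok_553 : rowsOK 66360 120 = true := by decide +kernel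

theorem rows_ok_554 : rowsOK 66480 120 = true := by decide +kernel

theorem rows_ok_555 : rowsOK 66600 120 = true := by decide +kernel

theorem rows_ok_556 : rowsOK 66720 120 = true := by decide +kernel

theorem rows_ok_557 : rowsOK 66840 120 = true := by decide +kernel

theorem rows_ok_558 : rowsOK 66960 120 = true := by decide +kernel

theorem rows_ok_559 : rowsOK 67080 120 = true := by decide +kernel

theorem rows_ok_560 : rowsOK 67200 120 = true := by decide +kernel

theorem rows_ok_f50 : ∀ k, k < 11 → rowsOK (120 * (550 + k)) 120 = true
  | 0, _ => rows_ok_550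
  | 1, _ => rows_ok_551
  | 2, _ => rows_ok_552
  | 3, _ => rows_ok_553
  | 4, _ => rows_ok_554
  | 5, _ => rows_ok_555
  | 6, _ => rows_ok_556
  | 7, _ => rows_ok_557
  | 8, _ => rows_ok_558
  | 9, _ => rows_ok_559
  | 10, _ => rows_ok_560
  | k + 11, h => absurd h (by omega)

end Cfsg.Agent.Lib.Helper8.ONM
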