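import Cfsg.Agent.Lib.Helper8.ONM.C
import Cfsg.Agent.Lib.Helper8.ONM.K27

/-! # The multiplier of the O'Nan group, the table over the subgroup of index 122760: the check of the rows 51480 to 52799 of the certificate (generated) -/

set_option autoImplicit false
set_option maxRecDepth 100000

namespace Cfsg.Agent.Lib.Helper8.ONM

theorem rows_ok_429 : rowsOK 51480 120 = true := by decide +kernel

theorem rows_ok_430 : rowsOK 51600 120 = true := by decide +kernel

theorem rows_ok_431 : rowsOK 51720 120 = true := by decide +kernel

theorem rows_ok_432 : rowsOK 51840 120 = true := by decide +kernel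

theorem rows_ok_433 : rowsOK 51960 120 = true := by decide +kernel

theorem rows_ok_434 : rowsOK 52080 120 = true := by decide +kernel

theorem rows_ok_435 : rowsOK 52200 120 = true := by decide +kernel

theorem rows_ok_436 : rowsOK 52320 120 = true := by decide +kernel

theorem rows_ok_437 : rowsOK 52440 120 = true := by decide +kernel

theorem rows_ok_438 : rowsOK 52560 120 = true := by decide +kernel

theorem rows_ok_439 : rowsOK 52680 120 = true := by decide +kernel

theorem rows_ok_f39 : ∀ k, k < 11 → rowsOK (120 * (429 + k)) 120 = true
  | 0, _ => rows_ok_429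
  | 1, _ => rows_ok_430
  | 2, _ => rows_ok_431
  | 3, _ => rows_ok_432
  | 4, _ => rows_ok_433
  | 5, _ => rows_ok_434
  | 6, _ => rows_ok_435
  | 7, _ => rows_ok_436
  | 8, _ => rows_ok_437
  | 9, _ => rows_ok_438
  | 10, _ => rows_ok_439
  | k + 11, h => absurd h (by omega)

end Cfsg.Agent.Lib.Helper8.ONM
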