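import Cfsg.Agent.Lib.Helper8.ONM.C
import Cfsg.Agent.Lib.Helper8.ONM.K39

/-! # The multiplier of the O'Nan group, the table over the subgroup of index 122760: the check of the rows 67320 to 68639 of the certificate (generated) -/

set_option autoImplicit false
set_option maxRecDepth 100000

namespace Cfsg.Agent.Lib.Helper8.ONM

theorem rows_ok_561 : rowsOK 67320 120 = true := by decide +kernel

theorem rows_ok_562 : rowsOK 67440 120 = true := by decide +kernel

theorem rows_ok_563 : rowsOK 67560 120 = true := by decide +kernel

theorem rows_ok_564 : rowsOK 67680 120 = true := by decide +kernel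

theorem rows_ok_565 : rowsOK 67800 120 = true := by decide +kernel

theorem rows_ok_566 : rowsOK 67920 120 = true := by decide +kernel

theorem rows_ok_567 : rowsOK 68040 120 = true := by decide +kernel

theorem rows_ok_568 : rowsOK 68160 120 = true := by decide +kernel

theorem rows_ok_569 : rowsOK 68280 120 = true := by decide +kernel

theorem rows_ok_570 : rowsOK 68400 120 = true := by decide +kernel

theorem rows_ok_571 : rowsOK 68520 120 = true := by decide +kernel

theorem rows_ok_f51 : ∀ k, k < 11 → rowsOK (120 * (561 + k)) 120 = true
  | 0, _ => rows_ok_561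
  | 1, _ => rows_ok_562
  | 2, _ => rows_ok_563
  | 3, _ => rows_ok_564
  | 4, _ => rows_ok_565
  | 5, _ => rows_ok_566
  | 6, _ => rows_ok_567
  | 7, _ => rows_ok_568
  | 8, _ => rows_ok_569
  | 9, _ => rows_ok_570
  | 10, _ => rows_ok_571
  | k + 11, h => absurd h (by omega)

end Cfsg.Agent.Lib.Helper8.ONM
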