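import Cfsg.Agent.Lib.Helper8.ONM.C
import Cfsg.Agent.Lib.Helper8.ONM.K41

/-! # The multiplier of the O'Nan group, the table over the subgroup of index 122760: the check of the rows 69960 to 71279 of the certificate (generated) -/

set_option autoImplicit false
set_option maxRecDepth 100000

namespace Cfsg.Agent.Lib.Helper8.ONM

theorem rows_ok_583 : rowsOK 69960 120 = true := by decide +kernel

theorem rows_ok_584 : rowsOK 70080 120 = true := by decide +kernel

theorem rows_ok_585 : rowsOK 70200 120 = true := by decide +kernel

theorem rows_ok_586 : rowsOK 70320 120 = true := by decide +kernel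

theorem rows_ok_587 : rowsOK 70440 120 = true := by decide +kernel

theorem rows_ok_588 : rowsOK 70560 120 = true := by decide +kernel

theorem rows_ok_589 : rowsOK 70680 120 = true := by decide +kernel

theorem rows_ok_590 : rowsOK 70800 120 = true := by decide +kernel

theorem rows_ok_591 : rowsOK 70920 120 = true := by decide +kernel

theorem rows_ok_592 : rowsOK 71040 120 = true := by decide +kernel

theorem rows_ok_593 : rowsOK 71160 120 = true := by decide +kernel

theorem rows_ok_f53 : ∀ k, k < 11 → rowsOK (120 * (583 + k)) 120 = true
  | 0, _ => rows_ok_583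
  | 1, _ => rows_ok_584
  | 2, _ => rows_ok_585
  | 3, _ => rows_ok_586
  | 4, _ => rows_ok_587
  | 5, _ => rows_ok_588
  | 6, _ => rows_ok_589
  | 7, _ => rows_ok_590
  | 8, _ => rows_ok_591
  | 9, _ => rows_ok_592
  | 10, _ => rows_ok_593
  | k + 11, h => absurd h (by omega)

end Cfsg.Agent.Lib.Helper8.ONM
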