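import Cfsg.Agent.Lib.Helper8.ONM.C
import Cfsg.Agent.Lib.Helper8.ONM.K42

/-! # The multiplier of the O'Nan group, the table over the subgroup of index 122760: the check of the rows 71280 to 72599 of the certificate (generated) -/

set_option autoImplicit false
set_option maxRecDepth 100000

namespace Cfsg.Agent.Lib.Helper8.ONM

theorem rows_ok_594 : rowsOK 71280 120 = true := by decide +kernel

theorem rows_ok_595 : rowsOK 71400 120 = true := by decide +kernel

theorem rows_ok_596 : rowsOK 71520 120 = true := by decide +kernel

theorem rows_ok_597 : rowsOK 71640 120 = true := by decide +kernel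

theorem rows_ok_598 : rowsOK 71760 120 = true := by decide +kernel

theorem rows_ok_599 : rowsOK 71880 120 = true := by decide +kernel

theorem rows_ok_600 : rowsOK 72000 120 = true := by decide +kernel

theorem rows_ok_601 : rowsOK 72120 120 = true := by decide +kernel

theorem rows_ok_602 : rowsOK 72240 120 = true := by decide +kernel

theorem rows_ok_603 : rowsOK 72360 120 = true := by decide +kernel

theorem rows_ok_604 : rowsOK 72480 120 = true := by decide +kernel

theorem rows_ok_f54 : ∀ k, k < 11 → rowsOK (120 * (594 + k)) 120 = true
  | 0, _ => rows_ok_594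
  | 1, _ => rows_ok_595
  | 2, _ => rows_ok_596
  | 3, _ => rows_ok_597
  | 4, _ => rows_ok_598
  | 5, _ => rows_ok_599
  | 6, _ => rows_ok_600
  | 7, _ => rows_ok_601
  | 8, _ => rows_ok_602
  | 9, _ => rows_ok_603
  | 10, _ => rows_ok_604
  | k + 11, h => absurd h (by omega)

end Cfsg.Agent.Lib.Helper8.ONM
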