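import Cfsg.Agent.Lib.Helper8.ONM.C
import Cfsg.Agent.Lib.Helper8.ONM.K43

/-! # The multiplier of the O'Nan group, the table over the subgroup of index 122760: the check of the rows 72600 to 73919 of the certificate (generated) -/

set_option autoImplicit false
set_option maxRecDepth 100000

namespace Cfsg.Agent.Lib.Helper8.ONM

theorem rows_ok_605 : rowsOK 72600 120 = true := by decide +kernel

theorem rows_ok_606 : rowsOK 72720 120 = true := by decide +kernel

theorem rows_ok_607 : rowsOK 72840 120 = true := by decide +kernel

theorem rows_ok_608 : rowsOK 72960 120 = true := by decide +kernel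

theorem rows_ok_609 : rowsOK 73080 120 = true := by decide +kernel

theorem rows_ok_610 : rowsOK 73200 120 = true := by decide +kernel

theorem rows_ok_611 : rowsOK 73320 120 = true := by decide +kernel

theorem rows_ok_612 : rowsOK 73440 120 = true := by decide +kernel

theorem rows_ok_613 : rowsOK 73560 120 = true := by decide +kernel

theorem rows_ok_614 : rowsOK 73680 120 = true := by decide +kernel

theorem rows_ok_615 : rowsOK 73800 120 = true := by decide +kernel

theorem rows_ok_f55 : ∀ k, k < 11 → rowsOK (120 * (605 + k)) 120 = true
  | 0, _ => rows_ok_605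
  | 1, _ => rows_ok_606
  | 2, _ => rows_ok_607
  | 3, _ => rows_ok_608
  | 4, _ => rows_ok_609
  | 5, _ => rows_ok_610
  | 6, _ => rows_ok_611
  | 7, _ => rows_ok_612
  | 8, _ => rows_ok_613
  | 9, _ => rows_ok_614
  | 10, _ => rows_ok_615
  | k + 11, h => absurd h (by omega)

end Cfsg.Agent.Lib.Helper8.ONM
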