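import Cfsg.Agent.Lib.Helper8.ONM.C
import Cfsg.Agent.Lib.Helper8.ONM.K44

/-! # The multiplier of the O'Nan group, the table over the subgroup of index 122760: the check of the rows 73920 to 75239 of the certificate (generated) -/

set_option autoImplicit false
set_option maxRecDepth 100000

namespace Cfsg.Agent.Lib.Helper8.ONM

theorem rows_ok_616 : rowsOK 73920 120 = true := by decide +kernel

theorem rows_ok_617 : rowsOK 74040 120 = true := by decide +kernel

theorem rows_ok_618 : rowsOK 74160 120 = true := by decide +kernel

theorem rows_ok_619 : rowsOK 74280 120 = true := by decide +kernel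

theorem rows_ok_620 : rowsOK 74400 120 = true := by decide +kernel

theorem rows_ok_621 : rowsOK 74520 120 = true := by decide +kernel

theorem rows_ok_622 : rowsOK 74640 120 = true := by decide +kernel

theorem rows_ok_623 : rowsOK 74760 120 = true := by decide +kernel

theorem rows_ok_624 : rowsOK 74880 120 = true := by decide +kernel

theorem rows_ok_625 : rowsOK 75000 120 = true := by decide +kernel

theorem rows_ok_626 : rowsOK 75120 120 = true := by decide +kernel

theorem rows_ok_f56 : ∀ k, k < 11 → rowsOK (120 * (616 + k)) 120 = true
  | 0, _ => rows_ok_616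
  | 1, _ => rows_ok_617
  | 2, _ => rows_ok_618
  | 3, _ => rows_ok_619
  | 4, _ => rows_ok_620
  | 5, _ => rows_ok_621
  | 6, _ => rows_ok_622
  | 7, _ => rows_ok_623
  | 8, _ => rows_ok_624
  | 9, _ => rows_ok_625
  | 10, _ => rows_ok_626
  | k + 11, h => absurd h (by omega)

end Cfsg.Agent.Lib.Helper8.ONM
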