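import Cfsg.Agent.Lib.Helper8.ONM.C
import Cfsg.Agent.Lib.Helper8.ONM.K45

/-! # The multiplier of the O'Nan group, the table over the subgroup of index 122760: the check of the rows 75240 to 76559 of the certificate (generated) -/

set_option autoImplicit false
set_option maxRecDepth 100000

namespace Cfsg.Agent.Lib.Helper8.ONM

theorem rows_ok_627 : rowsOK 75240 120 = true := by decide +kernel

theorem rows_ok_628 : rowsOK 75360 120 = true := by decide +kernel

theorem rows_ok_629 : rowsOK 75480 120 = true := by decide +kernel

theorem rows_ok_630 : rowsOK 75600 120 = true := by decide +kernel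

theorem rows_ok_631 : rowsOK 75720 120 = true := by decide +kernel

theorem rows_ok_632 : rowsOK 75840 120 = true := by decide +kernel

theorem rows_ok_633 : rowsOK 75960 120 = true := by decide +kernel

theorem rows_ok_634 : rowsOK 76080 120 = true := by decide +kernel

theorem rows_ok_635 : rowsOK 76200 120 = true := by decide +kernel

theorem rows_ok_636 : rowsOK 76320 120 = true := by decide +kernel

theorem rows_ok_637 : rowsOK 76440 120 = true := by decide +kernel

theorem rows_ok_f57 : ∀ k, k < 11 → rowsOK (120 * (627 + k)) 120 = true
  | 0, _ => rows_ok_627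
  | 1, _ => rows_ok_628
  | 2, _ => rows_ok_629
  | 3, _ => rows_ok_630
  | 4, _ => rows_ok_631
  | 5, _ => rows_ok_632
  | 6, _ => rows_ok_633
  | 7, _ => rows_ok_634
  | 8, _ => rows_ok_635
  | 9, _ => rows_ok_636
  | 10, _ => rows_ok_637
  | k + 11, h => absurd h (by omega)

end Cfsg.Agent.Lib.Helper8.ONM
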