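import Cfsg.Agent.Lib.Helper8.ONM.C
import Cfsg.Agent.Lib.Helper8.ONM.K46

/-! # The multiplier of the O'Nan group, the table over the subgroup of index 122760: the check of the rows 76560 to 77879 of the certificate (generated) -/

set_option autoImplicit false
set_option maxRecDepth 100000

namespace Cfsg.Agent.Lib.Helper8.ONM

theorem rows_ok_638 : rowsOK 76560 120 = true := by decide +kernel

theorem rows_ok_639 : rowsOK 76680 120 = true := by decide +kernel

theorem rows_ok_640 : rowsOK 76800 120 = true := by decide +kernel

theorem rows_ok_641 : rowsOK 76920 120 = true := by decide +kernel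

theorem rows_ok_642 : rowsOK 77040 120 = true := by decide +kernel

theorem rows_ok_643 : rowsOK 77160 120 = true := by decide +kernel

theorem rows_ok_644 : rowsOK 77280 120 = true := by decide +kernel

theorem rows_ok_645 : rowsOK 77400 120 = true := by decide +kernel

theorem rows_ok_646 : rowsOK 77520 120 = true := by decide +kernel

theorem rows_ok_647 : rowsOK 77640 120 = true := by decide +kernel

theorem rows_ok_648 : rowsOK 77760 120 = true := by decide +kernel

theorem rows_ok_f58 : ∀ k, k < 11 → rowsOK (120 * (638 + k)) 120 = true
  | 0, _ => rows_ok_638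
  | 1, _ => rows_ok_639
  | 2, _ => rows_ok_640
  | 3, _ => rows_ok_641
  | 4, _ => rows_ok_642
  | 5, _ => rows_ok_643
  | 6, _ => rows_ok_644
  | 7, _ => rows_ok_645
  | 8, _ => rows_ok_646
  | 9, _ => rows_ok_647
  | 10, _ => rows_ok_648
  | k + 11, h => absurd h (by omega)

end Cfsg.Agent.Lib.Helper8.ONM
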