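import Cfsg.Agent.Lib.Helper8.ONM.C
import Cfsg.Agent.Lib.Helper8.ONM.K47

/-! # The multiplier of the O'Nan group, the table over the subgroup of index 122760: the check of the rows 77880 to 79199 of the certificate (generated) -/

set_option autoImplicit false
set_option maxRecDepth 100000

namespace Cfsg.Agent.Lib.Helper8.ONM

theorem rows_ok_649 : rowsOK 77880 120 = true := by decide +kernel

theorem rows_ok_650 : rowsOK 78000 120 = true := by decide +kernel

theorem rows_ok_651 : rowsOK 78120 120 = true := by decide +kernel

theorem rows_ok_652 : rowsOK 78240 120 = true := by decide +kernel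

theorem rows_ok_653 : rowsOK 78360 120 = true := by decide +kernel

theorem rows_ok_654 : rowsOK 78480 120 = true := by decide +kernel

theorem rows_ok_655 : rowsOK 78600 120 = true := by decide +kernel

theorem rows_ok_656 : rowsOK 78720 120 = true := by decide +kernel

theorem rows_ok_657 : rowsOK 78840 120 = true := by decide +kernel

theorem rows_ok_658 : rowsOK 78960 120 = true := by decide +kernel

theorem rows_ok_659 : rowsOK 79080 120 = true := by decide +kernel

theorem rows_ok_f59 : ∀ k, k < 11 → rowsOK (120 * (649 + k)) 120 = true
  | 0, _ => rows_ok_649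
  | 1, _ => rows_ok_650
  | 2, _ => rows_ok_651
  | 3, _ => rows_ok_652
  | 4, _ => rows_ok_653
  | 5, _ => rows_ok_654
  | 6, _ => rows_ok_655
  | 7, _ => rows_ok_656
  | 8, _ => rows_ok_657
  | 9, _ => rows_ok_658
  | 10, _ => rows_ok_659
  | k + 11, h => absurd h (by omega)

end Cfsg.Agent.Lib.Helper8.ONM
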