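import Cfsg.Agent.Lib.Helper8.ONM.C
import Cfsg.Agent.Lib.Helper8.ONM.K48

/-! # The multiplier of the O'Nan group, the table over the subgroup of index 122760: the check of the rows 79200 to 80519 of the certificate (generated) -/

set_option autoImplicit false
set_option maxRecDepth 100000

namespace Cfsg.Agent.Lib.Helper8.ONM

theorem rows_ok_660 : rowsOK 79200 120 = true := by decide +kernel

theorem rows_ok_661 : rowsOK 79320 120 = true := by decide +kernel

theorem rows_ok_662 : rowsOK 79440 120 = true := by decide +kernel

theorem rows_ok_663 : rowsOK 79560 120 = true := by decide +kernel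

theorem rows_ok_664 : rowsOK 79680 120 = true := by decide +kernel

theorem rows_ok_665 : rowsOK 79800 120 = true := by decide +kernel

theorem rows_ok_666 : rowsOK 79920 120 = true := by decide +kernel

theorem rows_ok_667 : rowsOK 80040 120 = true := by decide +kernel

theorem rows_ok_668 : rowsOK 80160 120 = true := by decide +kernel

theorem rows_ok_669 : rowsOK 80280 120 = true := by decide +kernel

theorem rows_ok_670 : rowsOK 80400 120 = true := by decide +kernel

theorem rows_ok_f60 : ∀ k, k < 11 → rowsOK (120 * (660 + k)) 120 = true
  | 0, _ => rows_ok_660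
  | 1, _ => rows_ok_661
  | 2, _ => rows_ok_662
  | 3, _ => rows_ok_663
  | 4, _ => rows_ok_664
  | 5, _ => rows_ok_665
  | 6, _ => rows_ok_666
  | 7, _ => rows_ok_667
  | 8, _ => rows_ok_668
  | 9, _ => rows_ok_669
  | 10, _ => rows_ok_670
  | k + 11, h => absurd h (by omega)

end Cfsg.Agent.Lib.Helper8.ONM
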