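import Cfsg.Agent.Lib.Helper8.ONM.C
import Cfsg.Agent.Lib.Helper8.ONM.K49

/-! # The multiplier of the O'Nan group, the table over the subgroup of index 122760: the check of the rows 80520 to 81839 of the certificate (generated) -/

set_option autoImplicit false
set_option maxRecDepth 100000

namespace Cfsg.Agent.Lib.Helper8.ONM

theorem rows_ok_671 : rowsOK 80520 120 = true := by decide +kernel

theorem rows_ok_672 : rowsOK 80640 120 = true := by decide +kernel

theorem rows_ok_673 : rowsOK 80760 120 = true := by decide +kernel

theorem rows_ok_674 : rowsOK 80880 120 = true := by decide +kernel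

theorem rows_ok_675 : rowsOK 81000 120 = true := by decide +kernel

theorem rows_ok_676 : rowsOK 81120 120 = true := by decide +kernel

theorem rows_ok_677 : rowsOK 81240 120 = true := by decide +kernel

theorem rows_ok_678 : rowsOK 81360 120 = true := by decide +kernel

theorem rows_ok_679 : rowsOK 81480 120 = true := by decide +kernel

theorem rows_ok_680 : rowsOK 81600 120 = true := by decide +kernel

theorem rows_ok_681 : rowsOK 81720 120 = true := by decide +kernel

theorem rows_ok_f61 : ∀ k, k < 11 → rowsOK (120 * (671 + k)) 120 = true
  | 0, _ => rows_ok_671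
  | 1, _ => rows_ok_672
  | 2, _ => rows_ok_673
  | 3, _ => rows_ok_674
  | 4, _ => rows_ok_675
  | 5, _ => rows_ok_676
  | 6, _ => rows_ok_677
  | 7, _ => rows_ok_678
  | 8, _ => rows_ok_679
  | 9, _ => rows_ok_680
  | 10, _ => rows_ok_681
  | k + 11, h => absurd h (by omega)

end Cfsg.Agent.Lib.Helper8.ONM
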