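import Cfsg.Agent.Lib.Helper8.ONM.C
import Cfsg.Agent.Lib.Helper8.ONM.K50

/-! # The multiplier of the O'Nan group, the table over the subgroup of index 122760: the check of the rows 81840 to 83159 of the certificate (generated) -/

set_option autoImplicit false
set_option maxRecDepth 100000

namespace Cfsg.Agent.Lib.Helper8.ONM

theorem rows_ok_682 : rowsOK 81840 120 = true := by decide +kernel

theorem rows_ok_683 : rowsOK 81960 120 = true := by decide +kernel

theorem rows_ok_684 : rowsOK 82080 120 = true := by decide +kernel

theorem rows_ok_685 : rowsOK 82200 120 = true := by decide +kernel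

theorem rows_ok_686 : rowsOK 82320 120 = true := by decide +kernel

theorem rows_ok_687 : rowsOK 82440 120 = true := by decide +kernel

theorem rows_ok_688 : rowsOK 82560 120 = true := by decide +kernel

theorem rows_ok_689 : rowsOK 82680 120 = true := by decide +kernel

theorem rows_ok_690 : rowsOK 82800 120 = true := by decide +kernel

theorem rows_ok_691 : rowsOK 82920 120 = true := by decide +kernel

theorem rows_ok_692 : rowsOK 83040 120 = true := by decide +kernel

theorem rows_ok_f62 : ∀ k, k < 11 → rowsOK (120 * (682 + k)) 120 = true
  | 0, _ => rows_ok_682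
  | 1, _ => rows_ok_683
  | 2, _ => rows_ok_684
  | 3, _ => rows_ok_685
  | 4, _ => rows_ok_686
  | 5, _ => rows_ok_687
  | 6, _ => rows_ok_688
  | 7, _ => rows_ok_689
  | 8, _ => rows_ok_690
  | 9, _ => rows_ok_691
  | 10, _ => rows_ok_692
  | k + 11, h => absurd h (by omega)

end Cfsg.Agent.Lib.Helper8.ONM
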