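import Cfsg.Agent.Lib.Helper8.ONM.C
import Cfsg.Agent.Lib.Helper8.ONM.K51

/-! # The multiplier of the O'Nan group, the table over the subgroup of index 122760: the check of the rows 83160 to 84479 of the certificate (generated) -/

set_option autoImplicit false
set_option maxRecDepth 100000

namespace Cfsg.Agent.Lib.Helper8.ONM

theorem rows_ok_693 : rowsOK 83160 120 = true := by decide +kernel

theorem rows_ok_694 : rowsOK 83280 120 = true := by decide +kernel

theorem rows_ok_695 : rowsOK 83400 120 = true := by decide +kernel

theorem rows_ok_696 : rowsOK 83520 120 = true := by decide +kernel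

theorem rows_ok_697 : rowsOK 83640 120 = true := by decide +kernel

theorem rows_ok_698 : rowsOK 83760 120 = true := by decide +kernel

theorem rows_ok_699 : rowsOK 83880 120 = true := by decide +kernel

theorem rows_ok_700 : rowsOK 84000 120 = true := by decide +kernel

theorem rows_ok_701 : rowsOK 84120 120 = true := by decide +kernel

theorem rows_ok_702 : rowsOK 84240 120 = true := by decide +kernel

theorem rows_ok_703 : rowsOK 84360 120 = true := by decide +kernel

theorem rows_ok_f63 : ∀ k, k < 11 → rowsOK (120 * (693 + k)) 120 = true
  | 0, _ => rows_ok_693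
  | 1, _ => rows_ok_694
  | 2, _ => rows_ok_695
  | 3, _ => rows_ok_696
  | 4, _ => rows_ok_697
  | 5, _ => rows_ok_698
  | 6, _ => rows_ok_699
  | 7, _ => rows_ok_700
  | 8, _ => rows_ok_701
  | 9, _ => rows_ok_702
  | 10, _ => rows_ok_703
  | k + 11, h => absurd h (by omega)

end Cfsg.Agent.Lib.Helper8.ONM
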