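import Cfsg.Agent.Lib.Helper8.ONM.C
import Cfsg.Agent.Lib.Helper8.ONM.K40

/-! # The multiplier of the O'Nan group, the table over the subgroup of index 122760: the check of the rows 68640 to 69959 of the certificate (generated) -/

set_option autoImplicit false
set_option maxRecDepth 100000

namespace Cfsg.Agent.Lib.Helper8.ONM

theorem rows_ok_572 : rowsOK 68640 120 = true := by decide +kernel

theorem rows_ok_573 : rowsOK 68760 120 = true := by decide +kernel

theorem rows_ok_574 : rowsOK 68880 120 = true := by decide +kernel

theorem rows_ok_575 : rowsOK 69000 120 = true := by decide +kernel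

theorem rows_ok_576 : rowsOK 69120 120 = true := by decide +kernel

theorem rows_ok_577 : rowsOK 69240 120 = true := by decide +kernel

theorem rows_ok_578 : rowsOK 69360 120 = true := by decide +kernel

theorem rows_ok_579 : rowsOK 69480 120 = true := by decide +kernel

theorem rows_ok_580 : rowsOK 69600 120 = true := by decide +kernel

theorem rows_ok_581 : rowsOK 69720 120 = true := by decide +kernel

theorem rows_ok_582 : rowsOK 69840 120 = true := by decide +kernel

theorem rows_ok_f52 : ∀ k, k < 11 → rowsOK (120 * (572 + k)) 120 = true
  | 0, _ => rows_ok_572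
  | 1, _ => rows_ok_573
  | 2, _ => rows_ok_574
  | 3, _ => rows_ok_575
  | 4, _ => rows_ok_576
  | 5, _ => rows_ok_577
  | 6, _ => rows_ok_578
  | 7, _ => rows_ok_579
  | 8, _ => rows_ok_580
  | 9, _ => rows_ok_581
  | 10, _ => rows_ok_582
  | k + 11, h => absurd h (by omega)

end Cfsg.Agent.Lib.Helper8.ONM
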