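import Cfsg.Agent.Lib.Helper8.ONM.C
import Cfsg.Agent.Lib.Helper8.ONM.K52

/-! # The multiplier of the O'Nan group, the table over the subgroup of index 122760: the check of the rows 84480 to 85799 of the certificate (generated) -/

set_option autoImplicit false
set_option maxRecDepth 100000

namespace Cfsg.Agent.Lib.Helper8.ONM

theorem rows_ok_704 : rowsOK 84480 120 = true := by decide +kernel

theorem rows_ok_705 : rowsOK 84600 120 = true := by decide +kernel

theorem rows_ok_706 : rowsOK 84720 120 = true := by decide +kernel

theorem rows_ok_707 : rowsOK 84840 120 = true := by decide +kernel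

theorem rows_ok_708 : rowsOK 84960 120 = true := by decide +kernel

theorem rows_ok_709 : rowsOK 85080 120 = true := by decide +kernel

theorem rows_ok_710 : rowsOK 85200 120 = true := by decide +kernel

theorem rows_ok_711 : rowsOK 85320 120 = true := by decide +kernel

theorem rows_ok_712 : rowsOK 85440 120 = true := by decide +kernel

theorem rows_ok_713 : rowsOK 85560 120 = true := by decide +kernel

theorem rows_ok_714 : rowsOK 85680 120 = true := by decide +kernel

theorem rows_ok_f64 : ∀ k, k < 11 → rowsOK (120 * (704 + k)) 120 = true
  | 0, _ => rows_ok_704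
  | 1, _ => rows_ok_705
  | 2, _ => rows_ok_706
  | 3, _ => rows_ok_707
  | 4, _ => rows_ok_708
  | 5, _ => rows_ok_709
  | 6, _ => rows_ok_710
  | 7, _ => rows_ok_711
  | 8, _ => rows_ok_712
  | 9, _ => rows_ok_713
  | 10, _ => rows_ok_714
  | k + 11, h => absurd h (by omega)

end Cfsg.Agent.Lib.Helper8.ONM
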