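import Cfsg.Agent.Lib.Helper8.ONM.C
import Cfsg.Agent.Lib.Helper8.ONM.K54

/-! # The multiplier of the O'Nan group, the table over the subgroup of index 122760: the check of the rows 87120 to 88439 of the certificate (generated) -/

set_option autoImplicit false
set_option maxRecDepth 100000

namespace Cfsg.Agent.Lib.Helper8.ONM

theorem rows_ok_726 : rowsOK 87120 120 = true := by decide +kernel

theorem rows_ok_727 : rowsOK 87240 120 = true := by decide +kernel

theorem rows_ok_728 : rowsOK 87360 120 = true := by decide +kernel

theorem rows_ok_729 : rowsOK 87480 120 = true := by decide +kernel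

theorem rows_ok_730 : rowsOK 87600 120 = true := by decide +kernel

theorem rows_ok_731 : rowsOK 87720 120 = true := by decide +kernel

theorem rows_ok_732 : rowsOK 87840 120 = true := by decide +kernel

theorem rows_ok_733 : rowsOK 87960 120 = true := by decide +kernel

theorem rows_ok_734 : rowsOK 88080 120 = true := by decide +kernel

theorem rows_ok_735 : rowsOK 88200 120 = true := by decide +kernel

theorem rows_ok_736 : rowsOK 88320 120 = true := by decide +kernel

theorem rows_ok_f66 : ∀ k, k < 11 → rowsOK (120 * (726 + k)) 120 = true
  | 0, _ => rows_ok_726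
  | 1, _ => rows_ok_727
  | 2, _ => rows_ok_728
  | 3, _ => rows_ok_729
  | 4, _ => rows_ok_730
  | 5, _ => rows_ok_731
  | 6, _ => rows_ok_732
  | 7, _ => rows_ok_733
  | 8, _ => rows_ok_734
  | 9, _ => rows_ok_735
  | 10, _ => rows_ok_736
  | k + 11, h => absurd h (by omega)

end Cfsg.Agent.Lib.Helper8.ONM
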