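import Cfsg.Agent.Lib.Helper8.ONM.C
import Cfsg.Agent.Lib.Helper8.ONM.K55

/-! # The multiplier of the O'Nan group, the table over the subgroup of index 122760: the check of the rows 88440 to 89759 of the certificate (generated) -/

set_option autoImplicit false
set_option maxRecDepth 100000

namespace Cfsg.Agent.Lib.Helper8.ONM

theorem rows_ok_737 : rowsOK 88440 120 = true := by decide +kernel

theorem rows_ok_738 : rowsOK 88560 120 = true := by decide +kernel

theorem rows_ok_739 : rowsOK 88680 120 = true := by decide +kernel

theorem rows_ok_740 : rowsOK 88800 120 = true := by decide +kernel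

theorem rows_ok_741 : rowsOK 88920 120 = true := by decide +kernel

theorem rows_ok_742 : rowsOK 89040 120 = true := by decide +kernel

theorem rows_ok_743 : rowsOK 89160 120 = true := by decide +kernel

theorem rows_ok_744 : rowsOK 89280 120 = true := by decide +kernel

theorem rows_ok_745 : rowsOK 89400 120 = true := by decide +kernel

theorem rows_ok_746 : rowsOK 89520 120 = true := by decide +kernel

theorem rows_ok_747 : rowsOK 89640 120 = true := by decide +kernel

theorem rows_ok_f67 : ∀ k, k < 11 → rowsOK (120 * (737 + k)) 120 = true
  | 0, _ => rows_ok_737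
  | 1, _ => rows_ok_738
  | 2, _ => rows_ok_739
  | 3, _ => rows_ok_740
  | 4, _ => rows_ok_741
  | 5, _ => rows_ok_742
  | 6, _ => rows_ok_743
  | 7, _ => rows_ok_744
  | 8, _ => rows_ok_745
  | 9, _ => rows_ok_746
  | 10, _ => rows_ok_747
  | k + 11, h => absurd h (by omega)

end Cfsg.Agent.Lib.Helper8.ONM
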