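import Cfsg.Agent.Lib.Helper8.ONM.C
import Cfsg.Agent.Lib.Helper8.ONM.K56

/-! # The multiplier of the O'Nan group, the table over the subgroup of index 122760: the check of the rows 89760 to 91079 of the certificate (generated) -/

set_option autoImplicit false
set_option maxRecDepth 100000

namespace Cfsg.Agent.Lib.Helper8.ONM

theorem rows_ok_748 : rowsOK 89760 120 = true := by decide +kernel

theorem rows_ok_749 : rowsOK 89880 120 = true := by decide +kernel

theorem rows_ok_750 : rowsOK 90000 120 = true := by decide +kernel

theorem rows_ok_751 : rowsOK 90120 120 = true := by decide +kernel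

theorem rows_ok_752 : rowsOK 90240 120 = true := by decide +kernel

theorem rows_ok_753 : rowsOK 90360 120 = true := by decide +kernel

theorem rows_ok_754 : rowsOK 90480 120 = true := by decide +kernel

theorem rows_ok_755 : rowsOK 90600 120 = true := by decide +kernel

theorem rows_ok_756 : rowsOK 90720 120 = true := by decide +kernel

theorem rows_ok_757 : rowsOK 90840 120 = true := by decide +kernel

theorem rows_ok_758 : rowsOK 90960 120 = true := by decide +kernel

theorem rows_ok_f68 : ∀ k, k < 11 → rowsOK (120 * (748 + k)) 120 = true
  | 0, _ => rows_ok_748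
  | 1, _ => rows_ok_749
  | 2, _ => rows_ok_750
  | 3, _ => rows_ok_751
  | 4, _ => rows_ok_752
  | 5, _ => rows_ok_753
  | 6, _ => rows_ok_754
  | 7, _ => rows_ok_755
  | 8, _ => rows_ok_756
  | 9, _ => rows_ok_757
  | 10, _ => rows_ok_758
  | k + 11, h => absurd h (by omega)

end Cfsg.Agent.Lib.Helper8.ONM
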