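import Cfsg.Agent.Lib.Helper8.ONM.C
import Cfsg.Agent.Lib.Helper8.ONM.K57

/-! # The multiplier of the O'Nan group, the table over the subgroup of index 122760: the check of the rows 91080 to 92399 of the certificate (generated) -/

set_option autoImplicit false
set_option maxRecDepth 100000

namespace Cfsg.Agent.Lib.Helper8.ONM

theorem rows_ok_759 : rowsOK 91080 120 = true := by decide +kernel

theorem rows_ok_760 : rowsOK 91200 120 = true := by decide +kernel

theorem rows_ok_761 : rowsOK 91320 120 = true := by decide +kernel

theorem rows_ok_762 : rowsOK 91440 120 = true := by decide +kernel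

theorem rows_ok_763 : rowsOK 91560 120 = true := by decide +kernel

theorem rows_ok_764 : rowsOK 91680 120 = true := by decide +kernel

theorem rows_ok_765 : rowsOK 91800 120 = true := by decide +kernel

theorem rows_ok_766 : rowsOK 91920 120 = true := by decide +kernel

theorem rows_ok_767 : rowsOK 92040 120 = true := by decide +kernel

theorem rows_ok_768 : rowsOK 92160 120 = true := by decide +kernel

theorem rows_ok_769 : rowsOK 92280 120 = true := by decide +kernel

theorem rows_ok_f69 : ∀ k, k < 11 → rowsOK (120 * (759 + k)) 120 = true
  | 0, _ => rows_ok_759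
  | 1, _ => rows_ok_760
  | 2, _ => rows_ok_761
  | 3, _ => rows_ok_762
  | 4, _ => rows_ok_763
  | 5, _ => rows_ok_764
  | 6, _ => rows_ok_765
  | 7, _ => rows_ok_766
  | 8, _ => rows_ok_767
  | 9, _ => rows_ok_768
  | 10, _ => rows_ok_769
  | k + 11, h => absurd h (by omega)

end Cfsg.Agent.Lib.Helper8.ONM
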