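import Cfsg.Agent.Lib.Helper8.ONM.C
import Cfsg.Agent.Lib.Helper8.ONM.K58

/-! # The multiplier of the O'Nan group, the table over the subgroup of index 122760: the check of the rows 92400 to 93719 of the certificate (generated) -/

set_option autoImplicit false
set_option maxRecDepth 100000

namespace Cfsg.Agent.Lib.Helper8.ONM

theorem rows_ok_770 : rowsOK 92400 120 = true := by decide +kernel

theorem rows_ok_771 : rowsOK 92520 120 = true := by decide +kernel

theorem rows_ok_772 : rowsOK 92640 120 = true := by decide +kernel

theorem rows_ok_773 : rowsOK 92760 120 = true := by decide +kernel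

theorem rows_ok_774 : rowsOK 92880 120 = true := by decide +kernel

theorem rows_ok_775 : rowsOK 93000 120 = true := by decide +kernel

theorem rows_ok_776 : rowsOK 93120 120 = true := by decide +kernel

theorem rows_ok_777 : rowsOK 93240 120 = true := by decide +kernel

theorem rows_ok_778 : rowsOK 93360 120 = true := by decide +kernel

theorem rows_ok_779 : rowsOK 93480 120 = true := by decide +kernel

theorem rows_ok_780 : rowsOK 93600 120 = true := by decide +kernel

theorem rows_ok_f70 : ∀ k, k < 11 → rowsOK (120 * (770 + k)) 120 = true
  | 0, _ => rows_ok_770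
  | 1, _ => rows_ok_771
  | 2, _ => rows_ok_772
  | 3, _ => rows_ok_773
  | 4, _ => rows_ok_774
  | 5, _ => rows_ok_775
  | 6, _ => rows_ok_776
  | 7, _ => rows_ok_777
  | 8, _ => rows_ok_778
  | 9, _ => rows_ok_779
  | 10, _ => rows_ok_780
  | k + 11, h => absurd h (by omega)

end Cfsg.Agent.Lib.Helper8.ONM
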