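import Cfsg.Agent.Lib.Helper8.ONM.C
import Cfsg.Agent.Lib.Helper8.ONM.K59

/-! # The multiplier of the O'Nan group, the table over the subgroup of index 122760: the check of the rows 93720 to 95039 of the certificate (generated) -/

set_option autoImplicit false
set_option maxRecDepth 100000

namespace Cfsg.Agent.Lib.Helper8.ONM

theorem rows_ok_781 : rowsOK 93720 120 = true := by decide +kernel

theorem rows_ok_782 : rowsOK 93840 120 = true := by decide +kernel

theorem rows_ok_783 : rowsOK 93960 120 = true := by decide +kernel

theorem rows_ok_784 : rowsOK 94080 120 = true := by decide +kernel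

theorem rows_ok_785 : rowsOK 94200 120 = true := by decide +kernel

theorem rows_ok_786 : rowsOK 94320 120 = true := by decide +kernel

theorem rows_ok_787 : rowsOK 94440 120 = true := by decide +kernel

theorem rows_ok_788 : rowsOK 94560 120 = true := by decide +kernel

theorem rows_ok_789 : rowsOK 94680 120 = true := by decide +kernel

theorem rows_ok_790 : rowsOK 94800 120 = true := by decide +kernel

theorem rows_ok_791 : rowsOK 94920 120 = true := by decide +kernel

theorem rows_ok_f71 : ∀ k, k < 11 → rowsOK (120 * (781 + k)) 120 = true
  | 0, _ => rows_ok_781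
  | 1, _ => rows_ok_782
  | 2, _ => rows_ok_783
  | 3, _ => rows_ok_784
  | 4, _ => rows_ok_785
  | 5, _ => rows_ok_786
  | 6, _ => rows_ok_787
  | 7, _ => rows_ok_788
  | 8, _ => rows_ok_789
  | 9, _ => rows_ok_790
  | 10, _ => rows_ok_791
  | k + 11, h => absurd h (by omega)

end Cfsg.Agent.Lib.Helper8.ONM
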