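import Cfsg.Agent.Lib.Helper8.ONM.C
import Cfsg.Agent.Lib.Helper8.ONM.K60

/-! # The multiplier of the O'Nan group, the table over the subgroup of index 122760: the check of the rows 95040 to 96359 of the certificate (generated) -/

set_option autoImplicit false
set_option maxRecDepth 100000

namespace Cfsg.Agent.Lib.Helper8.ONM

theorem rows_ok_792 : rowsOK 95040 120 = true := by decide +kernel

theorem rows_ok_793 : rowsOK 95160 120 = true := by decide +kernel

theorem rows_ok_794 : rowsOK 95280 120 = true := by decide +kernel

theorem rows_ok_795 : rowsOK 95400 120 = true := by decide +kernel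

theorem rows_ok_796 : rowsOK 95520 120 = true := by decide +kernel

theorem rows_ok_797 : rowsOK 95640 120 = true := by decide +kernel

theorem rows_ok_798 : rowsOK 95760 120 = true := by decide +kernel

theorem rows_ok_799 : rowsOK 95880 120 = true := by decide +kernel

theorem rows_ok_800 : rowsOK 96000 120 = true := by decide +kernel

theorem rows_ok_801 : rowsOK 96120 120 = true := by decide +kernel

theorem rows_ok_802 : rowsOK 96240 120 = true := by decide +kernel

theorem rows_ok_f72 : ∀ k, k < 11 → rowsOK (120 * (792 + k)) 120 = true
  | 0, _ => rows_ok_792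
  | 1, _ => rows_ok_793
  | 2, _ => rows_ok_794
  | 3, _ => rows_ok_795
  | 4, _ => rows_ok_796
  | 5, _ => rows_ok_797
  | 6, _ => rows_ok_798
  | 7, _ => rows_ok_799
  | 8, _ => rows_ok_800
  | 9, _ => rows_ok_801
  | 10, _ => rows_ok_802
  | k + 11, h => absurd h (by omega)

end Cfsg.Agent.Lib.Helper8.ONM
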