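import Cfsg.Agent.Lib.Helper8.ONM.C
import Cfsg.Agent.Lib.Helper8.ONM.K61

/-! # The multiplier of the O'Nan group, the table over the subgroup of index 122760: the check of the rows 96360 to 97679 of the certificate (generated) -/

set_option autoImplicit false
set_option maxRecDepth 100000

namespace Cfsg.Agent.Lib.Helper8.ONM

theorem rows_ok_803 : rowsOK 96360 120 = true := by decide +kernel

theorem rows_ok_804 : rowsOK 96480 120 = true := by decide +kernel

theorem rows_ok_805 : rowsOK 96600 120 = true := by decide +kernel

theorem rows_ok_806 : rowsOK 96720 120 = true := by decide +kernel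

theorem rows_ok_807 : rowsOK 96840 120 = true := by decide +kernel

theorem rows_ok_808 : rowsOK 96960 120 = true := by decide +kernel

theorem rows_ok_809 : rowsOK 97080 120 = true := by decide +kernel

theorem rows_ok_810 : rowsOK 97200 120 = true := by decide +kernel

theorem rows_ok_811 : rowsOK 97320 120 = true := by decide +kernel

theorem rows_ok_812 : rowsOK 97440 120 = true := by decide +kernel

theorem rows_ok_813 : rowsOK 97560 120 = true := by decide +kernel

theorem rows_ok_f73 : ∀ k, k < 11 → rowsOK (120 * (803 + k)) 120 = true
  | 0, _ => rows_ok_803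
  | 1, _ => rows_ok_804
  | 2, _ => rows_ok_805
  | 3, _ => rows_ok_806
  | 4, _ => rows_ok_807
  | 5, _ => rows_ok_808
  | 6, _ => rows_ok_809
  | 7, _ => rows_ok_810
  | 8, _ => rows_ok_811
  | 9, _ => rows_ok_812
  | 10, _ => rows_ok_813
  | k + 11, h => absurd h (by omega)

end Cfsg.Agent.Lib.Helper8.ONM
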