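import Cfsg.Agent.Lib.Helper8.ONM.C
import Cfsg.Agent.Lib.Helper8.ONM.K62

/-! # The multiplier of the O'Nan group, the table over the subgroup of index 122760: the check of the rows 97680 to 98999 of the certificate (generated) -/

set_option autoImplicit false
set_option maxRecDepth 100000

namespace Cfsg.Agent.Lib.Helper8.ONM

theorem rows_ok_814 : rowsOK 97680 120 = true := by decide +kernel

theorem rows_ok_815 : rowsOK 97800 120 = true := by decide +kernel

theorem rows_ok_816 : rowsOK 97920 120 = true := by decide +kernel

theorem rows_ok_817 : rowsOK 98040 120 = true := by decide +kernel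

theorem rows_ok_818 : rowsOK 98160 120 = true := by decide +kernel

theorem rows_ok_819 : rowsOK 98280 120 = true := by decide +kernel

theorem rows_ok_820 : rowsOK 98400 120 = true := by decide +kernel

theorem rows_ok_821 : rowsOK 98520 120 = true := by decide +kernel

theorem rows_ok_822 : rowsOK 98640 120 = true := by decide +kernel

theorem rows_ok_823 : rowsOK 98760 120 = true := by decide +kernel

theorem rows_ok_824 : rowsOK 98880 120 = true := by decide +kernel

theorem rows_ok_f74 : ∀ k, k < 11 → rowsOK (120 * (814 + k)) 120 = true
  | 0, _ => rows_ok_814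
  | 1, _ => rows_ok_815
  | 2, _ => rows_ok_816
  | 3, _ => rows_ok_817
  | 4, _ => rows_ok_818
  | 5, _ => rows_ok_819
  | 6, _ => rows_ok_820
  | 7, _ => rows_ok_821
  | 8, _ => rows_ok_822
  | 9, _ => rows_ok_823
  | 10, _ => rows_ok_824
  | k + 11, h => absurd h (by omega)

end Cfsg.Agent.Lib.Helper8.ONM
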