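import Cfsg.Agent.Lib.Helper8.ONM.C
import Cfsg.Agent.Lib.Helper8.ONM.K63

/-! # The multiplier of the O'Nan group, the table over the subgroup of index 122760: the check of the rows 99000 to 100319 of the certificate (generated) -/

set_option autoImplicit false
set_option maxRecDepth 100000

namespace Cfsg.Agent.Lib.Helper8.ONM

theorem rows_ok_825 : rowsOK 99000 120 = true := by decide +kernel

theorem rows_ok_826 : rowsOK 99120 120 = true := by decide +kernel

theorem rows_ok_827 : rowsOK 99240 120 = true := by decide +kernel

theorem rows_ok_828 : rowsOK 99360 120 = true := by decide +kernel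

theorem rows_ok_829 : rowsOK 99480 120 = true := by decide +kernel

theorem rows_ok_830 : rowsOK 99600 120 = true := by decide +kernel

theorem rows_ok_831 : rowsOK 99720 120 = true := by decide +kernel

theorem rows_ok_832 : rowsOK 99840 120 = true := by decide +kernel

theorem rows_ok_833 : rowsOK 99960 120 = true := by decide +kernel

theorem rows_ok_834 : rowsOK 100080 120 = true := by decide +kernel

theorem rows_ok_835 : rowsOK 100200 120 = true := by decide +kernel

theorem rows_ok_f75 : ∀ k, k < 11 → rowsOK (120 * (825 + k)) 120 = true
  | 0, _ => rows_ok_825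
  | 1, _ => rows_ok_826
  | 2, _ => rows_ok_827
  | 3, _ => rows_ok_828
  | 4, _ => rows_ok_829
  | 5, _ => rows_ok_830
  | 6, _ => rows_ok_831
  | 7, _ => rows_ok_832
  | 8, _ => rows_ok_833
  | 9, _ => rows_ok_834
  | 10, _ => rows_ok_835
  | k + 11, h => absurd h (by omega)

end Cfsg.Agent.Lib.Helper8.ONM
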