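import Cfsg.Agent.Lib.Helper8.ONM.C
import Cfsg.Agent.Lib.Helper8.ONM.K64

/-! # The multiplier of the O'Nan group, the table over the subgroup of index 122760: the check of the rows 100320 to 101639 of the certificate (generated) -/

set_option autoImplicit false
set_option maxRecDepth 100000

namespace Cfsg.Agent.Lib.Helper8.ONM

theorem rows_ok_836 : rowsOK 100320 120 = true := by decide +kernel

theorem rows_ok_837 : rowsOK 100440 120 = true := by decide +kernel

theorem rows_ok_838 : rowsOK 100560 120 = true := by decide +kernel

theorem rows_ok_839 : rowsOK 100680 120 = true := by decide +kernel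

theorem rows_ok_840 : rowsOK 100800 120 = true := by decide +kernel

theorem rows_ok_841 : rowsOK 100920 120 = true := by decide +kernel

theorem rows_ok_842 : rowsOK 101040 120 = true := by decide +kernel

theorem rows_ok_843 : rowsOK 101160 120 = true := by decide +kernel

theorem rows_ok_844 : rowsOK 101280 120 = true := by decide +kernel

theorem rows_ok_845 : rowsOK 101400 120 = true := by decide +kernel

theorem rows_ok_846 : rowsOK 101520 120 = true := by decide +kernel

theorem rows_ok_f76 : ∀ k, k < 11 → rowsOK (120 * (836 + k)) 120 = true
  | 0, _ => rows_ok_836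
  | 1, _ => rows_ok_837
  | 2, _ => rows_ok_838
  | 3, _ => rows_ok_839
  | 4, _ => rows_ok_840
  | 5, _ => rows_ok_841
  | 6, _ => rows_ok_842
  | 7, _ => rows_ok_843
  | 8, _ => rows_ok_844
  | 9, _ => rows_ok_845
  | 10, _ => rows_ok_846
  | k + 11, h => absurd h (by omega)

end Cfsg.Agent.Lib.Helper8.ONM
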