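import Cfsg.Agent.Lib.Helper8.ONM.C
import Cfsg.Agent.Lib.Helper8.ONM.K53

/-! # The multiplier of the O'Nan group, the table over the subgroup of index 122760: the check of the rows 85800 to 87119 of the certificate (generated) -/

set_option autoImplicit false
set_option maxRecDepth 100000

namespace Cfsg.Agent.Lib.Helper8.ONM

theorem rows_ok_715 : rowsOK 85800 120 = true := by decide +kernel

theorem rows_ok_716 : rowsOK 85920 120 = true := by decide +kernel

theorem rows_ok_717 : rowsOK 86040 120 = true := by decide +kernel

theorem rows_ok_718 : rowsOK 86160 120 = true := by decide +kernel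

theorem rows_ok_719 : rowsOK 86280 120 = true := by decide +kernel

theorem rows_ok_720 : rowsOK 86400 120 = true := by decide +kernel

theorem rows_ok_721 : rowsOK 86520 120 = true := by decide +kernel

theorem rows_ok_722 : rowsOK 86640 120 = true := by decide +kernel

theorem rows_ok_723 : rowsOK 86760 120 = true := by decide +kernel

theorem rows_ok_724 : rowsOK 86880 120 = true := by decide +kernel

theorem rows_ok_725 : rowsOK 87000 120 = true := by decide +kernel

theorem rows_ok_f65 : ∀ k, k < 11 → rowsOK (120 * (715 + k)) 120 = true
  | 0, _ => rows_ok_715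
  | 1, _ => rows_ok_716
  | 2, _ => rows_ok_717
  | 3, _ => rows_ok_718
  | 4, _ => rows_ok_719
  | 5, _ => rows_ok_720
  | 6, _ => rows_ok_721
  | 7, _ => rows_ok_722
  | 8, _ => rows_ok_723
  | 9, _ => rows_ok_724
  | 10, _ => rows_ok_725
  | k + 11, h => absurd h (by omega)

end Cfsg.Agent.Lib.Helper8.ONM
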