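import Cfsg.Agent.Lib.Helper8.ONM.C
import Cfsg.Agent.Lib.Helper8.ONM.K65

/-! # The multiplier of the O'Nan group, the table over the subgroup of index 122760: the check of the rows 101640 to 102959 of the certificate (generated) -/

set_option autoImplicit false
set_option maxRecDepth 100000

namespace Cfsg.Agent.Lib.Helper8.ONM

theorem rows_ok_847 : rowsOK 101640 120 = true := by decide +kernel

theorem rows_ok_848 : rowsOK 101760 120 = true := by decide +kernel

theorem rows_ok_849 : rowsOK 101880 120 = true := by decide +kernel

theorem rows_ok_850 : rowsOK 102000 120 = true := by decide +kernel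

theorem rows_ok_851 : rowsOK 102120 120 = true := by decide +kernel

theorem rows_ok_852 : rowsOK 102240 120 = true := by decide +kernel

theorem rows_ok_853 : rowsOK 102360 120 = true := by decide +kernel

theorem rows_ok_854 : rowsOK 102480 120 = true := by decide +kernel

theorem rows_ok_855 : rowsOK 102600 120 = true := by decide +kernel

theorem rows_ok_856 : rowsOK 102720 120 = true := by decide +kernel

theorem rows_ok_857 : rowsOK 102840 120 = true := by decide +kernel

theorem rows_ok_f77 : ∀ k, k < 11 → rowsOK (120 * (847 + k)) 120 = true
  | 0, _ => rows_ok_847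
  | 1, _ => rows_ok_848
  | 2, _ => rows_ok_849
  | 3, _ => rows_ok_850
  | 4, _ => rows_ok_851
  | 5, _ => rows_ok_852
  | 6, _ => rows_ok_853
  | 7, _ => rows_ok_854
  | 8, _ => rows_ok_855
  | 9, _ => rows_ok_856
  | 10, _ => rows_ok_857
  | k + 11, h => absurd h (by omega)

end Cfsg.Agent.Lib.Helper8.ONM
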