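import Cfsg.Agent.Lib.Helper8.ONM.C
import Cfsg.Agent.Lib.Helper8.ONM.K67

/-! # The multiplier of the O'Nan group, the table over the subgroup of index 122760: the check of the rows 104280 to 105599 of the certificate (generated) -/

set_option autoImplicit false
set_option maxRecDepth 100000

namespace Cfsg.Agent.Lib.Helper8.ONM

theorem rows_ok_869 : rowsOK 104280 120 = true := by decide +kernel

theorem rows_ok_870 : rowsOK 104400 120 = true := by decide +kernel

theorem rows_ok_871 : rowsOK 104520 120 = true := by decide +kernel

theorem rows_ok_872 : rowsOK 104640 120 = true := by decide +kernel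

theorem rows_ok_873 : rowsOK 104760 120 = true := by decide +kernel

theorem rows_ok_874 : rowsOK 104880 120 = true := by decide +kernel

theorem rows_ok_875 : rowsOK 105000 120 = true := by decide +kernel

theorem rows_ok_876 : rowsOK 105120 120 = true := by decide +kernel

theorem rows_ok_877 : rowsOK 105240 120 = true := by decide +kernel

theorem rows_ok_878 : rowsOK 105360 120 = true := by decide +kernel

theorem rows_ok_879 : rowsOK 105480 120 = true := by decide +kernel

theorem rows_ok_f79 : ∀ k, k < 11 → rowsOK (120 * (869 + k)) 120 = true
  | 0, _ => rows_ok_869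
  | 1, _ => rows_ok_870
  | 2, _ => rows_ok_871
  | 3, _ => rows_ok_872
  | 4, _ => rows_ok_873
  | 5, _ => rows_ok_874
  | 6, _ => rows_ok_875
  | 7, _ => rows_ok_876
  | 8, _ => rows_ok_877
  | 9, _ => rows_ok_878
  | 10, _ => rows_ok_879
  | k + 11, h => absurd h (by omega)

end Cfsg.Agent.Lib.Helper8.ONM
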