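import Cfsg.Agent.Lib.Helper8.ONM.C
import Cfsg.Agent.Lib.Helper8.ONM.K68

/-! # The multiplier of the O'Nan group, the table over the subgroup of index 122760: the check of the rows 105600 to 106919 of the certificate (generated) -/

set_option autoImplicit false
set_option maxRecDepth 100000

namespace Cfsg.Agent.Lib.Helper8.ONM

theorem rows_ok_880 : rowsOK 105600 120 = true := by decide +kernel

theorem rows_ok_881 : rowsOK 105720 120 = true := by decide +kernel

theorem rows_ok_882 : rowsOK 105840 120 = true := by decide +kernel

theorem rows_ok_883 : rowsOK 105960 120 = true := by decide +kernel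

theorem rows_ok_884 : rowsOK 106080 120 = true := by decide +kernel

theorem rows_ok_885 : rowsOK 106200 120 = true := by decide +kernel

theorem rows_ok_886 : rowsOK 106320 120 = true := by decide +kernel

theorem rows_ok_887 : rowsOK 106440 120 = true := by decide +kernel

theorem rows_ok_888 : rowsOK 106560 120 = true := by decide +kernel

theorem rows_ok_889 : rowsOK 106680 120 = true := by decide +kernel

theorem rows_ok_890 : rowsOK 106800 120 = true := by decide +kernel

theorem rows_ok_f80 : ∀ k, k < 11 → rowsOK (120 * (880 + k)) 120 = true
  | 0, _ => rows_ok_880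
  | 1, _ => rows_ok_881
  | 2, _ => rows_ok_882
  | 3, _ => rows_ok_883
  | 4, _ => rows_ok_884
  | 5, _ => rows_ok_885
  | 6, _ => rows_ok_886
  | 7, _ => rows_ok_887
  | 8, _ => rows_ok_888
  | 9, _ => rows_ok_889
  | 10, _ => rows_ok_890
  | k + 11, h => absurd h (by omega)

end Cfsg.Agent.Lib.Helper8.ONM
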