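import Cfsg.Agent.Lib.Helper8.ONM.C
import Cfsg.Agent.Lib.Helper8.ONM.K69

/-! # The multiplier of the O'Nan group, the table over the subgroup of index 122760: the check of the rows 106920 to 108239 of the certificate (generated) -/

set_option autoImplicit false
set_option maxRecDepth 100000

namespace Cfsg.Agent.Lib.Helper8.ONM

theorem rows_ok_891 : rowsOK 106920 120 = true := by decide +kernel

theorem rows_ok_892 : rowsOK 107040 120 = true := by decide +kernel

theorem rows_ok_893 : rowsOK 107160 120 = true := by decide +kernel

theorem rows_ok_894 : rowsOK 107280 120 = true := by decide +kernel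

theorem rows_ok_895 : rowsOK 107400 120 = true := by decide +kernel

theorem rows_ok_896 : rowsOK 107520 120 = true := by decide +kernel

theorem rows_ok_897 : rowsOK 107640 120 = true := by decide +kernel

theorem rows_ok_898 : rowsOK 107760 120 = true := by decide +kernel

theorem rows_ok_899 : rowsOK 107880 120 = true := by decide +kernel

theorem rows_ok_900 : rowsOK 108000 120 = true := by decide +kernel

theorem rows_ok_901 : rowsOK 108120 120 = true := by decide +kernel

theorem rows_ok_f81 : ∀ k, k < 11 → rowsOK (120 * (891 + k)) 120 = true
  | 0, _ => rows_ok_891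
  | 1, _ => rows_ok_892
  | 2, _ => rows_ok_893
  | 3, _ => rows_ok_894
  | 4, _ => rows_ok_895
  | 5, _ => rows_ok_896
  | 6, _ => rows_ok_897
  | 7, _ => rows_ok_898
  | 8, _ => rows_ok_899
  | 9, _ => rows_ok_900
  | 10, _ => rows_ok_901
  | k + 11, h => absurd h (by omega)

end Cfsg.Agent.Lib.Helper8.ONM
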