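import Cfsg.Agent.Lib.Helper8.ONM.C
import Cfsg.Agent.Lib.Helper8.ONM.K70

/-! # The multiplier of the O'Nan group, the table over the subgroup of index 122760: the check of the rows 108240 to 109559 of the certificate (generated) -/

set_option autoImplicit false
set_option maxRecDepth 100000

namespace Cfsg.Agent.Lib.Helper8.ONM

theorem rows_ok_902 : rowsOK 108240 120 = true := by decide +kernel

theorem rows_ok_903 : rowsOK 108360 120 = true := by decide +kernel

theorem rows_ok_904 : rowsOK 108480 120 = true := by decide +kernel

theorem rows_ok_905 : rowsOK 108600 120 = true := by decide +kernel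

theorem rows_ok_906 : rowsOK 108720 120 = true := by decide +kernel

theorem rows_ok_907 : rowsOK 108840 120 = true := by decide +kernel

theorem rows_ok_908 : rowsOK 108960 120 = true := by decide +kernel

theorem rows_ok_909 : rowsOK 109080 120 = true := by decide +kernel

theorem rows_ok_910 : rowsOK 109200 120 = true := by decide +kernel

theorem rows_ok_911 : rowsOK 109320 120 = true := by decide +kernel

theorem rows_ok_912 : rowsOK 109440 120 = true := by decide +kernel

theorem rows_ok_f82 : ∀ k, k < 11 → rowsOK (120 * (902 + k)) 120 = true
  | 0, _ => rows_ok_902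
  | 1, _ => rows_ok_903
  | 2, _ => rows_ok_904
  | 3, _ => rows_ok_905
  | 4, _ => rows_ok_906
  | 5, _ => rows_ok_907
  | 6, _ => rows_ok_908
  | 7, _ => rows_ok_909
  | 8, _ => rows_ok_910
  | 9, _ => rows_ok_911
  | 10, _ => rows_ok_912
  | k + 11, h => absurd h (by omega)

end Cfsg.Agent.Lib.Helper8.ONM
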