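import Cfsg.Agent.Lib.Helper8.ONM.C
import Cfsg.Agent.Lib.Helper8.ONM.K71

/-! # The multiplier of the O'Nan group, the table over the subgroup of index 122760: the check of the rows 109560 to 110879 of the certificate (generated) -/

set_option autoImplicit false
set_option maxRecDepth 100000

namespace Cfsg.Agent.Lib.Helper8.ONM

theorem rows_ok_913 : rowsOK 109560 120 = true := by decide +kernel

theorem rows_ok_914 : rowsOK 109680 120 = true := by decide +kernel

theorem rows_ok_915 : rowsOK 109800 120 = true := by decide +kernel

theorem rows_ok_916 : rowsOK 109920 120 = true := by decide +kernel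

theorem rows_ok_917 : rowsOK 110040 120 = true := by decide +kernel

theorem rows_ok_918 : rowsOK 110160 120 = true := by decide +kernel

theorem rows_ok_919 : rowsOK 110280 120 = true := by decide +kernel

theorem rows_ok_920 : rowsOK 110400 120 = true := by decide +kernel

theorem rows_ok_921 : rowsOK 110520 120 = true := by decide +kernel

theorem rows_ok_922 : rowsOK 110640 120 = true := by decide +kernel

theorem rows_ok_923 : rowsOK 110760 120 = true := by decide +kernel

theorem rows_ok_f83 : ∀ k, k < 11 → rowsOK (120 * (913 + k)) 120 = true
  | 0, _ => rows_ok_913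
  | 1, _ => rows_ok_914
  | 2, _ => rows_ok_915
  | 3, _ => rows_ok_916
  | 4, _ => rows_ok_917
  | 5, _ => rows_ok_918
  | 6, _ => rows_ok_919
  | 7, _ => rows_ok_920
  | 8, _ => rows_ok_921
  | 9, _ => rows_ok_922
  | 10, _ => rows_ok_923
  | k + 11, h => absurd h (by omega)

end Cfsg.Agent.Lib.Helper8.ONM
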