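import Cfsg.Agent.Lib.Helper8.ONM.C
import Cfsg.Agent.Lib.Helper8.ONM.K72

/-! # The multiplier of the O'Nan group, the table over the subgroup of index 122760: the check of the rows 110880 to 112199 of the certificate (generated) -/

set_option autoImplicit false
set_option maxRecDepth 100000

namespace Cfsg.Agent.Lib.Helper8.ONM

theorem rows_ok_924 : rowsOK 110880 120 = true := by decide +kernel

theorem rows_ok_925 : rowsOK 111000 120 = true := by decide +kernel

theorem rows_ok_926 : rowsOK 111120 120 = true := by decide +kernel

theorem rows_ok_927 : rowsOK 111240 120 = true := by decide +kernel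

theorem rows_ok_928 : rowsOK 111360 120 = true := by decide +kernel

theorem rows_ok_929 : rowsOK 111480 120 = true := by decide +kernel

theorem rows_ok_930 : rowsOK 111600 120 = true := by decide +kernel

theorem rows_ok_931 : rowsOK 111720 120 = true := by decide +kernel

theorem rows_ok_932 : rowsOK 111840 120 = true := by decide +kernel

theorem rows_ok_933 : rowsOK 111960 120 = true := by decide +kernel

theorem rows_ok_934 : rowsOK 112080 120 = true := by decide +kernel

theorem rows_ok_f84 : ∀ k, k < 11 → rowsOK (120 * (924 + k)) 120 = true
  | 0, _ => rows_ok_924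
  | 1, _ => rows_ok_925
  | 2, _ => rows_ok_926
  | 3, _ => rows_ok_927
  | 4, _ => rows_ok_928
  | 5, _ => rows_ok_929
  | 6, _ => rows_ok_930
  | 7, _ => rows_ok_931
  | 8, _ => rows_ok_932
  | 9, _ => rows_ok_933
  | 10, _ => rows_ok_934
  | k + 11, h => absurd h (by omega)

end Cfsg.Agent.Lib.Helper8.ONM
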