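import Cfsg.Agent.Lib.Helper8.ONM.C
import Cfsg.Agent.Lib.Helper8.ONM.K73

/-! # The multiplier of the O'Nan group, the table over the subgroup of index 122760: the check of the rows 112200 to 113519 of the certificate (generated) -/

set_option autoImplicit false
set_option maxRecDepth 100000

namespace Cfsg.Agent.Lib.Helper8.ONM

theorem rows_ok_935 : rowsOK 112200 120 = true := by decide +kernel

theorem rows_ok_936 : rowsOK 112320 120 = true := by decide +kernel

theorem rows_ok_937 : rowsOK 112440 120 = true := by decide +kernel

theorem rows_ok_938 : rowsOK 112560 120 = true := by decide +kernel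

theorem rows_ok_939 : rowsOK 112680 120 = true := by decide +kernel

theorem rows_ok_940 : rowsOK 112800 120 = true := by decide +kernel

theorem rows_ok_941 : rowsOK 112920 120 = true := by decide +kernel

theorem rows_ok_942 : rowsOK 113040 120 = true := by decide +kernel

theorem rows_ok_943 : rowsOK 113160 120 = true := by decide +kernel

theorem rows_ok_944 : rowsOK 113280 120 = true := by decide +kernel

theorem rows_ok_945 : rowsOK 113400 120 = true := by decide +kernel

theorem rows_ok_f85 : ∀ k, k < 11 → rowsOK (120 * (935 + k)) 120 = true
  | 0, _ => rows_ok_935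
  | 1, _ => rows_ok_936
  | 2, _ => rows_ok_937
  | 3, _ => rows_ok_938
  | 4, _ => rows_ok_939
  | 5, _ => rows_ok_940
  | 6, _ => rows_ok_941
  | 7, _ => rows_ok_942
  | 8, _ => rows_ok_943
  | 9, _ => rows_ok_944
  | 10, _ => rows_ok_945
  | k + 11, h => absurd h (by omega)

end Cfsg.Agent.Lib.Helper8.ONM
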