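import Cfsg.Agent.Lib.Helper8.ONM.C
import Cfsg.Agent.Lib.Helper8.ONM.K74

/-! # The multiplier of the O'Nan group, the table over the subgroup of index 122760: the check of the rows 113520 to 114839 of the certificate (generated) -/

set_option autoImplicit false
set_option maxRecDepth 100000

namespace Cfsg.Agent.Lib.Helper8.ONM

theorem rows_ok_946 : rowsOK 113520 120 = true := by decide +kernel

theorem rows_ok_947 : rowsOK 113640 120 = true := by decide +kernel

theorem rows_ok_948 : rowsOK 113760 120 = true := by decide +kernel

theorem rows_ok_949 : rowsOK 113880 120 = true := by decide +kernel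

theorem rows_ok_950 : rowsOK 114000 120 = true := by decide +kernel

theorem rows_ok_951 : rowsOK 114120 120 = true := by decide +kernel

theorem rows_ok_952 : rowsOK 114240 120 = true := by decide +kernel

theorem rows_ok_953 : rowsOK 114360 120 = true := by decide +kernel

theorem rows_ok_954 : rowsOK 114480 120 = true := by decide +kernel

theorem rows_ok_955 : rowsOK 114600 120 = true := by decide +kernel

theorem rows_ok_956 : rowsOK 114720 120 = true := by decide +kernel

theorem rows_ok_f86 : ∀ k, k < 11 → rowsOK (120 * (946 + k)) 120 = true
  | 0, _ => rows_ok_946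
  | 1, _ => rows_ok_947
  | 2, _ => rows_ok_948
  | 3, _ => rows_ok_949
  | 4, _ => rows_ok_950
  | 5, _ => rows_ok_951
  | 6, _ => rows_ok_952
  | 7, _ => rows_ok_953
  | 8, _ => rows_ok_954
  | 9, _ => rows_ok_955
  | 10, _ => rows_ok_956
  | k + 11, h => absurd h (by omega)

end Cfsg.Agent.Lib.Helper8.ONM
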