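import Cfsg.Agent.Lib.Helper8.ONM.C
import Cfsg.Agent.Lib.Helper8.ONM.K75

/-! # The multiplier of the O'Nan group, the table over the subgroup of index 122760: the check of the rows 114840 to 116159 of the certificate (generated) -/

set_option autoImplicit false
set_option maxRecDepth 100000

namespace Cfsg.Agent.Lib.Helper8.ONM

theorem rows_ok_957 : rowsOK 114840 120 = true := by decide +kernel

theorem rows_ok_958 : rowsOK 114960 120 = true := by decide +kernel

theorem rows_ok_959 : rowsOK 115080 120 = true := by decide +kernel

theorem rows_ok_960 : rowsOK 115200 120 = true := by decide +kernel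

theorem rows_ok_961 : rowsOK 115320 120 = true := by decide +kernel

theorem rows_ok_962 : rowsOK 115440 120 = true := by decide +kernel

theorem rows_ok_963 : rowsOK 115560 120 = true := by decide +kernel

theorem rows_ok_964 : rowsOK 115680 120 = true := by decide +kernel

theorem rows_ok_965 : rowsOK 115800 120 = true := by decide +kernel

theorem rows_ok_966 : rowsOK 115920 120 = true := by decide +kernel

theorem rows_ok_967 : rowsOK 116040 120 = true := by decide +kernel

theorem rows_ok_f87 : ∀ k, k < 11 → rowsOK (120 * (957 + k)) 120 = true
  | 0, _ => rows_ok_957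
  | 1, _ => rows_ok_958
  | 2, _ => rows_ok_959
  | 3, _ => rows_ok_960
  | 4, _ => rows_ok_961
  | 5, _ => rows_ok_962
  | 6, _ => rows_ok_963
  | 7, _ => rows_ok_964
  | 8, _ => rows_ok_965
  | 9, _ => rows_ok_966
  | 10, _ => rows_ok_967
  | k + 11, h => absurd h (by omega)

end Cfsg.Agent.Lib.Helper8.ONM
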