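import Cfsg.Agent.Lib.Helper8.ONM.C
import Cfsg.Agent.Lib.Helper8.ONM.K76

/-! # The multiplier of the O'Nan group, the table over the subgroup of index 122760: the check of the rows 116160 to 117479 of the certificate (generated) -/

set_option autoImplicit false
set_option maxRecDepth 100000

namespace Cfsg.Agent.Lib.Helper8.ONM

theorem rows_ok_968 : rowsOK 116160 120 = true := by decide +kernel

theorem rows_ok_969 : rowsOK 116280 120 = true := by decide +kernel

theorem rows_ok_970 : rowsOK 116400 120 = true := by decide +kernel

theorem rows_ok_971 : rowsOK 116520 120 = true := by decide +kernel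

theorem rows_ok_972 : rowsOK 116640 120 = true := by decide +kernel

theorem rows_ok_973 : rowsOK 116760 120 = true := by decide +kernel

theorem rows_ok_974 : rowsOK 116880 120 = true := by decide +kernel

theorem rows_ok_975 : rowsOK 117000 120 = true := by decide +kernel

theorem rows_ok_976 : rowsOK 117120 120 = true := by decide +kernel

theorem rows_ok_977 : rowsOK 117240 120 = true := by decide +kernel

theorem rows_ok_978 : rowsOK 117360 120 = true := by decide +kernel

theorem rows_ok_f88 : ∀ k, k < 11 → rowsOK (120 * (968 + k)) 120 = true
  | 0, _ => rows_ok_968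
  | 1, _ => rows_ok_969
  | 2, _ => rows_ok_970
  | 3, _ => rows_ok_971
  | 4, _ => rows_ok_972
  | 5, _ => rows_ok_973
  | 6, _ => rows_ok_974
  | 7, _ => rows_ok_975
  | 8, _ => rows_ok_976
  | 9, _ => rows_ok_977
  | 10, _ => rows_ok_978
  | k + 11, h => absurd h (by omega)

end Cfsg.Agent.Lib.Helper8.ONM
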