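import Cfsg.Agent.Lib.Helper8.ONM.C
import Cfsg.Agent.Lib.Helper8.ONM.K77

/-! # The multiplier of the O'Nan group, the table over the subgroup of index 122760: the check of the rows 117480 to 118799 of the certificate (generated) -/

set_option autoImplicit false
set_option maxRecDepth 100000

namespace Cfsg.Agent.Lib.Helper8.ONM

theorem rows_ok_979 : rowsOK 117480 120 = true := by decide +kernel

theorem rows_ok_980 : rowsOK 117600 120 = true := by decide +kernel

theorem rows_ok_981 : rowsOK 117720 120 = true := by decide +kernel

theorem rows_ok_982 : rowsOK 117840 120 = true := by decide +kernel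

theorem rows_ok_983 : rowsOK 117960 120 = true := by decide +kernel

theorem rows_ok_984 : rowsOK 118080 120 = true := by decide +kernel

theorem rows_ok_985 : rowsOK 118200 120 = true := by decide +kernel

theorem rows_ok_986 : rowsOK 118320 120 = true := by decide +kernel

theorem rows_ok_987 : rowsOK 118440 120 = true := by decide +kernel

theorem rows_ok_988 : rowsOK 118560 120 = true := by decide +kernel

theorem rows_ok_989 : rowsOK 118680 120 = true := by decide +kernel

theorem rows_ok_f89 : ∀ k, k < 11 → rowsOK (120 * (979 + k)) 120 = true
  | 0, _ => rows_ok_979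
  | 1, _ => rows_ok_980
  | 2, _ => rows_ok_981
  | 3, _ => rows_ok_982
  | 4, _ => rows_ok_983
  | 5, _ => rows_ok_984
  | 6, _ => rows_ok_985
  | 7, _ => rows_ok_986
  | 8, _ => rows_ok_987
  | 9, _ => rows_ok_988
  | 10, _ => rows_ok_989
  | k + 11, h => absurd h (by omega)

end Cfsg.Agent.Lib.Helper8.ONM
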