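import Cfsg.Agent.Lib.Helper8.ONM.C
import Cfsg.Agent.Lib.Helper8.ONM.K66

/-! # The multiplier of the O'Nan group, the table over the subgroup of index 122760: the check of the rows 102960 to 104279 of the certificate (generated) -/

set_option autoImplicit false
set_option maxRecDepth 100000

namespace Cfsg.Agent.Lib.Helper8.ONM

theorem rows_ok_858 : rowsOK 102960 120 = true := by decide +kernel

theorem rows_ok_859 : rowsOK 103080 120 = true := by decide +kernel

theorem rows_ok_860 : rowsOK 103200 120 = true := by decide +kernel

theorem rows_ok_861 : rowsOK 103320 120 = true := by decide +kernel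

theorem rows_ok_862 : rowsOK 103440 120 = true := by decide +kernel

theorem rows_ok_863 : rowsOK 103560 120 = true := by decide +kernel

theorem rows_ok_864 : rowsOK 103680 120 = true := by decide +kernel

theorem rows_ok_865 : rowsOK 103800 120 = true := by decide +kernel

theorem rows_ok_866 : rowsOK 103920 120 = true := by decide +kernel

theorem rows_ok_867 : rowsOK 104040 120 = true := by decide +kernel

theorem rows_ok_868 : rowsOK 104160 120 = true := by decide +kernel

theorem rows_ok_f78 : ∀ k, k < 11 → rowsOK (120 * (858 + k)) 120 = true
  | 0, _ => rows_ok_858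
  | 1, _ => rows_ok_859
  | 2, _ => rows_ok_860
  | 3, _ => rows_ok_861
  | 4, _ => rows_ok_862
  | 5, _ => rows_ok_863
  | 6, _ => rows_ok_864
  | 7, _ => rows_ok_865
  | 8, _ => rows_ok_866
  | 9, _ => rows_ok_867
  | 10, _ => rows_ok_868
  | k + 11, h => absurd h (by omega)

end Cfsg.Agent.Lib.Helper8.ONM
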