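import Cfsg.Agent.Lib.Helper8.ONM.C
import Cfsg.Agent.Lib.Helper8.ONM.K78

/-! # The multiplier of the O'Nan group, the table over the subgroup of index 122760: the check of the rows 118800 to 120119 of the certificate (generated) -/

set_option autoImplicit false
set_option maxRecDepth 100000

namespace Cfsg.Agent.Lib.Helper8.ONM

theorem rows_ok_990 : rowsOK 118800 120 = true := by decide +kernel

theorem rows_ok_991 : rowsOK 118920 120 = true := by decide +kernel

theorem rows_ok_992 : rowsOK 119040 120 = true := by decide +kernel

theorem rows_ok_993 : rowsOK 119160 120 = true := by decide +kernel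

theorem rows_ok_994 : rowsOK 119280 120 = true := by decide +kernel

theorem rows_ok_995 : rowsOK 119400 120 = true := by decide +kernel

theorem rows_ok_996 : rowsOK 119520 120 = true := by decide +kernel

theorem rows_ok_997 : rowsOK 119640 120 = true := by decide +kernel

theorem rows_ok_998 : rowsOK 119760 120 = true := by decide +kernel

theorem rows_ok_999 : rowsOK 119880 120 = true := by decide +kernel

theorem rows_ok_1000 : rowsOK 120000 120 = true := by decide +kernel

theorem rows_ok_f90 : ∀ k, k < 11 → rowsOK (120 * (990 + k)) 120 = true
  | 0, _ => rows_ok_990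
  | 1, _ => rows_ok_991
  | 2, _ => rows_ok_992
  | 3, _ => rows_ok_993
  | 4, _ => rows_ok_994
  | 5, _ => rows_ok_995
  | 6, _ => rows_ok_996
  | 7, _ => rows_ok_997
  | 8, _ => rows_ok_998
  | 9, _ => rows_ok_999
  | 10, _ => rows_ok_1000
  | k + 11, h => absurd h (by omega)

end Cfsg.Agent.Lib.Helper8.ONM
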