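import Cfsg.Agent.Lib.Helper8.ONM.C
import Cfsg.Agent.Lib.Helper8.ONM.K80

/-! # The multiplier of the O'Nan group, the table over the subgroup of index 122760: the check of the rows 121440 to 122759 of the certificate (generated) -/

set_option autoImplicit false
set_option maxRecDepth 100000

namespace Cfsg.Agent.Lib.Helper8.ONM

theorem rows_ok_1012 : rowsOK 121440 120 = true := by decide +kernel

theorem rows_ok_1013 : rowsOK 121560 120 = true := by decide +kernel

theorem rows_ok_1014 : rowsOK 121680 120 = true := by decide +kernel

theorem rows_ok_1015 : rowsOK 121800 120 = true := by decide +kernel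

theorem rows_ok_1016 : rowsOK 121920 120 = true := by decide +kernel

theorem rows_ok_1017 : rowsOK 122040 120 = true := by decide +kernel

theorem rows_ok_1018 : rowsOK 122160 120 = true := by decide +kernel

theorem rows_ok_1019 : rowsOK 122280 120 = true := by decide +kernel

theorem rows_ok_1020 : rowsOK 122400 120 = true := by decide +kernel

theorem rows_ok_1021 : rowsOK 122520 120 = true := by decide +kernel

theorem rows_ok_1022 : rowsOK 122640 120 = true := by decide +kernel

theorem rows_ok_f92 : ∀ k, k < 11 → rowsOK (120 * (1012 + k)) 120 = true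
  | 0, _ => rows_ok_1012
  | 1, _ => rows_ok_1013
  | 2, _ => rows_ok_1014
  | 3, _ => rows_ok_1015
  | 4, _ => rows_ok_1016
  | 5, _ => rows_ok_1017
  | 6, _ => rows_ok_1018
  | 7, _ => rows_ok_1019
  | 8, _ => rows_ok_1020
  | 9, _ => rows_ok_1021
  | 10, _ => rows_ok_1022
  | k + 11, h => absurd h (by omega)

end Cfsg.Agent.Lib.Helper8.ONM
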