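import Cfsg.Agent.Lib.Helper8.ONM.K0
import Cfsg.Agent.Lib.Helper8.ONM.K1
import Cfsg.Agent.Lib.Helper8.ONM.K2
import Cfsg.Agent.Lib.Helper8.ONM.K3
import Cfsg.Agent.Lib.Helper8.ONM.K4
import Cfsg.Agent.Lib.Helper8.ONM.K5
import Cfsg.Agent.Lib.Helper8.ONM.K6
import Cfsg.Agent.Lib.Helper8.ONM.K7
import Cfsg.Agent.Lib.Helper8.ONM.K8
import Cfsg.Agent.Lib.Helper8.ONM.K9
import Cfsg.Agent.Lib.Helper8.ONM.K10
import Cfsg.Agent.Lib.Helper8.ONM.K11
import Cfsg.Agent.Lib.Helper8.ONM.K12
import Cfsg.Agent.Lib.Helper8.ONM.K13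
import Cfsg.Agent.Lib.Helper8.ONM.K14
import Cfsg.Agent.Lib.Helper8.ONM.K15
import Cfsg.Agent.Lib.Helper8.ONM.K16
import Cfsg.Agent.Lib.Helper8.ONM.K17
import Cfsg.Agent.Lib.Helper8.ONM.K18
import Cfsg.Agent.Lib.Helper8.ONM.K19
import Cfsg.Agent.Lib.Helper8.ONM.K20
import Cfsg.Agent.Lib.Helper8.ONM.K21
import Cfsg.Agent.Lib.Helper8.ONM.K22
import Cfsg.Agent.Lib.Helper8.ONM.K23
import Cfsg.Agent.Lib.Helper8.ONM.K24
import Cfsg.Agent.Lib.Helper8.ONM.K25
import Cfsg.Agent.Lib.Helper8.ONM.K26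
import Cfsg.Agent.Lib.Helper8.ONM.K27
import Cfsg.Agent.Lib.Helper8.ONM.K28
import Cfsg.Agent.Lib.Helper8.ONM.K29
import Cfsg.Agent.Lib.Helper8.ONM.K30
import Cfsg.Agent.Lib.Helper8.ONM.K31
import Cfsg.Agent.Lib.Helper8.ONM.K32
import Cfsg.Agent.Lib.Helper8.ONM.K33
import Cfsg.Agent.Lib.Helper8.ONM.K34
import Cfsg.Agent.Lib.Helper8.ONM.K35
import Cfsg.Agent.Lib.Helper8.ONM.K36
import Cfsg.Agent.Lib.Helper8.ONM.K37
import Cfsg.Agent.Lib.Helper8.ONM.K38
import Cfsg.Agent.Lib.Helper8.ONM.K39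
import Cfsg.Agent.Lib.Helper8.ONM.K40
import Cfsg.Agent.Lib.Helper8.ONM.K41
import Cfsg.Agent.Lib.Helper8.ONM.K42
import Cfsg.Agent.Lib.Helper8.ONM.K43
import Cfsg.Agent.Lib.Helper8.ONM.K44
import Cfsg.Agent.Lib.Helper8.ONM.K45
import Cfsg.Agent.Lib.Helper8.ONM.K46
import Cfsg.Agent.Lib.Helper8.ONM.K47
import Cfsg.Agent.Lib.Helper8.ONM.K48
import Cfsg.Agent.Lib.Helper8.ONM.K49
import Cfsg.Agent.Lib.Helper8.ONM.K50
import Cfsg.Agent.Lib.Helper8.ONM.K51
import Cfsg.Agent.Lib.Helper8.ONM.K52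
import Cfsg.Agent.Lib.Helper8.ONM.K53
import Cfsg.Agent.Lib.Helper8.ONM.K54
import Cfsg.Agent.Lib.Helper8.ONM.K55
import Cfsg.Agent.Lib.Helper8.ONM.K56
import Cfsg.Agent.Lib.Helper8.ONM.K57
import Cfsg.Agent.Lib.Helper8.ONM.K58
import Cfsg.Agent.Lib.Helper8.ONM.K59
import Cfsg.Agent.Lib.Helper8.ONM.K60
import Cfsg.Agent.Lib.Helper8.ONM.K61
import Cfsg.Agent.Lib.Helper8.ONM.K62
import Cfsg.Agent.Lib.Helper8.ONM.K63
import Cfsg.Agent.Lib.Helper8.ONM.K64
import Cfsg.Agent.Lib.Helper8.ONM.K65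
import Cfsg.Agent.Lib.Helper8.ONM.K66
import Cfsg.Agent.Lib.Helper8.ONM.K67
import Cfsg.Agent.Lib.Helper8.ONM.K68
import Cfsg.Agent.Lib.Helper8.ONM.K69
import Cfsg.Agent.Lib.Helper8.ONM.K70
import Cfsg.Agent.Lib.Helper8.ONM.K71
import Cfsg.Agent.Lib.Helper8.ONM.K72
import Cfsg.Agent.Lib.Helper8.ONM.K73
import Cfsg.Agent.Lib.Helper8.ONM.K74
import Cfsg.Agent.Lib.Helper8.ONM.K75
import Cfsg.Agent.Lib.Helper8.ONM.K76
import Cfsg.Agent.Lib.Helper8.ONM.K77
import Cfsg.Agent.Lib.Helper8.ONM.K78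
import Cfsg.Agent.Lib.Helper8.ONM.K79
import Cfsg.Agent.Lib.Helper8.ONM.K80
import Cfsg.Agent.Lib.Helper8.ONM.K81
import Cfsg.Agent.Lib.Helper8.ONM.K82
import Cfsg.Agent.Lib.Helper8.ONM.K83
import Cfsg.Agent.Lib.Helper8.ONM.K84
import Cfsg.Agent.Lib.Helper8.ONM.K85
import Cfsg.Agent.Lib.Helper8.ONM.K86
import Cfsg.Agent.Lib.Helper8.ONM.K87
import Cfsg.Agent.Lib.Helper8.ONM.K88
import Cfsg.Agent.Lib.Helper8.ONM.K89
import Cfsg.Agent.Lib.Helper8.ONM.K90
import Cfsg.Agent.Lib.Helper8.ONM.K91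
import Cfsg.Agent.Lib.Helper8.ONM.K92
import Cfsg.Agent.Lib.Helper7.MGenH

/-! # The multiplier of the O'Nan group, the table over the subgroup of index 122760: all the rows and words of the certificate are checked, the words that give the relations between the classes are traced, and the relations make the kernel cyclic of order at most six (generated) -/

set_option autoImplicit false
set_option maxRecDepth 100000

namespace Cfsg.Agent.Lib.Helper8.ONM

open Cfsg.Agent.Lib.Helper7.MG Cfsg.Agent.Lib.Helper7.HSMult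

theorem rows_ok_all : ∀ k, k < 1023 → rowsOK (120 * k) 120 = true := by
  intro k hk
  have e : 11 * (k / 11) + k % 11 = k := Nat.div_add_mod k 11
  have hr : k % 11 < 11 := Nat.mod_lt _ (by norm_num)
  have hq : k / 11 < 93 := by omega
  rw [← e]
  generalize k / 11 = q at hq
  generalize k % 11 = r at hr
  match q, hq with
  | 0, _ => exact rows_ok_f0 r hr
  | 1, _ => exact rows_ok_f1 r hr
  | 2, _ => exact rows_ok_f2 r hr
  | 3, _ => exact rows_ok_f3 r hr
  | 4, _ => exact rows_ok_f4 r hr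
  | 5, _ => exact rows_ok_f5 r hr
  | 6, _ => exact rows_ok_f6 r hr
  | 7, _ => exact rows_ok_f7 r hr
  | 8, _ => exact rows_ok_f8 r hr
  | 9, _ => exact rows_ok_f9 r hr
  | 10, _ => exact rows_ok_f10 r hr
  | 11, _ => exact rows_ok_f11 r hr
  | 12, _ => exact rows_ok_f12 r hr
  | 13, _ => exact rows_ok_f13 r hr
  | 14, _ => exact rows_ok_f14 r hr
  | 15, _ => exact rows_ok_f15 r hr
  | 16, _ => exact rows_ok_f16 r hr
  | 17, _ => exact rows_ok_f17 r hr
  | 18, _ => exact rows_ok_f18 r hr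
  | 19, _ => exact rows_ok_f19 r hr
  | 20, _ => exact rows_ok_f20 r hr
  | 21, _ => exact rows_ok_f21 r hr
  | 22, _ => exact rows_ok_f22 r hr
  | 23, _ => exact rows_ok_f23 r hr
  | 24, _ => exact rows_ok_f24 r hr
  | 25, _ => exact rows_ok_f25 r hr
  | 26, _ => exact rows_ok_f26 r hr
  | 27, _ => exact rows_ok_f27 r hr
  | 28, _ => exact rows_ok_f28 r hr
  | 29, _ => exact rows_ok_f29 r hr
  | 30, _ => exact rows_ok_f30 r hr
  | 31, _ => exact rows_ok_f31 r hr
  | 32, _ => exact rows_ok_f32 r hr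
  | 33, _ => exact rows_ok_f33 r hr
  | 34, _ => exact rows_ok_f34 r hr
  | 35, _ => exact rows_ok_f35 r hr
  | 36, _ => exact rows_ok_f36 r hr
  | 37, _ => exact rows_ok_f37 r hr
  | 38, _ => exact rows_ok_f38 r hr
  | 39, _ => exact rows_ok_f39 r hr
  | 40, _ => exact rows_ok_f40 r hr
  | 41, _ => exact rows_ok_f41 r hr
  | 42, _ => exact rows_ok_f42 r hr
  | 43, _ => exact rows_ok_f43 r hr
  | 44, _ => exact rows_ok_f44 r hr
  | 45, _ => exact rows_ok_f45 r hr
  | 46, _ => exact rows_ok_f46 r hr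
  | 47, _ => exact rows_ok_f47 r hr
  | 48, _ => exact rows_ok_f48 r hr
  | 49, _ => exact rows_ok_f49 r hr
  | 50, _ => exact rows_ok_f50 r hr
  | 51, _ => exact rows_ok_f51 r hr
  | 52, _ => exact rows_ok_f52 r hr
  | 53, _ => exact rows_ok_f53 r hr
  | 54, _ => exact rows_ok_f54 r hr
  | 55, _ => exact rows_ok_f55 r hr
  | 56, _ => exact rows_ok_f56 r hr
  | 57, _ => exact rows_ok_f57 r hr
  | 58, _ => exact rows_ok_f58 r hr
  | 59, _ => exact rows_ok_f59 r hr
  | 60, _ => exact rows_ok_f60 r hr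
  | 61, _ => exact rows_ok_f61 r hr
  | 62, _ => exact rows_ok_f62 r hr
  | 63, _ => exact rows_ok_f63 r hr
  | 64, _ => exact rows_ok_f64 r hr
  | 65, _ => exact rows_ok_f65 r hr
  | 66, _ => exact rows_ok_f66 r hr
  | 67, _ => exact rows_ok_f67 r hr
  | 68, _ => exact rows_ok_f68 r hr
  | 69, _ => exact rows_ok_f69 r hr
  | 70, _ => exact rows_ok_f70 r hr
  | 71, _ => exact rows_ok_f71 r hr
  | 72, _ => exact rows_ok_f72 r hr
  | 73, _ => exact rows_ok_f73 r hr
  | 74, _ => exact rows_ok_f74 r hr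
  | 75, _ => exact rows_ok_f75 r hr
  | 76, _ => exact rows_ok_f76 r hr
  | 77, _ => exact rows_ok_f77 r hr
  | 78, _ => exact rows_ok_f78 r hr
  | 79, _ => exact rows_ok_f79 r hr
  | 80, _ => exact rows_ok_f80 r hr
  | 81, _ => exact rows_ok_f81 r hr
  | 82, _ => exact rows_ok_f82 r hr
  | 83, _ => exact rows_ok_f83 r hr
  | 84, _ => exact rows_ok_f84 r hr
  | 85, _ => exact rows_ok_f85 r hr
  | 86, _ => exact rows_ok_f86 r hr
  | 87, _ => exact rows_ok_f87 r hr
  | 88, _ => exact rows_ok_f88 r hr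
  | 89, _ => exact rows_ok_f89 r hr
  | 90, _ => exact rows_ok_f90 r hr
  | 91, _ => exact rows_ok_f91 r hr
  | 92, _ => exact rows_ok_f92 r hr
  | q + 93, h => exact absurd h (by omega)

/-- **every entry of the table is justified** -/
theorem cert_all : ∀ a, a < cert.n → ∀ x, x < cert.g → cert.slotOK a x = true := by
  intro a ha x hx
  have ha' : a < 122760 := ha
  have hx' : x < 8 := hx
  have h1 := rows_ok_all (a / 120) (by omega)
  rw [rowsOK, allN_iff] at h1
  have h2 := h1 (a % 120) (Nat.mod_lt _ (by norm_num))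
  rw [allN_iff] at h2
  have h3 := h2 x hx'
  have e : Nat.add (120 * (a / 120)) (a % 120) = a := Nat.div_add_mod a 120
  rw [e] at h3
  exact h3

theorem words_ok : wordsOK = true := by decide +kernel

/-- **every word of the certificate is justified** -/
theorem cert_wall : ∀ i, i < cert.nW → cert.wordOK i = true := by
  intro i hi
  have h := words_ok
  rw [wordsOK, allN_iff] at h
  exact h i hi

theorem close_0 : cert.scan 4095 (cert.W 6) 925 0 = some (925, 16333569189110477145363404270933352919040) := by decide +kernel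

theorem close_1 : cert.scan 4095 (cert.W 6) 2121 0 = some (2121, 16333569189110477145363404272032865595392) := by decide +kernel

theorem close_2 : cert.scan 4095 (cert.W 6) 2643 0 = some (2643, 16330910733118907313617596656812795375616) := by decide +kernel

theorem close_3 : cert.scan 4095 (cert.W 6) 4472 0 = some (4472, 16333569189110474727512917965378633609215) := by decide +kernel

theorem close_4 : cert.scan 4095 (cert.W 6) 3424 0 = some (3424, 16330910733118907313616443736407700156414) := by decide +kernel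

theorem close_5 : cert.scan 4095 (cert.W 6) 1781 0 = some (1781, 16333569192913427737119967016685567750143) := by decide +kernel

theorem close_6 : cert.scan 4095 (cert.W 6) 16986 0 = some (16986, 16332239957311740428808118100193149202430) := by decide +kernel

theorem close_7 : cert.scan 4095 (cert.W 6) 23892 0 = some (23892, 16340215334159995663162409452826557165566) := by decide +kernel

/-- the words that define the central elements -/
def axI : ℕ → ℕ
  | 0 => 21
  | 1 => 23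
  | 2 => 24
  | 3 => 25
  | 4 => 26
  | 5 => 27
  | 6 => 80
  | _ => 0

theorem axI_lt : ∀ j, axI j < 82
  | 0 => by decide
  | 1 => by decide
  | 2 => by decide
  | 3 => by decide
  | 4 => by decide
  | 5 => by decide
  | 6 => by decide
  | _ + 7 => by
    show (0 : ℕ) < 82
    decide

/-- the word that is trivial by the choice of the lift of the seventh generator -/
def nW : List ℕ := [1, 2, 3, 6, 1, 2, 3, 6, 1, 2, 3, 6, 1, 2, 3, 6, 1, 2, 3, 6, 0, 5, 7, 7, 0, 5, 7, 7]

theorem chk_wT : ∀ i, i < 82 → cert.wT i = 0 →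
    (((cert.W i).all fun x => Nat.blt x 6) = true ∧
      ∀ l, l < 7 → ((fld (cert.rhs i) l : ℤ) - ((cert.W i).length : ℤ) * (cert.B : ℤ)) = 0) ∨
    i = 81 ∨ ∃ j, j < 7 ∧ i = axI j := by decide +kernel

theorem chk_WN : cert.W 81 = nW := by decide +kernel

theorem chk_nW : expsumL 6 7 nW = 1 := by decide

theorem chk_len : ∀ i, i < 82 → (cert.W i).length ≤ 255 := by decide +kernel

theorem chk_ax : ∀ j, j < 7 → ∀ l, l < 7 →
    ((fld (cert.rhs (axI j)) l : ℤ) - ((cert.W (axI j)).length : ℤ) * (cert.B : ℤ)) = if l = j then 1 else 0 := by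
  decide +kernel

theorem chk_ex : ∀ l, l < 7 →
    ((fld (cert.rhs 81) l : ℤ) - ((cert.W 81).length : ℤ) * (cert.B : ℤ)) = 0 := by
  decide +kernel

/-- the relations between the central elements that the traced words give -/
def relL : List (List ℤ) := [[0, 1, 0, 0, 0, 0, 0],
    [0, 0, (-1), 0, 0, 0, 0],
    [0, (-2), 0, 0, 0, 0, 2],
    [1, 1, (-2), (-1), 2, 0, 0],
    [2, (-2), (-1), 1, 0, 0, 2],
    [1, (-4), 1, 2, 1, (-3), 0],
    [2, 5, 2, (-2), 0, 3, 1],
    [2, 2, 0, (-2), 7, (-4), (-5)]]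

/-- the generator of the kernel, as a product of powers of the central elements -/
def cL : List ℤ := [0, 0, 0, 1, 0, 0, 1]

/-- the exponents of the generator that give the central elements -/
def mL : List ℤ := [4, 0, 0, 4, 3, 3, 3]

/-- the combinations of the relations that give the central elements as powers of the generator -/
def lamL : List (List ℤ) := [[(-13), 31, 2, (-3), (-7), 6, 6, 0],
    [1, 0, 0, 0, 0, 0, 0, 0],
    [18, (-19), 6, (-21), 21, (-21), (-9), 9],
    [2, 9, 5, (-16), 9, (-10), (-2), 6],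
    [4, 3, 5, (-15), 10, (-11), (-3), 6],
    [1, 5, 4, (-13), 8, (-9), (-2), 5],
    [4, 9, 6, (-16), 9, (-10), (-2), 6]]

/-- the combination of the relations that gives the sixth power of the generator -/
def muL : List ℤ := [(-6), (-18), (-11), 32, (-18), 20, 4, (-12)]

theorem chk_rel_0 : ∀ l, l < 7 → ((fld (cert.rhs 6) l : ℤ) - (fld 16333569189110477145363404270933352919040 l : ℤ)) = (relL.getD 0 []).getD l 0 := by
  decide +kernel

theorem chk_rel_1 : ∀ l, l < 7 → ((fld (cert.rhs 6) l : ℤ) - (fld 16333569189110477145363404272032865595392 l : ℤ)) = (relL.getD 1 []).getD l 0 := by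
  decide +kernel

theorem chk_rel_2 : ∀ l, l < 7 → ((fld (cert.rhs 6) l : ℤ) - (fld 16330910733118907313617596656812795375616 l : ℤ)) = (relL.getD 2 []).getD l 0 := by
  decide +kernel

theorem chk_rel_3 : ∀ l, l < 7 → ((fld (cert.rhs 6) l : ℤ) - (fld 16333569189110474727512917965378633609215 l : ℤ)) = (relL.getD 3 []).getD l 0 := by
  decide +kernel

theorem chk_rel_4 : ∀ l, l < 7 → ((fld (cert.rhs 6) l : ℤ) - (fld 16330910733118907313616443736407700156414 l : ℤ)) = (relL.getD 4 []).getD l 0 := by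
  decide +kernel

theorem chk_rel_5 : ∀ l, l < 7 → ((fld (cert.rhs 6) l : ℤ) - (fld 16333569192913427737119967016685567750143 l : ℤ)) = (relL.getD 5 []).getD l 0 := by
  decide +kernel

theorem chk_rel_6 : ∀ l, l < 7 → ((fld (cert.rhs 6) l : ℤ) - (fld 16332239957311740428808118100193149202430 l : ℤ)) = (relL.getD 6 []).getD l 0 := by
  decide +kernel

theorem chk_rel_7 : ∀ l, l < 7 → ((fld (cert.rhs 6) l : ℤ) - (fld 16340215334159995663162409452826557165566 l : ℤ)) = (relL.getD 7 []).getD l 0 := by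
  decide +kernel

theorem chk_lam : ∀ j, j < 7 → ∀ l, l < 7 →
    (if l = j then (1 : ℤ) else 0) - mL.getD j 0 * cL.getD l 0 = dotL (lamL.getD j []) relL l := by
  decide +kernel

theorem chk_mu : ∀ l, l < 7 → (6 : ℤ) * cL.getD l 0 = dotL muL relL l := by decide +kernel

end Cfsg.Agent.Lib.Helper8.ONM
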