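import Cfsg.Agent.Lib.Helper6.SimpWP
import Cfsg.Agent.Lib.Helper6.ONL37C
import Cfsg.Agent.Lib.Helper8.ONM.D

/-!
# The multiplier of the O'Nan group: the letters of the table in the presented group

The letters of the table in the presented O'Nan group (helper6: simple of order 460815505920), the words of the
certificate, which are trivial there by the word problem, the subgroup `H` generated by the first six letters, and a
sign character of `H`, which comes from its presentation (helper6). (helper8)
-/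

set_option autoImplicit false
set_option maxRecDepth 100000

namespace Cfsg.Agent.Lib.Helper8.ONM

open Cfsg Cfsg.Spor Cfsg.Agent.Lib.Helper7.MG Cfsg.Agent.Lib.Helper7.HSMult
open Cfsg.Agent.Lib.Helper6 Cfsg.Agent.Lib.Helper6.TC Cfsg.Agent.Lib.Helper6.TCG Cfsg.Agent.Lib.Helper6.Simp
  Cfsg.Agent.Lib.Helper6.ONSub

instance finiteON : Finite ON := ONSimple.ub.1

theorem card_ON : Nat.card ON = 460815505920 := ONSimple.main.2

/-- the letters of the table in the presented group: the generators `a`, …, `f`, `g` and the inverse of `g` -/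
noncomputable def lO (x : ℕ) : ON := ONTC.data.γ x

theorem wd_lO_eq (w : List ℕ) : VCert.wd lO w = SimpG.wordG ONTC.data w := rfl

/-- the base points of the word problem -/
def baseO : List ℕ := [40164, 15, 0]

theorem baseO_eq : SimpWP.allFixed ONSimp.levels [0] = baseO := by decide +kernel

/-- **the word problem** of the presented O'Nan group (as in `ON460Sub` of helper6) -/
theorem wpO (w : List ℕ) (h : SimpWP.fixOK ONTC.tab baseO w = true) : SimpG.wordG ONTC.data w = 1 := by
  refine SimpWP.wordG_eq_one_of_fixOK ONTC.data ONSimple.card_inj.1 ONSimple.card_inj.2 ONSimp.levels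
    ONSimp.chain_ok ONSimp.chain_prod (by norm_num) w ?_
  rw [baseO_eq]
  exact h

set_option maxRecDepth 1000000 in
theorem chk_fix : ∀ i, i < 82 → SimpWP.fixOK ONTC.tab baseO (cert.W i) = true := by decide +kernel

/-- **the words of the certificate are trivial in the presented group** -/
theorem wd_lO_W {i : ℕ} (hi : i < 82) : VCert.wd lO (cert.W i) = 1 := by
  rw [wd_lO_eq]
  exact wpO _ (chk_fix i hi)

theorem cert_iv_eq : ∀ x, x < 8 → cert.iv x = Cfsg.Agent.Lib.Helper6.TCGS.ivN ONTC.data.ivs x := by decide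

theorem lO_iv (x : ℕ) (hx : x < 8) : lO (cert.iv x) = (lO x)⁻¹ := by
  rw [cert_iv_eq x hx]
  exact (ONTC.data.γ_iv x hx).2

theorem lO_gen (z : ON) : ∃ u : List ℕ, (∀ x ∈ u, x < 8) ∧ z = (u.map lO).prod := ONTC.data.γ_gen z

theorem closure_lO : Subgroup.closure (lO '' Set.Iio 8) = ⊤ := by
  rw [Subgroup.eq_top_iff']
  intro z
  obtain ⟨u, hu, rfl⟩ := lO_gen z
  apply Subgroup.list_prod_mem
  intro y hy
  obtain ⟨x, hx, rfl⟩ := List.mem_map.1 hy
  exact Subgroup.subset_closure ⟨x, hu x hx, rfl⟩

theorem chk_letters : ∀ i, i < 82 → ((cert.W i).all fun x => Nat.blt x 8) = true := by decide +kernel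

theorem letters_lt {i : ℕ} (hi : i < 82) : ∀ x ∈ cert.W i, x < 8 := by
  intro x hx
  have := List.all_eq_true.1 (chk_letters i hi) x hx
  simpa [Nat.blt] using this

theorem nW_lt : ∀ x ∈ nW, x < 8 := by decide

/-! ### the subgroup -/

theorem lO_mem_H : ∀ x, x < 6 → lO x ∈ ONL37.H
  | 0, _ => Subgroup.mem_map_of_mem _ (Subgroup.subset_closure (Or.inl rfl))
  | 1, _ => Subgroup.mem_map_of_mem _ (Subgroup.subset_closure (Or.inr (Or.inl rfl)))
  | 2, _ => Subgroup.mem_map_of_mem _ (Subgroup.subset_closure (Or.inr (Or.inr (Or.inl rfl))))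
  | 3, _ => Subgroup.mem_map_of_mem _ (Subgroup.subset_closure (Or.inr (Or.inr (Or.inr (Or.inl rfl)))))
  | 4, _ => Subgroup.mem_map_of_mem _ (Subgroup.subset_closure (Or.inr (Or.inr (Or.inr (Or.inr (Or.inl rfl))))))
  | 5, _ => Subgroup.mem_map_of_mem _ (Subgroup.subset_closure (Or.inr (Or.inr (Or.inr (Or.inr (Or.inr rfl))))))
  | _ + 6, h => absurd h (by omega)

/-- the first six letters as elements of the subgroup -/
noncomputable def hO (x : ℕ) : ↥ONL37.H := if h : x < 6 then ⟨lO x, lO_mem_H x h⟩ else 1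

theorem hO_coe {x : ℕ} (hx : x < 6) : ((hO x : ↥ONL37.H) : ON) = lO x := by
  rw [hO, dif_pos hx]

/-- the value in the subgroup of a word in the first six letters -/
noncomputable def wdH (w : List ℕ) : ↥ONL37.H := (w.map hO).prod

theorem wdH_coe : ∀ w : List ℕ, (∀ x ∈ w, x < 6) → ((wdH w : ↥ONL37.H) : ON) = VCert.wd lO w
  | [], _ => rfl
  | x :: w, h => by
    have e : wdH (x :: w) = hO x * wdH w := by
      rw [wdH, List.map_cons, List.prod_cons]; rfl
    rw [e, Subgroup.coe_mul, hO_coe (h x List.mem_cons_self), VCert.wd_cons,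
      wdH_coe w (fun y hy => h y (List.mem_cons_of_mem _ hy))]

/-! ### the sign character of the subgroup -/

/-- the sign character of the presented subgroup: every generator goes to `-1` -/
noncomputable def sgnQ : Q6 →* ℤˣ :=
  PresentedGroup.toGroup (f := fun _ : Q6.Gen => (-1 : ℤˣ)) (by
    rintro r (hr | hr)
    · obtain ⟨x, _, y, _, rfl⟩ := hr
      rw [map_pow, map_mul, FreeGroup.lift_apply_of, FreeGroup.lift_apply_of]
      simp
    · simp only [Q6.extra, Set.mem_setOf_eq, List.mem_cons, List.not_mem_nil, or_false] at hr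
      subst hr
      simp only [map_mul, map_inv, map_pow, FreeGroup.lift_apply_of]
      decide)

/-- the presented subgroup is the subgroup -/
noncomputable def eQ : Q6 ≃* ↥ONL37.H := MulEquiv.ofBijective ONL37.π ONL37.π_bijective

/-- **the sign character of the subgroup** -/
noncomputable def sgnH : ↥ONL37.H →* ℤˣ := sgnQ.comp eQ.symm.toMonoidHom

/-- the generator of the presented subgroup with a number -/
def genQ : ℕ → Q6.Gen
  | 0 => .a
  | 1 => .b
  | 2 => .c
  | 3 => .d
  | 4 => .e
  | _ => .f

theorem eQ_of : ∀ x, x < 6 → eQ (PresentedGroup.of (genQ x)) = hO x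
  | 0, _ => Subtype.ext (by rw [hO_coe (by norm_num)]; exact SubPres.hom_of subQ6 _)
  | 1, _ => Subtype.ext (by rw [hO_coe (by norm_num)]; exact SubPres.hom_of subQ6 _)
  | 2, _ => Subtype.ext (by rw [hO_coe (by norm_num)]; exact SubPres.hom_of subQ6 _)
  | 3, _ => Subtype.ext (by rw [hO_coe (by norm_num)]; exact SubPres.hom_of subQ6 _)
  | 4, _ => Subtype.ext (by rw [hO_coe (by norm_num)]; exact SubPres.hom_of subQ6 _)
  | 5, _ => Subtype.ext (by rw [hO_coe (by norm_num)]; exact SubPres.hom_of subQ6 _)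
  | _ + 6, h => absurd h (by omega)

theorem sgnH_hO {x : ℕ} (hx : x < 6) : sgnH (hO x) = -1 := by
  rw [← eQ_of x hx]
  show sgnQ (eQ.symm (eQ (PresentedGroup.of (genQ x)))) = -1
  rw [eQ.symm_apply_apply]
  exact PresentedGroup.toGroup.of _

theorem card_H : Nat.card ↥ONL37.H = 3753792 := ONL37.card_H

end Cfsg.Agent.Lib.Helper8.ONM
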