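import Cfsg.Agent.Lib.Helper8.ONM.T0
import Cfsg.Agent.Lib.Helper8.ONM.T1
import Cfsg.Agent.Lib.Helper8.ONM.T2
import Cfsg.Agent.Lib.Helper8.ONM.T3
import Cfsg.Agent.Lib.Helper8.ONM.T4
import Cfsg.Agent.Lib.Helper8.ONM.T5
import Cfsg.Agent.Lib.Helper8.ONM.T6
import Cfsg.Agent.Lib.Helper8.ONM.T7
import Cfsg.Agent.Lib.Helper8.ONM.T8
import Cfsg.Agent.Lib.Helper8.ONM.T9
import Cfsg.Agent.Lib.Helper8.ONM.T10
import Cfsg.Agent.Lib.Helper8.ONM.T11
import Cfsg.Agent.Lib.Helper8.ONM.T12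
import Cfsg.Agent.Lib.Helper8.ONM.T13
import Cfsg.Agent.Lib.Helper8.ONM.T14
import Cfsg.Agent.Lib.Helper8.ONM.T15
import Cfsg.Agent.Lib.Helper8.ONM.T16
import Cfsg.Agent.Lib.Helper8.ONM.T17
import Cfsg.Agent.Lib.Helper8.ONM.T18
import Cfsg.Agent.Lib.Helper8.ONM.T19
import Cfsg.Agent.Lib.Helper8.ONM.T20
import Cfsg.Agent.Lib.Helper8.ONM.T21
import Cfsg.Agent.Lib.Helper8.ONM.T22
import Cfsg.Agent.Lib.Helper8.ONM.T23
import Cfsg.Agent.Lib.Helper8.ONM.T24
import Cfsg.Agent.Lib.Helper8.ONM.T25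
import Cfsg.Agent.Lib.Helper8.ONM.T26
import Cfsg.Agent.Lib.Helper8.ONM.T27
import Cfsg.Agent.Lib.Helper8.ONM.T28
import Cfsg.Agent.Lib.Helper8.ONM.T29
import Cfsg.Agent.Lib.Helper8.ONM.T30
import Cfsg.Agent.Lib.Helper8.ONM.T31
import Cfsg.Agent.Lib.Helper8.ONM.T32
import Cfsg.Agent.Lib.Helper8.ONM.T33
import Cfsg.Agent.Lib.Helper8.ONM.T34
import Cfsg.Agent.Lib.Helper8.ONM.T35
import Cfsg.Agent.Lib.Helper8.ONM.T36
import Cfsg.Agent.Lib.Helper8.ONM.T37
import Cfsg.Agent.Lib.Helper8.ONM.T38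
import Cfsg.Agent.Lib.Helper8.ONM.T39
import Cfsg.Agent.Lib.Helper8.ONM.T40
import Cfsg.Agent.Lib.Helper8.ONM.T41
import Cfsg.Agent.Lib.Helper8.ONM.T42
import Cfsg.Agent.Lib.Helper8.ONM.T43
import Cfsg.Agent.Lib.Helper8.ONM.T44
import Cfsg.Agent.Lib.Helper8.ONM.T45
import Cfsg.Agent.Lib.Helper8.ONM.T46
import Cfsg.Agent.Lib.Helper8.ONM.T47
import Cfsg.Agent.Lib.Helper8.ONM.T48
import Cfsg.Agent.Lib.Helper8.ONM.T49
import Cfsg.Agent.Lib.Helper8.ONM.T50
import Cfsg.Agent.Lib.Helper8.ONM.T51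
import Cfsg.Agent.Lib.Helper8.ONM.T52
import Cfsg.Agent.Lib.Helper8.ONM.T53
import Cfsg.Agent.Lib.Helper8.ONM.T54
import Cfsg.Agent.Lib.Helper8.ONM.T55
import Cfsg.Agent.Lib.Helper8.ONM.T56
import Cfsg.Agent.Lib.Helper8.ONM.T57
import Cfsg.Agent.Lib.Helper8.ONM.T58
import Cfsg.Agent.Lib.Helper8.ONM.T59
import Cfsg.Agent.Lib.Helper8.ONM.T60
import Cfsg.Agent.Lib.Helper8.ONM.T61
import Cfsg.Agent.Lib.Helper8.ONM.T62
import Cfsg.Agent.Lib.Helper8.ONM.T63
import Cfsg.Agent.Lib.Helper8.ONM.R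
import Cfsg.Agent.Lib.Helper7.MGenC

/-! # The multiplier of the O'Nan group, the table over the subgroup of index 122760: the certificate of the enumeration of the cosets (generated) -/

set_option autoImplicit false
set_option maxRecDepth 100000

namespace Cfsg.Agent.Lib.Helper8.ONM

open Cfsg.Agent.Lib.Helper7.MG Cfsg.Agent.Lib.Helper7.HSMult

/-- the part of the table that contains a row, by its digits of weight 256 to 2048 -/
noncomputable def sel3_0 (a : ℕ) : ℕ :=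
  (cond (Nat.beq (Nat.land a 256) 0) (cond (Nat.beq (Nat.land a 512) 0) (cond (Nat.beq (Nat.land a 1024) 0) (cond (Nat.beq (Nat.land a 2048) 0) rl0 rl2048) (cond (Nat.beq (Nat.land a 2048) 0) rl1024 rl3072)) (cond (Nat.beq (Nat.land a 1024) 0) (cond (Nat.beq (Nat.land a 2048) 0) rl512 rl2560) (cond (Nat.beq (Nat.land a 2048) 0) rl1536 rl3584))) (cond (Nat.beq (Nat.land a 512) 0) (cond (Nat.beq (Nat.land a 1024) 0) (cond (Nat.beq (Nat.land a 2048) 0) rl256 rl2304) (cond (Nat.beq (Nat.land a 2048) 0) rl1280 rl3328)) (cond (Nat.beq (Nat.land a 1024) 0) (cond (Nat.beq (Nat.land a 2048) 0) rl768 rl2816) (cond (Nat.beq (Nat.land a 2048) 0) rl1792 rl3840))))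

/-- the part of the table that contains a row, by its digits of weight 256 to 2048 -/
noncomputable def sel3_1 (a : ℕ) : ℕ :=
  (cond (Nat.beq (Nat.land a 256) 0) (cond (Nat.beq (Nat.land a 512) 0) (cond (Nat.beq (Nat.land a 1024) 0) (cond (Nat.beq (Nat.land a 2048) 0) rl1 rl2049) (cond (Nat.beq (Nat.land a 2048) 0) rl1025 rl3073)) (cond (Nat.beq (Nat.land a 1024) 0) (cond (Nat.beq (Nat.land a 2048) 0) rl513 rl2561) (cond (Nat.beq (Nat.land a 2048) 0) rl1537 rl3585))) (cond (Nat.beq (Nat.land a 512) 0) (cond (Nat.beq (Nat.land a 1024) 0) (cond (Nat.beq (Nat.land a 2048) 0) rl257 rl2305) (cond (Nat.beq (Nat.land a 2048) 0) rl1281 rl3329)) (cond (Nat.beq (Nat.land a 1024) 0) (cond (Nat.beq (Nat.land a 2048) 0) rl769 rl2817) (cond (Nat.beq (Nat.land a 2048) 0) rl1793 rl3841))))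

/-- the part of the table that contains a row, by its digits of weight 256 to 2048 -/
noncomputable def sel3_2 (a : ℕ) : ℕ :=
  (cond (Nat.beq (Nat.land a 256) 0) (cond (Nat.beq (Nat.land a 512) 0) (cond (Nat.beq (Nat.land a 1024) 0) (cond (Nat.beq (Nat.land a 2048) 0) rl2 rl2050) (cond (Nat.beq (Nat.land a 2048) 0) rl1026 rl3074)) (cond (Nat.beq (Nat.land a 1024) 0) (cond (Nat.beq (Nat.land a 2048) 0) rl514 rl2562) (cond (Nat.beq (Nat.land a 2048) 0) rl1538 rl3586))) (cond (Nat.beq (Nat.land a 512) 0) (cond (Nat.beq (Nat.land a 1024) 0) (cond (Nat.beq (Nat.land a 2048) 0) rl258 rl2306) (cond (Nat.beq (Nat.land a 2048) 0) rl1282 rl3330)) (cond (Nat.beq (Nat.land a 1024) 0) (cond (Nat.beq (Nat.land a 2048) 0) rl770 rl2818) (cond (Nat.beq (Nat.land a 2048) 0) rl1794 rl3842))))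

/-- the part of the table that contains a row, by its digits of weight 256 to 2048 -/
noncomputable def sel3_3 (a : ℕ) : ℕ :=
  (cond (Nat.beq (Nat.land a 256) 0) (cond (Nat.beq (Nat.land a 512) 0) (cond (Nat.beq (Nat.land a 1024) 0) (cond (Nat.beq (Nat.land a 2048) 0) rl3 rl2051) (cond (Nat.beq (Nat.land a 2048) 0) rl1027 rl3075)) (cond (Nat.beq (Nat.land a 1024) 0) (cond (Nat.beq (Nat.land a 2048) 0) rl515 rl2563) (cond (Nat.beq (Nat.land a 2048) 0) rl1539 rl3587))) (cond (Nat.beq (Nat.land a 512) 0) (cond (Nat.beq (Nat.land a 1024) 0) (cond (Nat.beq (Nat.land a 2048) 0) rl259 rl2307) (cond (Nat.beq (Nat.land a 2048) 0) rl1283 rl3331)) (cond (Nat.beq (Nat.land a 1024) 0) (cond (Nat.beq (Nat.land a 2048) 0) rl771 rl2819) (cond (Nat.beq (Nat.land a 2048) 0) rl1795 rl3843))))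

/-- the part of the table that contains a row, by its digits of weight 256 to 2048 -/
noncomputable def sel3_4 (a : ℕ) : ℕ :=
  (cond (Nat.beq (Nat.land a 256) 0) (cond (Nat.beq (Nat.land a 512) 0) (cond (Nat.beq (Nat.land a 1024) 0) (cond (Nat.beq (Nat.land a 2048) 0) rl4 rl2052) (cond (Nat.beq (Nat.land a 2048) 0) rl1028 rl3076)) (cond (Nat.beq (Nat.land a 1024) 0) (cond (Nat.beq (Nat.land a 2048) 0) rl516 rl2564) (cond (Nat.beq (Nat.land a 2048) 0) rl1540 rl3588))) (cond (Nat.beq (Nat.land a 512) 0) (cond (Nat.beq (Nat.land a 1024) 0) (cond (Nat.beq (Nat.land a 2048) 0) rl260 rl2308) (cond (Nat.beq (Nat.land a 2048) 0) rl1284 rl3332)) (cond (Nat.beq (Nat.land a 1024) 0) (cond (Nat.beq (Nat.land a 2048) 0) rl772 rl2820) (cond (Nat.beq (Nat.land a 2048) 0) rl1796 rl3844))))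

/-- the part of the table that contains a row, by its digits of weight 256 to 2048 -/
noncomputable def sel3_5 (a : ℕ) : ℕ :=
  (cond (Nat.beq (Nat.land a 256) 0) (cond (Nat.beq (Nat.land a 512) 0) (cond (Nat.beq (Nat.land a 1024) 0) (cond (Nat.beq (Nat.land a 2048) 0) rl5 rl2053) (cond (Nat.beq (Nat.land a 2048) 0) rl1029 rl3077)) (cond (Nat.beq (Nat.land a 1024) 0) (cond (Nat.beq (Nat.land a 2048) 0) rl517 rl2565) (cond (Nat.beq (Nat.land a 2048) 0) rl1541 rl3589))) (cond (Nat.beq (Nat.land a 512) 0) (cond (Nat.beq (Nat.land a 1024) 0) (cond (Nat.beq (Nat.land a 2048) 0) rl261 rl2309) (cond (Nat.beq (Nat.land a 2048) 0) rl1285 rl3333)) (cond (Nat.beq (Nat.land a 1024) 0) (cond (Nat.beq (Nat.land a 2048) 0) rl773 rl2821) (cond (Nat.beq (Nat.land a 2048) 0) rl1797 rl3845))))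

/-- the part of the table that contains a row, by its digits of weight 256 to 2048 -/
noncomputable def sel3_6 (a : ℕ) : ℕ :=
  (cond (Nat.beq (Nat.land a 256) 0) (cond (Nat.beq (Nat.land a 512) 0) (cond (Nat.beq (Nat.land a 1024) 0) (cond (Nat.beq (Nat.land a 2048) 0) rl6 rl2054) (cond (Nat.beq (Nat.land a 2048) 0) rl1030 rl3078)) (cond (Nat.beq (Nat.land a 1024) 0) (cond (Nat.beq (Nat.land a 2048) 0) rl518 rl2566) (cond (Nat.beq (Nat.land a 2048) 0) rl1542 rl3590))) (cond (Nat.beq (Nat.land a 512) 0) (cond (Nat.beq (Nat.land a 1024) 0) (cond (Nat.beq (Nat.land a 2048) 0) rl262 rl2310) (cond (Nat.beq (Nat.land a 2048) 0) rl1286 rl3334)) (cond (Nat.beq (Nat.land a 1024) 0) (cond (Nat.beq (Nat.land a 2048) 0) rl774 rl2822) (cond (Nat.beq (Nat.land a 2048) 0) rl1798 rl3846))))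

/-- the part of the table that contains a row, by its digits of weight 256 to 2048 -/
noncomputable def sel3_7 (a : ℕ) : ℕ :=
  (cond (Nat.beq (Nat.land a 256) 0) (cond (Nat.beq (Nat.land a 512) 0) (cond (Nat.beq (Nat.land a 1024) 0) (cond (Nat.beq (Nat.land a 2048) 0) rl7 rl2055) (cond (Nat.beq (Nat.land a 2048) 0) rl1031 rl3079)) (cond (Nat.beq (Nat.land a 1024) 0) (cond (Nat.beq (Nat.land a 2048) 0) rl519 rl2567) (cond (Nat.beq (Nat.land a 2048) 0) rl1543 rl3591))) (cond (Nat.beq (Nat.land a 512) 0) (cond (Nat.beq (Nat.land a 1024) 0) (cond (Nat.beq (Nat.land a 2048) 0) rl263 rl2311) (cond (Nat.beq (Nat.land a 2048) 0) rl1287 rl3335)) (cond (Nat.beq (Nat.land a 1024) 0) (cond (Nat.beq (Nat.land a 2048) 0) rl775 rl2823) (cond (Nat.beq (Nat.land a 2048) 0) rl1799 rl3847))))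

/-- the part of the table that contains a row, by its digits of weight 256 to 2048 -/
noncomputable def sel3_8 (a : ℕ) : ℕ :=
  (cond (Nat.beq (Nat.land a 256) 0) (cond (Nat.beq (Nat.land a 512) 0) (cond (Nat.beq (Nat.land a 1024) 0) (cond (Nat.beq (Nat.land a 2048) 0) rl8 rl2056) (cond (Nat.beq (Nat.land a 2048) 0) rl1032 rl3080)) (cond (Nat.beq (Nat.land a 1024) 0) (cond (Nat.beq (Nat.land a 2048) 0) rl520 rl2568) (cond (Nat.beq (Nat.land a 2048) 0) rl1544 rl3592))) (cond (Nat.beq (Nat.land a 512) 0) (cond (Nat.beq (Nat.land a 1024) 0) (cond (Nat.beq (Nat.land a 2048) 0) rl264 rl2312) (cond (Nat.beq (Nat.land a 2048) 0) rl1288 rl3336)) (cond (Nat.beq (Nat.land a 1024) 0) (cond (Nat.beq (Nat.land a 2048) 0) rl776 rl2824) (cond (Nat.beq (Nat.land a 2048) 0) rl1800 rl3848))))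

/-- the part of the table that contains a row, by its digits of weight 256 to 2048 -/
noncomputable def sel3_9 (a : ℕ) : ℕ :=
  (cond (Nat.beq (Nat.land a 256) 0) (cond (Nat.beq (Nat.land a 512) 0) (cond (Nat.beq (Nat.land a 1024) 0) (cond (Nat.beq (Nat.land a 2048) 0) rl9 rl2057) (cond (Nat.beq (Nat.land a 2048) 0) rl1033 rl3081)) (cond (Nat.beq (Nat.land a 1024) 0) (cond (Nat.beq (Nat.land a 2048) 0) rl521 rl2569) (cond (Nat.beq (Nat.land a 2048) 0) rl1545 rl3593))) (cond (Nat.beq (Nat.land a 512) 0) (cond (Nat.beq (Nat.land a 1024) 0) (cond (Nat.beq (Nat.land a 2048) 0) rl265 rl2313) (cond (Nat.beq (Nat.land a 2048) 0) rl1289 rl3337)) (cond (Nat.beq (Nat.land a 1024) 0) (cond (Nat.beq (Nat.land a 2048) 0) rl777 rl2825) (cond (Nat.beq (Nat.land a 2048) 0) rl1801 rl3849))))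

/-- the part of the table that contains a row, by its digits of weight 256 to 2048 -/
noncomputable def sel3_10 (a : ℕ) : ℕ :=
  (cond (Nat.beq (Nat.land a 256) 0) (cond (Nat.beq (Nat.land a 512) 0) (cond (Nat.beq (Nat.land a 1024) 0) (cond (Nat.beq (Nat.land a 2048) 0) rl10 rl2058) (cond (Nat.beq (Nat.land a 2048) 0) rl1034 rl3082)) (cond (Nat.beq (Nat.land a 1024) 0) (cond (Nat.beq (Nat.land a 2048) 0) rl522 rl2570) (cond (Nat.beq (Nat.land a 2048) 0) rl1546 rl3594))) (cond (Nat.beq (Nat.land a 512) 0) (cond (Nat.beq (Nat.land a 1024) 0) (cond (Nat.beq (Nat.land a 2048) 0) rl266 rl2314) (cond (Nat.beq (Nat.land a 2048) 0) rl1290 rl3338)) (cond (Nat.beq (Nat.land a 1024) 0) (cond (Nat.beq (Nat.land a 2048) 0) rl778 rl2826) (cond (Nat.beq (Nat.land a 2048) 0) rl1802 rl3850))))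

/-- the part of the table that contains a row, by its digits of weight 256 to 2048 -/
noncomputable def sel3_11 (a : ℕ) : ℕ :=
  (cond (Nat.beq (Nat.land a 256) 0) (cond (Nat.beq (Nat.land a 512) 0) (cond (Nat.beq (Nat.land a 1024) 0) (cond (Nat.beq (Nat.land a 2048) 0) rl11 rl2059) (cond (Nat.beq (Nat.land a 2048) 0) rl1035 rl3083)) (cond (Nat.beq (Nat.land a 1024) 0) (cond (Nat.beq (Nat.land a 2048) 0) rl523 rl2571) (cond (Nat.beq (Nat.land a 2048) 0) rl1547 rl3595))) (cond (Nat.beq (Nat.land a 512) 0) (cond (Nat.beq (Nat.land a 1024) 0) (cond (Nat.beq (Nat.land a 2048) 0) rl267 rl2315) (cond (Nat.beq (Nat.land a 2048) 0) rl1291 rl3339)) (cond (Nat.beq (Nat.land a 1024) 0) (cond (Nat.beq (Nat.land a 2048) 0) rl779 rl2827) (cond (Nat.beq (Nat.land a 2048) 0) rl1803 rl3851))))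

/-- the part of the table that contains a row, by its digits of weight 256 to 2048 -/
noncomputable def sel3_12 (a : ℕ) : ℕ :=
  (cond (Nat.beq (Nat.land a 256) 0) (cond (Nat.beq (Nat.land a 512) 0) (cond (Nat.beq (Nat.land a 1024) 0) (cond (Nat.beq (Nat.land a 2048) 0) rl12 rl2060) (cond (Nat.beq (Nat.land a 2048) 0) rl1036 rl3084)) (cond (Nat.beq (Nat.land a 1024) 0) (cond (Nat.beq (Nat.land a 2048) 0) rl524 rl2572) (cond (Nat.beq (Nat.land a 2048) 0) rl1548 rl3596))) (cond (Nat.beq (Nat.land a 512) 0) (cond (Nat.beq (Nat.land a 1024) 0) (cond (Nat.beq (Nat.land a 2048) 0) rl268 rl2316) (cond (Nat.beq (Nat.land a 2048) 0) rl1292 rl3340)) (cond (Nat.beq (Nat.land a 1024) 0) (cond (Nat.beq (Nat.land a 2048) 0) rl780 rl2828) (cond (Nat.beq (Nat.land a 2048) 0) rl1804 rl3852))))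

/-- the part of the table that contains a row, by its digits of weight 256 to 2048 -/
noncomputable def sel3_13 (a : ℕ) : ℕ :=
  (cond (Nat.beq (Nat.land a 256) 0) (cond (Nat.beq (Nat.land a 512) 0) (cond (Nat.beq (Nat.land a 1024) 0) (cond (Nat.beq (Nat.land a 2048) 0) rl13 rl2061) (cond (Nat.beq (Nat.land a 2048) 0) rl1037 rl3085)) (cond (Nat.beq (Nat.land a 1024) 0) (cond (Nat.beq (Nat.land a 2048) 0) rl525 rl2573) (cond (Nat.beq (Nat.land a 2048) 0) rl1549 rl3597))) (cond (Nat.beq (Nat.land a 512) 0) (cond (Nat.beq (Nat.land a 1024) 0) (cond (Nat.beq (Nat.land a 2048) 0) rl269 rl2317) (cond (Nat.beq (Nat.land a 2048) 0) rl1293 rl3341)) (cond (Nat.beq (Nat.land a 1024) 0) (cond (Nat.beq (Nat.land a 2048) 0) rl781 rl2829) (cond (Nat.beq (Nat.land a 2048) 0) rl1805 rl3853))))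

/-- the part of the table that contains a row, by its digits of weight 256 to 2048 -/
noncomputable def sel3_14 (a : ℕ) : ℕ :=
  (cond (Nat.beq (Nat.land a 256) 0) (cond (Nat.beq (Nat.land a 512) 0) (cond (Nat.beq (Nat.land a 1024) 0) (cond (Nat.beq (Nat.land a 2048) 0) rl14 rl2062) (cond (Nat.beq (Nat.land a 2048) 0) rl1038 rl3086)) (cond (Nat.beq (Nat.land a 1024) 0) (cond (Nat.beq (Nat.land a 2048) 0) rl526 rl2574) (cond (Nat.beq (Nat.land a 2048) 0) rl1550 rl3598))) (cond (Nat.beq (Nat.land a 512) 0) (cond (Nat.beq (Nat.land a 1024) 0) (cond (Nat.beq (Nat.land a 2048) 0) rl270 rl2318) (cond (Nat.beq (Nat.land a 2048) 0) rl1294 rl3342)) (cond (Nat.beq (Nat.land a 1024) 0) (cond (Nat.beq (Nat.land a 2048) 0) rl782 rl2830) (cond (Nat.beq (Nat.land a 2048) 0) rl1806 rl3854))))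

/-- the part of the table that contains a row, by its digits of weight 256 to 2048 -/
noncomputable def sel3_15 (a : ℕ) : ℕ :=
  (cond (Nat.beq (Nat.land a 256) 0) (cond (Nat.beq (Nat.land a 512) 0) (cond (Nat.beq (Nat.land a 1024) 0) (cond (Nat.beq (Nat.land a 2048) 0) rl15 rl2063) (cond (Nat.beq (Nat.land a 2048) 0) rl1039 rl3087)) (cond (Nat.beq (Nat.land a 1024) 0) (cond (Nat.beq (Nat.land a 2048) 0) rl527 rl2575) (cond (Nat.beq (Nat.land a 2048) 0) rl1551 rl3599))) (cond (Nat.beq (Nat.land a 512) 0) (cond (Nat.beq (Nat.land a 1024) 0) (cond (Nat.beq (Nat.land a 2048) 0) rl271 rl2319) (cond (Nat.beq (Nat.land a 2048) 0) rl1295 rl3343)) (cond (Nat.beq (Nat.land a 1024) 0) (cond (Nat.beq (Nat.land a 2048) 0) rl783 rl2831) (cond (Nat.beq (Nat.land a 2048) 0) rl1807 rl3855))))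

/-- the part of the table that contains a row, by its digits of weight 256 to 2048 -/
noncomputable def sel3_16 (a : ℕ) : ℕ :=
  (cond (Nat.beq (Nat.land a 256) 0) (cond (Nat.beq (Nat.land a 512) 0) (cond (Nat.beq (Nat.land a 1024) 0) (cond (Nat.beq (Nat.land a 2048) 0) rl16 rl2064) (cond (Nat.beq (Nat.land a 2048) 0) rl1040 rl3088)) (cond (Nat.beq (Nat.land a 1024) 0) (cond (Nat.beq (Nat.land a 2048) 0) rl528 rl2576) (cond (Nat.beq (Nat.land a 2048) 0) rl1552 rl3600))) (cond (Nat.beq (Nat.land a 512) 0) (cond (Nat.beq (Nat.land a 1024) 0) (cond (Nat.beq (Nat.land a 2048) 0) rl272 rl2320) (cond (Nat.beq (Nat.land a 2048) 0) rl1296 rl3344)) (cond (Nat.beq (Nat.land a 1024) 0) (cond (Nat.beq (Nat.land a 2048) 0) rl784 rl2832) (cond (Nat.beq (Nat.land a 2048) 0) rl1808 rl3856))))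

/-- the part of the table that contains a row, by its digits of weight 256 to 2048 -/
noncomputable def sel3_17 (a : ℕ) : ℕ :=
  (cond (Nat.beq (Nat.land a 256) 0) (cond (Nat.beq (Nat.land a 512) 0) (cond (Nat.beq (Nat.land a 1024) 0) (cond (Nat.beq (Nat.land a 2048) 0) rl17 rl2065) (cond (Nat.beq (Nat.land a 2048) 0) rl1041 rl3089)) (cond (Nat.beq (Nat.land a 1024) 0) (cond (Nat.beq (Nat.land a 2048) 0) rl529 rl2577) (cond (Nat.beq (Nat.land a 2048) 0) rl1553 rl3601))) (cond (Nat.beq (Nat.land a 512) 0) (cond (Nat.beq (Nat.land a 1024) 0) (cond (Nat.beq (Nat.land a 2048) 0) rl273 rl2321) (cond (Nat.beq (Nat.land a 2048) 0) rl1297 rl3345)) (cond (Nat.beq (Nat.land a 1024) 0) (cond (Nat.beq (Nat.land a 2048) 0) rl785 rl2833) (cond (Nat.beq (Nat.land a 2048) 0) rl1809 rl3857))))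

/-- the part of the table that contains a row, by its digits of weight 256 to 2048 -/
noncomputable def sel3_18 (a : ℕ) : ℕ :=
  (cond (Nat.beq (Nat.land a 256) 0) (cond (Nat.beq (Nat.land a 512) 0) (cond (Nat.beq (Nat.land a 1024) 0) (cond (Nat.beq (Nat.land a 2048) 0) rl18 rl2066) (cond (Nat.beq (Nat.land a 2048) 0) rl1042 rl3090)) (cond (Nat.beq (Nat.land a 1024) 0) (cond (Nat.beq (Nat.land a 2048) 0) rl530 rl2578) (cond (Nat.beq (Nat.land a 2048) 0) rl1554 rl3602))) (cond (Nat.beq (Nat.land a 512) 0) (cond (Nat.beq (Nat.land a 1024) 0) (cond (Nat.beq (Nat.land a 2048) 0) rl274 rl2322) (cond (Nat.beq (Nat.land a 2048) 0) rl1298 rl3346)) (cond (Nat.beq (Nat.land a 1024) 0) (cond (Nat.beq (Nat.land a 2048) 0) rl786 rl2834) (cond (Nat.beq (Nat.land a 2048) 0) rl1810 rl3858))))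

/-- the part of the table that contains a row, by its digits of weight 256 to 2048 -/
noncomputable def sel3_19 (a : ℕ) : ℕ :=
  (cond (Nat.beq (Nat.land a 256) 0) (cond (Nat.beq (Nat.land a 512) 0) (cond (Nat.beq (Nat.land a 1024) 0) (cond (Nat.beq (Nat.land a 2048) 0) rl19 rl2067) (cond (Nat.beq (Nat.land a 2048) 0) rl1043 rl3091)) (cond (Nat.beq (Nat.land a 1024) 0) (cond (Nat.beq (Nat.land a 2048) 0) rl531 rl2579) (cond (Nat.beq (Nat.land a 2048) 0) rl1555 rl3603))) (cond (Nat.beq (Nat.land a 512) 0) (cond (Nat.beq (Nat.land a 1024) 0) (cond (Nat.beq (Nat.land a 2048) 0) rl275 rl2323) (cond (Nat.beq (Nat.land a 2048) 0) rl1299 rl3347)) (cond (Nat.beq (Nat.land a 1024) 0) (cond (Nat.beq (Nat.land a 2048) 0) rl787 rl2835) (cond (Nat.beq (Nat.land a 2048) 0) rl1811 rl3859))))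

/-- the part of the table that contains a row, by its digits of weight 256 to 2048 -/
noncomputable def sel3_20 (a : ℕ) : ℕ :=
  (cond (Nat.beq (Nat.land a 256) 0) (cond (Nat.beq (Nat.land a 512) 0) (cond (Nat.beq (Nat.land a 1024) 0) (cond (Nat.beq (Nat.land a 2048) 0) rl20 rl2068) (cond (Nat.beq (Nat.land a 2048) 0) rl1044 rl3092)) (cond (Nat.beq (Nat.land a 1024) 0) (cond (Nat.beq (Nat.land a 2048) 0) rl532 rl2580) (cond (Nat.beq (Nat.land a 2048) 0) rl1556 rl3604))) (cond (Nat.beq (Nat.land a 512) 0) (cond (Nat.beq (Nat.land a 1024) 0) (cond (Nat.beq (Nat.land a 2048) 0) rl276 rl2324) (cond (Nat.beq (Nat.land a 2048) 0) rl1300 rl3348)) (cond (Nat.beq (Nat.land a 1024) 0) (cond (Nat.beq (Nat.land a 2048) 0) rl788 rl2836) (cond (Nat.beq (Nat.land a 2048) 0) rl1812 rl3860))))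

/-- the part of the table that contains a row, by its digits of weight 256 to 2048 -/
noncomputable def sel3_21 (a : ℕ) : ℕ :=
  (cond (Nat.beq (Nat.land a 256) 0) (cond (Nat.beq (Nat.land a 512) 0) (cond (Nat.beq (Nat.land a 1024) 0) (cond (Nat.beq (Nat.land a 2048) 0) rl21 rl2069) (cond (Nat.beq (Nat.land a 2048) 0) rl1045 rl3093)) (cond (Nat.beq (Nat.land a 1024) 0) (cond (Nat.beq (Nat.land a 2048) 0) rl533 rl2581) (cond (Nat.beq (Nat.land a 2048) 0) rl1557 rl3605))) (cond (Nat.beq (Nat.land a 512) 0) (cond (Nat.beq (Nat.land a 1024) 0) (cond (Nat.beq (Nat.land a 2048) 0) rl277 rl2325) (cond (Nat.beq (Nat.land a 2048) 0) rl1301 rl3349)) (cond (Nat.beq (Nat.land a 1024) 0) (cond (Nat.beq (Nat.land a 2048) 0) rl789 rl2837) (cond (Nat.beq (Nat.land a 2048) 0) rl1813 rl3861))))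

/-- the part of the table that contains a row, by its digits of weight 256 to 2048 -/
noncomputable def sel3_22 (a : ℕ) : ℕ :=
  (cond (Nat.beq (Nat.land a 256) 0) (cond (Nat.beq (Nat.land a 512) 0) (cond (Nat.beq (Nat.land a 1024) 0) (cond (Nat.beq (Nat.land a 2048) 0) rl22 rl2070) (cond (Nat.beq (Nat.land a 2048) 0) rl1046 rl3094)) (cond (Nat.beq (Nat.land a 1024) 0) (cond (Nat.beq (Nat.land a 2048) 0) rl534 rl2582) (cond (Nat.beq (Nat.land a 2048) 0) rl1558 rl3606))) (cond (Nat.beq (Nat.land a 512) 0) (cond (Nat.beq (Nat.land a 1024) 0) (cond (Nat.beq (Nat.land a 2048) 0) rl278 rl2326) (cond (Nat.beq (Nat.land a 2048) 0) rl1302 rl3350)) (cond (Nat.beq (Nat.land a 1024) 0) (cond (Nat.beq (Nat.land a 2048) 0) rl790 rl2838) (cond (Nat.beq (Nat.land a 2048) 0) rl1814 rl3862))))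

/-- the part of the table that contains a row, by its digits of weight 256 to 2048 -/
noncomputable def sel3_23 (a : ℕ) : ℕ :=
  (cond (Nat.beq (Nat.land a 256) 0) (cond (Nat.beq (Nat.land a 512) 0) (cond (Nat.beq (Nat.land a 1024) 0) (cond (Nat.beq (Nat.land a 2048) 0) rl23 rl2071) (cond (Nat.beq (Nat.land a 2048) 0) rl1047 rl3095)) (cond (Nat.beq (Nat.land a 1024) 0) (cond (Nat.beq (Nat.land a 2048) 0) rl535 rl2583) (cond (Nat.beq (Nat.land a 2048) 0) rl1559 rl3607))) (cond (Nat.beq (Nat.land a 512) 0) (cond (Nat.beq (Nat.land a 1024) 0) (cond (Nat.beq (Nat.land a 2048) 0) rl279 rl2327) (cond (Nat.beq (Nat.land a 2048) 0) rl1303 rl3351)) (cond (Nat.beq (Nat.land a 1024) 0) (cond (Nat.beq (Nat.land a 2048) 0) rl791 rl2839) (cond (Nat.beq (Nat.land a 2048) 0) rl1815 rl3863))))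

/-- the part of the table that contains a row, by its digits of weight 256 to 2048 -/
noncomputable def sel3_24 (a : ℕ) : ℕ :=
  (cond (Nat.beq (Nat.land a 256) 0) (cond (Nat.beq (Nat.land a 512) 0) (cond (Nat.beq (Nat.land a 1024) 0) (cond (Nat.beq (Nat.land a 2048) 0) rl24 rl2072) (cond (Nat.beq (Nat.land a 2048) 0) rl1048 rl3096)) (cond (Nat.beq (Nat.land a 1024) 0) (cond (Nat.beq (Nat.land a 2048) 0) rl536 rl2584) (cond (Nat.beq (Nat.land a 2048) 0) rl1560 rl3608))) (cond (Nat.beq (Nat.land a 512) 0) (cond (Nat.beq (Nat.land a 1024) 0) (cond (Nat.beq (Nat.land a 2048) 0) rl280 rl2328) (cond (Nat.beq (Nat.land a 2048) 0) rl1304 rl3352)) (cond (Nat.beq (Nat.land a 1024) 0) (cond (Nat.beq (Nat.land a 2048) 0) rl792 rl2840) (cond (Nat.beq (Nat.land a 2048) 0) rl1816 rl3864))))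

/-- the part of the table that contains a row, by its digits of weight 256 to 2048 -/
noncomputable def sel3_25 (a : ℕ) : ℕ :=
  (cond (Nat.beq (Nat.land a 256) 0) (cond (Nat.beq (Nat.land a 512) 0) (cond (Nat.beq (Nat.land a 1024) 0) (cond (Nat.beq (Nat.land a 2048) 0) rl25 rl2073) (cond (Nat.beq (Nat.land a 2048) 0) rl1049 rl3097)) (cond (Nat.beq (Nat.land a 1024) 0) (cond (Nat.beq (Nat.land a 2048) 0) rl537 rl2585) (cond (Nat.beq (Nat.land a 2048) 0) rl1561 rl3609))) (cond (Nat.beq (Nat.land a 512) 0) (cond (Nat.beq (Nat.land a 1024) 0) (cond (Nat.beq (Nat.land a 2048) 0) rl281 rl2329) (cond (Nat.beq (Nat.land a 2048) 0) rl1305 rl3353)) (cond (Nat.beq (Nat.land a 1024) 0) (cond (Nat.beq (Nat.land a 2048) 0) rl793 rl2841) (cond (Nat.beq (Nat.land a 2048) 0) rl1817 rl3865))))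

/-- the part of the table that contains a row, by its digits of weight 256 to 2048 -/
noncomputable def sel3_26 (a : ℕ) : ℕ :=
  (cond (Nat.beq (Nat.land a 256) 0) (cond (Nat.beq (Nat.land a 512) 0) (cond (Nat.beq (Nat.land a 1024) 0) (cond (Nat.beq (Nat.land a 2048) 0) rl26 rl2074) (cond (Nat.beq (Nat.land a 2048) 0) rl1050 rl3098)) (cond (Nat.beq (Nat.land a 1024) 0) (cond (Nat.beq (Nat.land a 2048) 0) rl538 rl2586) (cond (Nat.beq (Nat.land a 2048) 0) rl1562 rl3610))) (cond (Nat.beq (Nat.land a 512) 0) (cond (Nat.beq (Nat.land a 1024) 0) (cond (Nat.beq (Nat.land a 2048) 0) rl282 rl2330) (cond (Nat.beq (Nat.land a 2048) 0) rl1306 rl3354)) (cond (Nat.beq (Nat.land a 1024) 0) (cond (Nat.beq (Nat.land a 2048) 0) rl794 rl2842) (cond (Nat.beq (Nat.land a 2048) 0) rl1818 rl3866))))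

/-- the part of the table that contains a row, by its digits of weight 256 to 2048 -/
noncomputable def sel3_27 (a : ℕ) : ℕ :=
  (cond (Nat.beq (Nat.land a 256) 0) (cond (Nat.beq (Nat.land a 512) 0) (cond (Nat.beq (Nat.land a 1024) 0) (cond (Nat.beq (Nat.land a 2048) 0) rl27 rl2075) (cond (Nat.beq (Nat.land a 2048) 0) rl1051 rl3099)) (cond (Nat.beq (Nat.land a 1024) 0) (cond (Nat.beq (Nat.land a 2048) 0) rl539 rl2587) (cond (Nat.beq (Nat.land a 2048) 0) rl1563 rl3611))) (cond (Nat.beq (Nat.land a 512) 0) (cond (Nat.beq (Nat.land a 1024) 0) (cond (Nat.beq (Nat.land a 2048) 0) rl283 rl2331) (cond (Nat.beq (Nat.land a 2048) 0) rl1307 rl3355)) (cond (Nat.beq (Nat.land a 1024) 0) (cond (Nat.beq (Nat.land a 2048) 0) rl795 rl2843) (cond (Nat.beq (Nat.land a 2048) 0) rl1819 rl3867))))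

/-- the part of the table that contains a row, by its digits of weight 256 to 2048 -/
noncomputable def sel3_28 (a : ℕ) : ℕ :=
  (cond (Nat.beq (Nat.land a 256) 0) (cond (Nat.beq (Nat.land a 512) 0) (cond (Nat.beq (Nat.land a 1024) 0) (cond (Nat.beq (Nat.land a 2048) 0) rl28 rl2076) (cond (Nat.beq (Nat.land a 2048) 0) rl1052 rl3100)) (cond (Nat.beq (Nat.land a 1024) 0) (cond (Nat.beq (Nat.land a 2048) 0) rl540 rl2588) (cond (Nat.beq (Nat.land a 2048) 0) rl1564 rl3612))) (cond (Nat.beq (Nat.land a 512) 0) (cond (Nat.beq (Nat.land a 1024) 0) (cond (Nat.beq (Nat.land a 2048) 0) rl284 rl2332) (cond (Nat.beq (Nat.land a 2048) 0) rl1308 rl3356)) (cond (Nat.beq (Nat.land a 1024) 0) (cond (Nat.beq (Nat.land a 2048) 0) rl796 rl2844) (cond (Nat.beq (Nat.land a 2048) 0) rl1820 rl3868))))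

/-- the part of the table that contains a row, by its digits of weight 256 to 2048 -/
noncomputable def sel3_29 (a : ℕ) : ℕ :=
  (cond (Nat.beq (Nat.land a 256) 0) (cond (Nat.beq (Nat.land a 512) 0) (cond (Nat.beq (Nat.land a 1024) 0) (cond (Nat.beq (Nat.land a 2048) 0) rl29 rl2077) (cond (Nat.beq (Nat.land a 2048) 0) rl1053 rl3101)) (cond (Nat.beq (Nat.land a 1024) 0) (cond (Nat.beq (Nat.land a 2048) 0) rl541 rl2589) (cond (Nat.beq (Nat.land a 2048) 0) rl1565 rl3613))) (cond (Nat.beq (Nat.land a 512) 0) (cond (Nat.beq (Nat.land a 1024) 0) (cond (Nat.beq (Nat.land a 2048) 0) rl285 rl2333) (cond (Nat.beq (Nat.land a 2048) 0) rl1309 rl3357)) (cond (Nat.beq (Nat.land a 1024) 0) (cond (Nat.beq (Nat.land a 2048) 0) rl797 rl2845) (cond (Nat.beq (Nat.land a 2048) 0) rl1821 rl3869))))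

/-- the part of the table that contains a row, by its digits of weight 256 to 2048 -/
noncomputable def sel3_30 (a : ℕ) : ℕ :=
  (cond (Nat.beq (Nat.land a 256) 0) (cond (Nat.beq (Nat.land a 512) 0) (cond (Nat.beq (Nat.land a 1024) 0) (cond (Nat.beq (Nat.land a 2048) 0) rl30 rl2078) (cond (Nat.beq (Nat.land a 2048) 0) rl1054 rl3102)) (cond (Nat.beq (Nat.land a 1024) 0) (cond (Nat.beq (Nat.land a 2048) 0) rl542 rl2590) (cond (Nat.beq (Nat.land a 2048) 0) rl1566 rl3614))) (cond (Nat.beq (Nat.land a 512) 0) (cond (Nat.beq (Nat.land a 1024) 0) (cond (Nat.beq (Nat.land a 2048) 0) rl286 rl2334) (cond (Nat.beq (Nat.land a 2048) 0) rl1310 rl3358)) (cond (Nat.beq (Nat.land a 1024) 0) (cond (Nat.beq (Nat.land a 2048) 0) rl798 rl2846) (cond (Nat.beq (Nat.land a 2048) 0) rl1822 rl3870))))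

/-- the part of the table that contains a row, by its digits of weight 256 to 2048 -/
noncomputable def sel3_31 (a : ℕ) : ℕ :=
  (cond (Nat.beq (Nat.land a 256) 0) (cond (Nat.beq (Nat.land a 512) 0) (cond (Nat.beq (Nat.land a 1024) 0) (cond (Nat.beq (Nat.land a 2048) 0) rl31 rl2079) (cond (Nat.beq (Nat.land a 2048) 0) rl1055 rl3103)) (cond (Nat.beq (Nat.land a 1024) 0) (cond (Nat.beq (Nat.land a 2048) 0) rl543 rl2591) (cond (Nat.beq (Nat.land a 2048) 0) rl1567 rl3615))) (cond (Nat.beq (Nat.land a 512) 0) (cond (Nat.beq (Nat.land a 1024) 0) (cond (Nat.beq (Nat.land a 2048) 0) rl287 rl2335) (cond (Nat.beq (Nat.land a 2048) 0) rl1311 rl3359)) (cond (Nat.beq (Nat.land a 1024) 0) (cond (Nat.beq (Nat.land a 2048) 0) rl799 rl2847) (cond (Nat.beq (Nat.land a 2048) 0) rl1823 rl3871))))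

/-- the part of the table that contains a row, by its digits of weight 256 to 2048 -/
noncomputable def sel3_32 (a : ℕ) : ℕ :=
  (cond (Nat.beq (Nat.land a 256) 0) (cond (Nat.beq (Nat.land a 512) 0) (cond (Nat.beq (Nat.land a 1024) 0) (cond (Nat.beq (Nat.land a 2048) 0) rl32 rl2080) (cond (Nat.beq (Nat.land a 2048) 0) rl1056 rl3104)) (cond (Nat.beq (Nat.land a 1024) 0) (cond (Nat.beq (Nat.land a 2048) 0) rl544 rl2592) (cond (Nat.beq (Nat.land a 2048) 0) rl1568 rl3616))) (cond (Nat.beq (Nat.land a 512) 0) (cond (Nat.beq (Nat.land a 1024) 0) (cond (Nat.beq (Nat.land a 2048) 0) rl288 rl2336) (cond (Nat.beq (Nat.land a 2048) 0) rl1312 rl3360)) (cond (Nat.beq (Nat.land a 1024) 0) (cond (Nat.beq (Nat.land a 2048) 0) rl800 rl2848) (cond (Nat.beq (Nat.land a 2048) 0) rl1824 rl3872))))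

/-- the part of the table that contains a row, by its digits of weight 256 to 2048 -/
noncomputable def sel3_33 (a : ℕ) : ℕ :=
  (cond (Nat.beq (Nat.land a 256) 0) (cond (Nat.beq (Nat.land a 512) 0) (cond (Nat.beq (Nat.land a 1024) 0) (cond (Nat.beq (Nat.land a 2048) 0) rl33 rl2081) (cond (Nat.beq (Nat.land a 2048) 0) rl1057 rl3105)) (cond (Nat.beq (Nat.land a 1024) 0) (cond (Nat.beq (Nat.land a 2048) 0) rl545 rl2593) (cond (Nat.beq (Nat.land a 2048) 0) rl1569 rl3617))) (cond (Nat.beq (Nat.land a 512) 0) (cond (Nat.beq (Nat.land a 1024) 0) (cond (Nat.beq (Nat.land a 2048) 0) rl289 rl2337) (cond (Nat.beq (Nat.land a 2048) 0) rl1313 rl3361)) (cond (Nat.beq (Nat.land a 1024) 0) (cond (Nat.beq (Nat.land a 2048) 0) rl801 rl2849) (cond (Nat.beq (Nat.land a 2048) 0) rl1825 rl3873))))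

/-- the part of the table that contains a row, by its digits of weight 256 to 2048 -/
noncomputable def sel3_34 (a : ℕ) : ℕ :=
  (cond (Nat.beq (Nat.land a 256) 0) (cond (Nat.beq (Nat.land a 512) 0) (cond (Nat.beq (Nat.land a 1024) 0) (cond (Nat.beq (Nat.land a 2048) 0) rl34 rl2082) (cond (Nat.beq (Nat.land a 2048) 0) rl1058 rl3106)) (cond (Nat.beq (Nat.land a 1024) 0) (cond (Nat.beq (Nat.land a 2048) 0) rl546 rl2594) (cond (Nat.beq (Nat.land a 2048) 0) rl1570 rl3618))) (cond (Nat.beq (Nat.land a 512) 0) (cond (Nat.beq (Nat.land a 1024) 0) (cond (Nat.beq (Nat.land a 2048) 0) rl290 rl2338) (cond (Nat.beq (Nat.land a 2048) 0) rl1314 rl3362)) (cond (Nat.beq (Nat.land a 1024) 0) (cond (Nat.beq (Nat.land a 2048) 0) rl802 rl2850) (cond (Nat.beq (Nat.land a 2048) 0) rl1826 rl3874))))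

/-- the part of the table that contains a row, by its digits of weight 256 to 2048 -/
noncomputable def sel3_35 (a : ℕ) : ℕ :=
  (cond (Nat.beq (Nat.land a 256) 0) (cond (Nat.beq (Nat.land a 512) 0) (cond (Nat.beq (Nat.land a 1024) 0) (cond (Nat.beq (Nat.land a 2048) 0) rl35 rl2083) (cond (Nat.beq (Nat.land a 2048) 0) rl1059 rl3107)) (cond (Nat.beq (Nat.land a 1024) 0) (cond (Nat.beq (Nat.land a 2048) 0) rl547 rl2595) (cond (Nat.beq (Nat.land a 2048) 0) rl1571 rl3619))) (cond (Nat.beq (Nat.land a 512) 0) (cond (Nat.beq (Nat.land a 1024) 0) (cond (Nat.beq (Nat.land a 2048) 0) rl291 rl2339) (cond (Nat.beq (Nat.land a 2048) 0) rl1315 rl3363)) (cond (Nat.beq (Nat.land a 1024) 0) (cond (Nat.beq (Nat.land a 2048) 0) rl803 rl2851) (cond (Nat.beq (Nat.land a 2048) 0) rl1827 rl3875))))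

/-- the part of the table that contains a row, by its digits of weight 256 to 2048 -/
noncomputable def sel3_36 (a : ℕ) : ℕ :=
  (cond (Nat.beq (Nat.land a 256) 0) (cond (Nat.beq (Nat.land a 512) 0) (cond (Nat.beq (Nat.land a 1024) 0) (cond (Nat.beq (Nat.land a 2048) 0) rl36 rl2084) (cond (Nat.beq (Nat.land a 2048) 0) rl1060 rl3108)) (cond (Nat.beq (Nat.land a 1024) 0) (cond (Nat.beq (Nat.land a 2048) 0) rl548 rl2596) (cond (Nat.beq (Nat.land a 2048) 0) rl1572 rl3620))) (cond (Nat.beq (Nat.land a 512) 0) (cond (Nat.beq (Nat.land a 1024) 0) (cond (Nat.beq (Nat.land a 2048) 0) rl292 rl2340) (cond (Nat.beq (Nat.land a 2048) 0) rl1316 rl3364)) (cond (Nat.beq (Nat.land a 1024) 0) (cond (Nat.beq (Nat.land a 2048) 0) rl804 rl2852) (cond (Nat.beq (Nat.land a 2048) 0) rl1828 rl3876))))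

/-- the part of the table that contains a row, by its digits of weight 256 to 2048 -/
noncomputable def sel3_37 (a : ℕ) : ℕ :=
  (cond (Nat.beq (Nat.land a 256) 0) (cond (Nat.beq (Nat.land a 512) 0) (cond (Nat.beq (Nat.land a 1024) 0) (cond (Nat.beq (Nat.land a 2048) 0) rl37 rl2085) (cond (Nat.beq (Nat.land a 2048) 0) rl1061 rl3109)) (cond (Nat.beq (Nat.land a 1024) 0) (cond (Nat.beq (Nat.land a 2048) 0) rl549 rl2597) (cond (Nat.beq (Nat.land a 2048) 0) rl1573 rl3621))) (cond (Nat.beq (Nat.land a 512) 0) (cond (Nat.beq (Nat.land a 1024) 0) (cond (Nat.beq (Nat.land a 2048) 0) rl293 rl2341) (cond (Nat.beq (Nat.land a 2048) 0) rl1317 rl3365)) (cond (Nat.beq (Nat.land a 1024) 0) (cond (Nat.beq (Nat.land a 2048) 0) rl805 rl2853) (cond (Nat.beq (Nat.land a 2048) 0) rl1829 rl3877))))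

/-- the part of the table that contains a row, by its digits of weight 256 to 2048 -/
noncomputable def sel3_38 (a : ℕ) : ℕ :=
  (cond (Nat.beq (Nat.land a 256) 0) (cond (Nat.beq (Nat.land a 512) 0) (cond (Nat.beq (Nat.land a 1024) 0) (cond (Nat.beq (Nat.land a 2048) 0) rl38 rl2086) (cond (Nat.beq (Nat.land a 2048) 0) rl1062 rl3110)) (cond (Nat.beq (Nat.land a 1024) 0) (cond (Nat.beq (Nat.land a 2048) 0) rl550 rl2598) (cond (Nat.beq (Nat.land a 2048) 0) rl1574 rl3622))) (cond (Nat.beq (Nat.land a 512) 0) (cond (Nat.beq (Nat.land a 1024) 0) (cond (Nat.beq (Nat.land a 2048) 0) rl294 rl2342) (cond (Nat.beq (Nat.land a 2048) 0) rl1318 rl3366)) (cond (Nat.beq (Nat.land a 1024) 0) (cond (Nat.beq (Nat.land a 2048) 0) rl806 rl2854) (cond (Nat.beq (Nat.land a 2048) 0) rl1830 rl3878))))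

/-- the part of the table that contains a row, by its digits of weight 256 to 2048 -/
noncomputable def sel3_39 (a : ℕ) : ℕ :=
  (cond (Nat.beq (Nat.land a 256) 0) (cond (Nat.beq (Nat.land a 512) 0) (cond (Nat.beq (Nat.land a 1024) 0) (cond (Nat.beq (Nat.land a 2048) 0) rl39 rl2087) (cond (Nat.beq (Nat.land a 2048) 0) rl1063 rl3111)) (cond (Nat.beq (Nat.land a 1024) 0) (cond (Nat.beq (Nat.land a 2048) 0) rl551 rl2599) (cond (Nat.beq (Nat.land a 2048) 0) rl1575 rl3623))) (cond (Nat.beq (Nat.land a 512) 0) (cond (Nat.beq (Nat.land a 1024) 0) (cond (Nat.beq (Nat.land a 2048) 0) rl295 rl2343) (cond (Nat.beq (Nat.land a 2048) 0) rl1319 rl3367)) (cond (Nat.beq (Nat.land a 1024) 0) (cond (Nat.beq (Nat.land a 2048) 0) rl807 rl2855) (cond (Nat.beq (Nat.land a 2048) 0) rl1831 rl3879))))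

/-- the part of the table that contains a row, by its digits of weight 256 to 2048 -/
noncomputable def sel3_40 (a : ℕ) : ℕ :=
  (cond (Nat.beq (Nat.land a 256) 0) (cond (Nat.beq (Nat.land a 512) 0) (cond (Nat.beq (Nat.land a 1024) 0) (cond (Nat.beq (Nat.land a 2048) 0) rl40 rl2088) (cond (Nat.beq (Nat.land a 2048) 0) rl1064 rl3112)) (cond (Nat.beq (Nat.land a 1024) 0) (cond (Nat.beq (Nat.land a 2048) 0) rl552 rl2600) (cond (Nat.beq (Nat.land a 2048) 0) rl1576 rl3624))) (cond (Nat.beq (Nat.land a 512) 0) (cond (Nat.beq (Nat.land a 1024) 0) (cond (Nat.beq (Nat.land a 2048) 0) rl296 rl2344) (cond (Nat.beq (Nat.land a 2048) 0) rl1320 rl3368)) (cond (Nat.beq (Nat.land a 1024) 0) (cond (Nat.beq (Nat.land a 2048) 0) rl808 rl2856) (cond (Nat.beq (Nat.land a 2048) 0) rl1832 rl3880))))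

/-- the part of the table that contains a row, by its digits of weight 256 to 2048 -/
noncomputable def sel3_41 (a : ℕ) : ℕ :=
  (cond (Nat.beq (Nat.land a 256) 0) (cond (Nat.beq (Nat.land a 512) 0) (cond (Nat.beq (Nat.land a 1024) 0) (cond (Nat.beq (Nat.land a 2048) 0) rl41 rl2089) (cond (Nat.beq (Nat.land a 2048) 0) rl1065 rl3113)) (cond (Nat.beq (Nat.land a 1024) 0) (cond (Nat.beq (Nat.land a 2048) 0) rl553 rl2601) (cond (Nat.beq (Nat.land a 2048) 0) rl1577 rl3625))) (cond (Nat.beq (Nat.land a 512) 0) (cond (Nat.beq (Nat.land a 1024) 0) (cond (Nat.beq (Nat.land a 2048) 0) rl297 rl2345) (cond (Nat.beq (Nat.land a 2048) 0) rl1321 rl3369)) (cond (Nat.beq (Nat.land a 1024) 0) (cond (Nat.beq (Nat.land a 2048) 0) rl809 rl2857) (cond (Nat.beq (Nat.land a 2048) 0) rl1833 rl3881))))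

/-- the part of the table that contains a row, by its digits of weight 256 to 2048 -/
noncomputable def sel3_42 (a : ℕ) : ℕ :=
  (cond (Nat.beq (Nat.land a 256) 0) (cond (Nat.beq (Nat.land a 512) 0) (cond (Nat.beq (Nat.land a 1024) 0) (cond (Nat.beq (Nat.land a 2048) 0) rl42 rl2090) (cond (Nat.beq (Nat.land a 2048) 0) rl1066 rl3114)) (cond (Nat.beq (Nat.land a 1024) 0) (cond (Nat.beq (Nat.land a 2048) 0) rl554 rl2602) (cond (Nat.beq (Nat.land a 2048) 0) rl1578 rl3626))) (cond (Nat.beq (Nat.land a 512) 0) (cond (Nat.beq (Nat.land a 1024) 0) (cond (Nat.beq (Nat.land a 2048) 0) rl298 rl2346) (cond (Nat.beq (Nat.land a 2048) 0) rl1322 rl3370)) (cond (Nat.beq (Nat.land a 1024) 0) (cond (Nat.beq (Nat.land a 2048) 0) rl810 rl2858) (cond (Nat.beq (Nat.land a 2048) 0) rl1834 rl3882))))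

/-- the part of the table that contains a row, by its digits of weight 256 to 2048 -/
noncomputable def sel3_43 (a : ℕ) : ℕ :=
  (cond (Nat.beq (Nat.land a 256) 0) (cond (Nat.beq (Nat.land a 512) 0) (cond (Nat.beq (Nat.land a 1024) 0) (cond (Nat.beq (Nat.land a 2048) 0) rl43 rl2091) (cond (Nat.beq (Nat.land a 2048) 0) rl1067 rl3115)) (cond (Nat.beq (Nat.land a 1024) 0) (cond (Nat.beq (Nat.land a 2048) 0) rl555 rl2603) (cond (Nat.beq (Nat.land a 2048) 0) rl1579 rl3627))) (cond (Nat.beq (Nat.land a 512) 0) (cond (Nat.beq (Nat.land a 1024) 0) (cond (Nat.beq (Nat.land a 2048) 0) rl299 rl2347) (cond (Nat.beq (Nat.land a 2048) 0) rl1323 rl3371)) (cond (Nat.beq (Nat.land a 1024) 0) (cond (Nat.beq (Nat.land a 2048) 0) rl811 rl2859) (cond (Nat.beq (Nat.land a 2048) 0) rl1835 rl3883))))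

/-- the part of the table that contains a row, by its digits of weight 256 to 2048 -/
noncomputable def sel3_44 (a : ℕ) : ℕ :=
  (cond (Nat.beq (Nat.land a 256) 0) (cond (Nat.beq (Nat.land a 512) 0) (cond (Nat.beq (Nat.land a 1024) 0) (cond (Nat.beq (Nat.land a 2048) 0) rl44 rl2092) (cond (Nat.beq (Nat.land a 2048) 0) rl1068 rl3116)) (cond (Nat.beq (Nat.land a 1024) 0) (cond (Nat.beq (Nat.land a 2048) 0) rl556 rl2604) (cond (Nat.beq (Nat.land a 2048) 0) rl1580 rl3628))) (cond (Nat.beq (Nat.land a 512) 0) (cond (Nat.beq (Nat.land a 1024) 0) (cond (Nat.beq (Nat.land a 2048) 0) rl300 rl2348) (cond (Nat.beq (Nat.land a 2048) 0) rl1324 rl3372)) (cond (Nat.beq (Nat.land a 1024) 0) (cond (Nat.beq (Nat.land a 2048) 0) rl812 rl2860) (cond (Nat.beq (Nat.land a 2048) 0) rl1836 rl3884))))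

/-- the part of the table that contains a row, by its digits of weight 256 to 2048 -/
noncomputable def sel3_45 (a : ℕ) : ℕ :=
  (cond (Nat.beq (Nat.land a 256) 0) (cond (Nat.beq (Nat.land a 512) 0) (cond (Nat.beq (Nat.land a 1024) 0) (cond (Nat.beq (Nat.land a 2048) 0) rl45 rl2093) (cond (Nat.beq (Nat.land a 2048) 0) rl1069 rl3117)) (cond (Nat.beq (Nat.land a 1024) 0) (cond (Nat.beq (Nat.land a 2048) 0) rl557 rl2605) (cond (Nat.beq (Nat.land a 2048) 0) rl1581 rl3629))) (cond (Nat.beq (Nat.land a 512) 0) (cond (Nat.beq (Nat.land a 1024) 0) (cond (Nat.beq (Nat.land a 2048) 0) rl301 rl2349) (cond (Nat.beq (Nat.land a 2048) 0) rl1325 rl3373)) (cond (Nat.beq (Nat.land a 1024) 0) (cond (Nat.beq (Nat.land a 2048) 0) rl813 rl2861) (cond (Nat.beq (Nat.land a 2048) 0) rl1837 rl3885))))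

/-- the part of the table that contains a row, by its digits of weight 256 to 2048 -/
noncomputable def sel3_46 (a : ℕ) : ℕ :=
  (cond (Nat.beq (Nat.land a 256) 0) (cond (Nat.beq (Nat.land a 512) 0) (cond (Nat.beq (Nat.land a 1024) 0) (cond (Nat.beq (Nat.land a 2048) 0) rl46 rl2094) (cond (Nat.beq (Nat.land a 2048) 0) rl1070 rl3118)) (cond (Nat.beq (Nat.land a 1024) 0) (cond (Nat.beq (Nat.land a 2048) 0) rl558 rl2606) (cond (Nat.beq (Nat.land a 2048) 0) rl1582 rl3630))) (cond (Nat.beq (Nat.land a 512) 0) (cond (Nat.beq (Nat.land a 1024) 0) (cond (Nat.beq (Nat.land a 2048) 0) rl302 rl2350) (cond (Nat.beq (Nat.land a 2048) 0) rl1326 rl3374)) (cond (Nat.beq (Nat.land a 1024) 0) (cond (Nat.beq (Nat.land a 2048) 0) rl814 rl2862) (cond (Nat.beq (Nat.land a 2048) 0) rl1838 rl3886))))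

/-- the part of the table that contains a row, by its digits of weight 256 to 2048 -/
noncomputable def sel3_47 (a : ℕ) : ℕ :=
  (cond (Nat.beq (Nat.land a 256) 0) (cond (Nat.beq (Nat.land a 512) 0) (cond (Nat.beq (Nat.land a 1024) 0) (cond (Nat.beq (Nat.land a 2048) 0) rl47 rl2095) (cond (Nat.beq (Nat.land a 2048) 0) rl1071 rl3119)) (cond (Nat.beq (Nat.land a 1024) 0) (cond (Nat.beq (Nat.land a 2048) 0) rl559 rl2607) (cond (Nat.beq (Nat.land a 2048) 0) rl1583 rl3631))) (cond (Nat.beq (Nat.land a 512) 0) (cond (Nat.beq (Nat.land a 1024) 0) (cond (Nat.beq (Nat.land a 2048) 0) rl303 rl2351) (cond (Nat.beq (Nat.land a 2048) 0) rl1327 rl3375)) (cond (Nat.beq (Nat.land a 1024) 0) (cond (Nat.beq (Nat.land a 2048) 0) rl815 rl2863) (cond (Nat.beq (Nat.land a 2048) 0) rl1839 rl3887))))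

/-- the part of the table that contains a row, by its digits of weight 256 to 2048 -/
noncomputable def sel3_48 (a : ℕ) : ℕ :=
  (cond (Nat.beq (Nat.land a 256) 0) (cond (Nat.beq (Nat.land a 512) 0) (cond (Nat.beq (Nat.land a 1024) 0) (cond (Nat.beq (Nat.land a 2048) 0) rl48 rl2096) (cond (Nat.beq (Nat.land a 2048) 0) rl1072 rl3120)) (cond (Nat.beq (Nat.land a 1024) 0) (cond (Nat.beq (Nat.land a 2048) 0) rl560 rl2608) (cond (Nat.beq (Nat.land a 2048) 0) rl1584 rl3632))) (cond (Nat.beq (Nat.land a 512) 0) (cond (Nat.beq (Nat.land a 1024) 0) (cond (Nat.beq (Nat.land a 2048) 0) rl304 rl2352) (cond (Nat.beq (Nat.land a 2048) 0) rl1328 rl3376)) (cond (Nat.beq (Nat.land a 1024) 0) (cond (Nat.beq (Nat.land a 2048) 0) rl816 rl2864) (cond (Nat.beq (Nat.land a 2048) 0) rl1840 rl3888))))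

/-- the part of the table that contains a row, by its digits of weight 256 to 2048 -/
noncomputable def sel3_49 (a : ℕ) : ℕ :=
  (cond (Nat.beq (Nat.land a 256) 0) (cond (Nat.beq (Nat.land a 512) 0) (cond (Nat.beq (Nat.land a 1024) 0) (cond (Nat.beq (Nat.land a 2048) 0) rl49 rl2097) (cond (Nat.beq (Nat.land a 2048) 0) rl1073 rl3121)) (cond (Nat.beq (Nat.land a 1024) 0) (cond (Nat.beq (Nat.land a 2048) 0) rl561 rl2609) (cond (Nat.beq (Nat.land a 2048) 0) rl1585 rl3633))) (cond (Nat.beq (Nat.land a 512) 0) (cond (Nat.beq (Nat.land a 1024) 0) (cond (Nat.beq (Nat.land a 2048) 0) rl305 rl2353) (cond (Nat.beq (Nat.land a 2048) 0) rl1329 rl3377)) (cond (Nat.beq (Nat.land a 1024) 0) (cond (Nat.beq (Nat.land a 2048) 0) rl817 rl2865) (cond (Nat.beq (Nat.land a 2048) 0) rl1841 rl3889))))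

/-- the part of the table that contains a row, by its digits of weight 256 to 2048 -/
noncomputable def sel3_50 (a : ℕ) : ℕ :=
  (cond (Nat.beq (Nat.land a 256) 0) (cond (Nat.beq (Nat.land a 512) 0) (cond (Nat.beq (Nat.land a 1024) 0) (cond (Nat.beq (Nat.land a 2048) 0) rl50 rl2098) (cond (Nat.beq (Nat.land a 2048) 0) rl1074 rl3122)) (cond (Nat.beq (Nat.land a 1024) 0) (cond (Nat.beq (Nat.land a 2048) 0) rl562 rl2610) (cond (Nat.beq (Nat.land a 2048) 0) rl1586 rl3634))) (cond (Nat.beq (Nat.land a 512) 0) (cond (Nat.beq (Nat.land a 1024) 0) (cond (Nat.beq (Nat.land a 2048) 0) rl306 rl2354) (cond (Nat.beq (Nat.land a 2048) 0) rl1330 rl3378)) (cond (Nat.beq (Nat.land a 1024) 0) (cond (Nat.beq (Nat.land a 2048) 0) rl818 rl2866) (cond (Nat.beq (Nat.land a 2048) 0) rl1842 rl3890))))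

/-- the part of the table that contains a row, by its digits of weight 256 to 2048 -/
noncomputable def sel3_51 (a : ℕ) : ℕ :=
  (cond (Nat.beq (Nat.land a 256) 0) (cond (Nat.beq (Nat.land a 512) 0) (cond (Nat.beq (Nat.land a 1024) 0) (cond (Nat.beq (Nat.land a 2048) 0) rl51 rl2099) (cond (Nat.beq (Nat.land a 2048) 0) rl1075 rl3123)) (cond (Nat.beq (Nat.land a 1024) 0) (cond (Nat.beq (Nat.land a 2048) 0) rl563 rl2611) (cond (Nat.beq (Nat.land a 2048) 0) rl1587 rl3635))) (cond (Nat.beq (Nat.land a 512) 0) (cond (Nat.beq (Nat.land a 1024) 0) (cond (Nat.beq (Nat.land a 2048) 0) rl307 rl2355) (cond (Nat.beq (Nat.land a 2048) 0) rl1331 rl3379)) (cond (Nat.beq (Nat.land a 1024) 0) (cond (Nat.beq (Nat.land a 2048) 0) rl819 rl2867) (cond (Nat.beq (Nat.land a 2048) 0) rl1843 rl3891))))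

/-- the part of the table that contains a row, by its digits of weight 256 to 2048 -/
noncomputable def sel3_52 (a : ℕ) : ℕ :=
  (cond (Nat.beq (Nat.land a 256) 0) (cond (Nat.beq (Nat.land a 512) 0) (cond (Nat.beq (Nat.land a 1024) 0) (cond (Nat.beq (Nat.land a 2048) 0) rl52 rl2100) (cond (Nat.beq (Nat.land a 2048) 0) rl1076 rl3124)) (cond (Nat.beq (Nat.land a 1024) 0) (cond (Nat.beq (Nat.land a 2048) 0) rl564 rl2612) (cond (Nat.beq (Nat.land a 2048) 0) rl1588 rl3636))) (cond (Nat.beq (Nat.land a 512) 0) (cond (Nat.beq (Nat.land a 1024) 0) (cond (Nat.beq (Nat.land a 2048) 0) rl308 rl2356) (cond (Nat.beq (Nat.land a 2048) 0) rl1332 rl3380)) (cond (Nat.beq (Nat.land a 1024) 0) (cond (Nat.beq (Nat.land a 2048) 0) rl820 rl2868) (cond (Nat.beq (Nat.land a 2048) 0) rl1844 rl3892))))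

/-- the part of the table that contains a row, by its digits of weight 256 to 2048 -/
noncomputable def sel3_53 (a : ℕ) : ℕ :=
  (cond (Nat.beq (Nat.land a 256) 0) (cond (Nat.beq (Nat.land a 512) 0) (cond (Nat.beq (Nat.land a 1024) 0) (cond (Nat.beq (Nat.land a 2048) 0) rl53 rl2101) (cond (Nat.beq (Nat.land a 2048) 0) rl1077 rl3125)) (cond (Nat.beq (Nat.land a 1024) 0) (cond (Nat.beq (Nat.land a 2048) 0) rl565 rl2613) (cond (Nat.beq (Nat.land a 2048) 0) rl1589 rl3637))) (cond (Nat.beq (Nat.land a 512) 0) (cond (Nat.beq (Nat.land a 1024) 0) (cond (Nat.beq (Nat.land a 2048) 0) rl309 rl2357) (cond (Nat.beq (Nat.land a 2048) 0) rl1333 rl3381)) (cond (Nat.beq (Nat.land a 1024) 0) (cond (Nat.beq (Nat.land a 2048) 0) rl821 rl2869) (cond (Nat.beq (Nat.land a 2048) 0) rl1845 rl3893))))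

/-- the part of the table that contains a row, by its digits of weight 256 to 2048 -/
noncomputable def sel3_54 (a : ℕ) : ℕ :=
  (cond (Nat.beq (Nat.land a 256) 0) (cond (Nat.beq (Nat.land a 512) 0) (cond (Nat.beq (Nat.land a 1024) 0) (cond (Nat.beq (Nat.land a 2048) 0) rl54 rl2102) (cond (Nat.beq (Nat.land a 2048) 0) rl1078 rl3126)) (cond (Nat.beq (Nat.land a 1024) 0) (cond (Nat.beq (Nat.land a 2048) 0) rl566 rl2614) (cond (Nat.beq (Nat.land a 2048) 0) rl1590 rl3638))) (cond (Nat.beq (Nat.land a 512) 0) (cond (Nat.beq (Nat.land a 1024) 0) (cond (Nat.beq (Nat.land a 2048) 0) rl310 rl2358) (cond (Nat.beq (Nat.land a 2048) 0) rl1334 rl3382)) (cond (Nat.beq (Nat.land a 1024) 0) (cond (Nat.beq (Nat.land a 2048) 0) rl822 rl2870) (cond (Nat.beq (Nat.land a 2048) 0) rl1846 rl3894))))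

/-- the part of the table that contains a row, by its digits of weight 256 to 2048 -/
noncomputable def sel3_55 (a : ℕ) : ℕ :=
  (cond (Nat.beq (Nat.land a 256) 0) (cond (Nat.beq (Nat.land a 512) 0) (cond (Nat.beq (Nat.land a 1024) 0) (cond (Nat.beq (Nat.land a 2048) 0) rl55 rl2103) (cond (Nat.beq (Nat.land a 2048) 0) rl1079 rl3127)) (cond (Nat.beq (Nat.land a 1024) 0) (cond (Nat.beq (Nat.land a 2048) 0) rl567 rl2615) (cond (Nat.beq (Nat.land a 2048) 0) rl1591 rl3639))) (cond (Nat.beq (Nat.land a 512) 0) (cond (Nat.beq (Nat.land a 1024) 0) (cond (Nat.beq (Nat.land a 2048) 0) rl311 rl2359) (cond (Nat.beq (Nat.land a 2048) 0) rl1335 rl3383)) (cond (Nat.beq (Nat.land a 1024) 0) (cond (Nat.beq (Nat.land a 2048) 0) rl823 rl2871) (cond (Nat.beq (Nat.land a 2048) 0) rl1847 rl3895))))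

/-- the part of the table that contains a row, by its digits of weight 256 to 2048 -/
noncomputable def sel3_56 (a : ℕ) : ℕ :=
  (cond (Nat.beq (Nat.land a 256) 0) (cond (Nat.beq (Nat.land a 512) 0) (cond (Nat.beq (Nat.land a 1024) 0) (cond (Nat.beq (Nat.land a 2048) 0) rl56 rl2104) (cond (Nat.beq (Nat.land a 2048) 0) rl1080 rl3128)) (cond (Nat.beq (Nat.land a 1024) 0) (cond (Nat.beq (Nat.land a 2048) 0) rl568 rl2616) (cond (Nat.beq (Nat.land a 2048) 0) rl1592 rl3640))) (cond (Nat.beq (Nat.land a 512) 0) (cond (Nat.beq (Nat.land a 1024) 0) (cond (Nat.beq (Nat.land a 2048) 0) rl312 rl2360) (cond (Nat.beq (Nat.land a 2048) 0) rl1336 rl3384)) (cond (Nat.beq (Nat.land a 1024) 0) (cond (Nat.beq (Nat.land a 2048) 0) rl824 rl2872) (cond (Nat.beq (Nat.land a 2048) 0) rl1848 rl3896))))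

/-- the part of the table that contains a row, by its digits of weight 256 to 2048 -/
noncomputable def sel3_57 (a : ℕ) : ℕ :=
  (cond (Nat.beq (Nat.land a 256) 0) (cond (Nat.beq (Nat.land a 512) 0) (cond (Nat.beq (Nat.land a 1024) 0) (cond (Nat.beq (Nat.land a 2048) 0) rl57 rl2105) (cond (Nat.beq (Nat.land a 2048) 0) rl1081 rl3129)) (cond (Nat.beq (Nat.land a 1024) 0) (cond (Nat.beq (Nat.land a 2048) 0) rl569 rl2617) (cond (Nat.beq (Nat.land a 2048) 0) rl1593 rl3641))) (cond (Nat.beq (Nat.land a 512) 0) (cond (Nat.beq (Nat.land a 1024) 0) (cond (Nat.beq (Nat.land a 2048) 0) rl313 rl2361) (cond (Nat.beq (Nat.land a 2048) 0) rl1337 rl3385)) (cond (Nat.beq (Nat.land a 1024) 0) (cond (Nat.beq (Nat.land a 2048) 0) rl825 rl2873) (cond (Nat.beq (Nat.land a 2048) 0) rl1849 rl3897))))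

/-- the part of the table that contains a row, by its digits of weight 256 to 2048 -/
noncomputable def sel3_58 (a : ℕ) : ℕ :=
  (cond (Nat.beq (Nat.land a 256) 0) (cond (Nat.beq (Nat.land a 512) 0) (cond (Nat.beq (Nat.land a 1024) 0) (cond (Nat.beq (Nat.land a 2048) 0) rl58 rl2106) (cond (Nat.beq (Nat.land a 2048) 0) rl1082 rl3130)) (cond (Nat.beq (Nat.land a 1024) 0) (cond (Nat.beq (Nat.land a 2048) 0) rl570 rl2618) (cond (Nat.beq (Nat.land a 2048) 0) rl1594 rl3642))) (cond (Nat.beq (Nat.land a 512) 0) (cond (Nat.beq (Nat.land a 1024) 0) (cond (Nat.beq (Nat.land a 2048) 0) rl314 rl2362) (cond (Nat.beq (Nat.land a 2048) 0) rl1338 rl3386)) (cond (Nat.beq (Nat.land a 1024) 0) (cond (Nat.beq (Nat.land a 2048) 0) rl826 rl2874) (cond (Nat.beq (Nat.land a 2048) 0) rl1850 rl3898))))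

/-- the part of the table that contains a row, by its digits of weight 256 to 2048 -/
noncomputable def sel3_59 (a : ℕ) : ℕ :=
  (cond (Nat.beq (Nat.land a 256) 0) (cond (Nat.beq (Nat.land a 512) 0) (cond (Nat.beq (Nat.land a 1024) 0) (cond (Nat.beq (Nat.land a 2048) 0) rl59 rl2107) (cond (Nat.beq (Nat.land a 2048) 0) rl1083 rl3131)) (cond (Nat.beq (Nat.land a 1024) 0) (cond (Nat.beq (Nat.land a 2048) 0) rl571 rl2619) (cond (Nat.beq (Nat.land a 2048) 0) rl1595 rl3643))) (cond (Nat.beq (Nat.land a 512) 0) (cond (Nat.beq (Nat.land a 1024) 0) (cond (Nat.beq (Nat.land a 2048) 0) rl315 rl2363) (cond (Nat.beq (Nat.land a 2048) 0) rl1339 rl3387)) (cond (Nat.beq (Nat.land a 1024) 0) (cond (Nat.beq (Nat.land a 2048) 0) rl827 rl2875) (cond (Nat.beq (Nat.land a 2048) 0) rl1851 rl3899))))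

/-- the part of the table that contains a row, by its digits of weight 256 to 2048 -/
noncomputable def sel3_60 (a : ℕ) : ℕ :=
  (cond (Nat.beq (Nat.land a 256) 0) (cond (Nat.beq (Nat.land a 512) 0) (cond (Nat.beq (Nat.land a 1024) 0) (cond (Nat.beq (Nat.land a 2048) 0) rl60 rl2108) (cond (Nat.beq (Nat.land a 2048) 0) rl1084 rl3132)) (cond (Nat.beq (Nat.land a 1024) 0) (cond (Nat.beq (Nat.land a 2048) 0) rl572 rl2620) (cond (Nat.beq (Nat.land a 2048) 0) rl1596 rl3644))) (cond (Nat.beq (Nat.land a 512) 0) (cond (Nat.beq (Nat.land a 1024) 0) (cond (Nat.beq (Nat.land a 2048) 0) rl316 rl2364) (cond (Nat.beq (Nat.land a 2048) 0) rl1340 rl3388)) (cond (Nat.beq (Nat.land a 1024) 0) (cond (Nat.beq (Nat.land a 2048) 0) rl828 rl2876) (cond (Nat.beq (Nat.land a 2048) 0) rl1852 rl3900))))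

/-- the part of the table that contains a row, by its digits of weight 256 to 2048 -/
noncomputable def sel3_61 (a : ℕ) : ℕ :=
  (cond (Nat.beq (Nat.land a 256) 0) (cond (Nat.beq (Nat.land a 512) 0) (cond (Nat.beq (Nat.land a 1024) 0) (cond (Nat.beq (Nat.land a 2048) 0) rl61 rl2109) (cond (Nat.beq (Nat.land a 2048) 0) rl1085 rl3133)) (cond (Nat.beq (Nat.land a 1024) 0) (cond (Nat.beq (Nat.land a 2048) 0) rl573 rl2621) (cond (Nat.beq (Nat.land a 2048) 0) rl1597 rl3645))) (cond (Nat.beq (Nat.land a 512) 0) (cond (Nat.beq (Nat.land a 1024) 0) (cond (Nat.beq (Nat.land a 2048) 0) rl317 rl2365) (cond (Nat.beq (Nat.land a 2048) 0) rl1341 rl3389)) (cond (Nat.beq (Nat.land a 1024) 0) (cond (Nat.beq (Nat.land a 2048) 0) rl829 rl2877) (cond (Nat.beq (Nat.land a 2048) 0) rl1853 rl3901))))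

/-- the part of the table that contains a row, by its digits of weight 256 to 2048 -/
noncomputable def sel3_62 (a : ℕ) : ℕ :=
  (cond (Nat.beq (Nat.land a 256) 0) (cond (Nat.beq (Nat.land a 512) 0) (cond (Nat.beq (Nat.land a 1024) 0) (cond (Nat.beq (Nat.land a 2048) 0) rl62 rl2110) (cond (Nat.beq (Nat.land a 2048) 0) rl1086 rl3134)) (cond (Nat.beq (Nat.land a 1024) 0) (cond (Nat.beq (Nat.land a 2048) 0) rl574 rl2622) (cond (Nat.beq (Nat.land a 2048) 0) rl1598 rl3646))) (cond (Nat.beq (Nat.land a 512) 0) (cond (Nat.beq (Nat.land a 1024) 0) (cond (Nat.beq (Nat.land a 2048) 0) rl318 rl2366) (cond (Nat.beq (Nat.land a 2048) 0) rl1342 rl3390)) (cond (Nat.beq (Nat.land a 1024) 0) (cond (Nat.beq (Nat.land a 2048) 0) rl830 rl2878) (cond (Nat.beq (Nat.land a 2048) 0) rl1854 rl3902))))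

/-- the part of the table that contains a row, by its digits of weight 256 to 2048 -/
noncomputable def sel3_63 (a : ℕ) : ℕ :=
  (cond (Nat.beq (Nat.land a 256) 0) (cond (Nat.beq (Nat.land a 512) 0) (cond (Nat.beq (Nat.land a 1024) 0) (cond (Nat.beq (Nat.land a 2048) 0) rl63 rl2111) (cond (Nat.beq (Nat.land a 2048) 0) rl1087 rl3135)) (cond (Nat.beq (Nat.land a 1024) 0) (cond (Nat.beq (Nat.land a 2048) 0) rl575 rl2623) (cond (Nat.beq (Nat.land a 2048) 0) rl1599 rl3647))) (cond (Nat.beq (Nat.land a 512) 0) (cond (Nat.beq (Nat.land a 1024) 0) (cond (Nat.beq (Nat.land a 2048) 0) rl319 rl2367) (cond (Nat.beq (Nat.land a 2048) 0) rl1343 rl3391)) (cond (Nat.beq (Nat.land a 1024) 0) (cond (Nat.beq (Nat.land a 2048) 0) rl831 rl2879) (cond (Nat.beq (Nat.land a 2048) 0) rl1855 rl3903))))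

/-- the part of the table that contains a row, by its digits of weight 256 to 2048 -/
noncomputable def sel3_64 (a : ℕ) : ℕ :=
  (cond (Nat.beq (Nat.land a 256) 0) (cond (Nat.beq (Nat.land a 512) 0) (cond (Nat.beq (Nat.land a 1024) 0) (cond (Nat.beq (Nat.land a 2048) 0) rl64 rl2112) (cond (Nat.beq (Nat.land a 2048) 0) rl1088 rl3136)) (cond (Nat.beq (Nat.land a 1024) 0) (cond (Nat.beq (Nat.land a 2048) 0) rl576 rl2624) (cond (Nat.beq (Nat.land a 2048) 0) rl1600 rl3648))) (cond (Nat.beq (Nat.land a 512) 0) (cond (Nat.beq (Nat.land a 1024) 0) (cond (Nat.beq (Nat.land a 2048) 0) rl320 rl2368) (cond (Nat.beq (Nat.land a 2048) 0) rl1344 rl3392)) (cond (Nat.beq (Nat.land a 1024) 0) (cond (Nat.beq (Nat.land a 2048) 0) rl832 rl2880) (cond (Nat.beq (Nat.land a 2048) 0) rl1856 rl3904))))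

/-- the part of the table that contains a row, by its digits of weight 256 to 2048 -/
noncomputable def sel3_65 (a : ℕ) : ℕ :=
  (cond (Nat.beq (Nat.land a 256) 0) (cond (Nat.beq (Nat.land a 512) 0) (cond (Nat.beq (Nat.land a 1024) 0) (cond (Nat.beq (Nat.land a 2048) 0) rl65 rl2113) (cond (Nat.beq (Nat.land a 2048) 0) rl1089 rl3137)) (cond (Nat.beq (Nat.land a 1024) 0) (cond (Nat.beq (Nat.land a 2048) 0) rl577 rl2625) (cond (Nat.beq (Nat.land a 2048) 0) rl1601 rl3649))) (cond (Nat.beq (Nat.land a 512) 0) (cond (Nat.beq (Nat.land a 1024) 0) (cond (Nat.beq (Nat.land a 2048) 0) rl321 rl2369) (cond (Nat.beq (Nat.land a 2048) 0) rl1345 rl3393)) (cond (Nat.beq (Nat.land a 1024) 0) (cond (Nat.beq (Nat.land a 2048) 0) rl833 rl2881) (cond (Nat.beq (Nat.land a 2048) 0) rl1857 rl3905))))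

/-- the part of the table that contains a row, by its digits of weight 256 to 2048 -/
noncomputable def sel3_66 (a : ℕ) : ℕ :=
  (cond (Nat.beq (Nat.land a 256) 0) (cond (Nat.beq (Nat.land a 512) 0) (cond (Nat.beq (Nat.land a 1024) 0) (cond (Nat.beq (Nat.land a 2048) 0) rl66 rl2114) (cond (Nat.beq (Nat.land a 2048) 0) rl1090 rl3138)) (cond (Nat.beq (Nat.land a 1024) 0) (cond (Nat.beq (Nat.land a 2048) 0) rl578 rl2626) (cond (Nat.beq (Nat.land a 2048) 0) rl1602 rl3650))) (cond (Nat.beq (Nat.land a 512) 0) (cond (Nat.beq (Nat.land a 1024) 0) (cond (Nat.beq (Nat.land a 2048) 0) rl322 rl2370) (cond (Nat.beq (Nat.land a 2048) 0) rl1346 rl3394)) (cond (Nat.beq (Nat.land a 1024) 0) (cond (Nat.beq (Nat.land a 2048) 0) rl834 rl2882) (cond (Nat.beq (Nat.land a 2048) 0) rl1858 rl3906))))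

/-- the part of the table that contains a row, by its digits of weight 256 to 2048 -/
noncomputable def sel3_67 (a : ℕ) : ℕ :=
  (cond (Nat.beq (Nat.land a 256) 0) (cond (Nat.beq (Nat.land a 512) 0) (cond (Nat.beq (Nat.land a 1024) 0) (cond (Nat.beq (Nat.land a 2048) 0) rl67 rl2115) (cond (Nat.beq (Nat.land a 2048) 0) rl1091 rl3139)) (cond (Nat.beq (Nat.land a 1024) 0) (cond (Nat.beq (Nat.land a 2048) 0) rl579 rl2627) (cond (Nat.beq (Nat.land a 2048) 0) rl1603 rl3651))) (cond (Nat.beq (Nat.land a 512) 0) (cond (Nat.beq (Nat.land a 1024) 0) (cond (Nat.beq (Nat.land a 2048) 0) rl323 rl2371) (cond (Nat.beq (Nat.land a 2048) 0) rl1347 rl3395)) (cond (Nat.beq (Nat.land a 1024) 0) (cond (Nat.beq (Nat.land a 2048) 0) rl835 rl2883) (cond (Nat.beq (Nat.land a 2048) 0) rl1859 rl3907))))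

/-- the part of the table that contains a row, by its digits of weight 256 to 2048 -/
noncomputable def sel3_68 (a : ℕ) : ℕ :=
  (cond (Nat.beq (Nat.land a 256) 0) (cond (Nat.beq (Nat.land a 512) 0) (cond (Nat.beq (Nat.land a 1024) 0) (cond (Nat.beq (Nat.land a 2048) 0) rl68 rl2116) (cond (Nat.beq (Nat.land a 2048) 0) rl1092 rl3140)) (cond (Nat.beq (Nat.land a 1024) 0) (cond (Nat.beq (Nat.land a 2048) 0) rl580 rl2628) (cond (Nat.beq (Nat.land a 2048) 0) rl1604 rl3652))) (cond (Nat.beq (Nat.land a 512) 0) (cond (Nat.beq (Nat.land a 1024) 0) (cond (Nat.beq (Nat.land a 2048) 0) rl324 rl2372) (cond (Nat.beq (Nat.land a 2048) 0) rl1348 rl3396)) (cond (Nat.beq (Nat.land a 1024) 0) (cond (Nat.beq (Nat.land a 2048) 0) rl836 rl2884) (cond (Nat.beq (Nat.land a 2048) 0) rl1860 rl3908))))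

/-- the part of the table that contains a row, by its digits of weight 256 to 2048 -/
noncomputable def sel3_69 (a : ℕ) : ℕ :=
  (cond (Nat.beq (Nat.land a 256) 0) (cond (Nat.beq (Nat.land a 512) 0) (cond (Nat.beq (Nat.land a 1024) 0) (cond (Nat.beq (Nat.land a 2048) 0) rl69 rl2117) (cond (Nat.beq (Nat.land a 2048) 0) rl1093 rl3141)) (cond (Nat.beq (Nat.land a 1024) 0) (cond (Nat.beq (Nat.land a 2048) 0) rl581 rl2629) (cond (Nat.beq (Nat.land a 2048) 0) rl1605 rl3653))) (cond (Nat.beq (Nat.land a 512) 0) (cond (Nat.beq (Nat.land a 1024) 0) (cond (Nat.beq (Nat.land a 2048) 0) rl325 rl2373) (cond (Nat.beq (Nat.land a 2048) 0) rl1349 rl3397)) (cond (Nat.beq (Nat.land a 1024) 0) (cond (Nat.beq (Nat.land a 2048) 0) rl837 rl2885) (cond (Nat.beq (Nat.land a 2048) 0) rl1861 rl3909))))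

/-- the part of the table that contains a row, by its digits of weight 256 to 2048 -/
noncomputable def sel3_70 (a : ℕ) : ℕ :=
  (cond (Nat.beq (Nat.land a 256) 0) (cond (Nat.beq (Nat.land a 512) 0) (cond (Nat.beq (Nat.land a 1024) 0) (cond (Nat.beq (Nat.land a 2048) 0) rl70 rl2118) (cond (Nat.beq (Nat.land a 2048) 0) rl1094 rl3142)) (cond (Nat.beq (Nat.land a 1024) 0) (cond (Nat.beq (Nat.land a 2048) 0) rl582 rl2630) (cond (Nat.beq (Nat.land a 2048) 0) rl1606 rl3654))) (cond (Nat.beq (Nat.land a 512) 0) (cond (Nat.beq (Nat.land a 1024) 0) (cond (Nat.beq (Nat.land a 2048) 0) rl326 rl2374) (cond (Nat.beq (Nat.land a 2048) 0) rl1350 rl3398)) (cond (Nat.beq (Nat.land a 1024) 0) (cond (Nat.beq (Nat.land a 2048) 0) rl838 rl2886) (cond (Nat.beq (Nat.land a 2048) 0) rl1862 rl3910))))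

/-- the part of the table that contains a row, by its digits of weight 256 to 2048 -/
noncomputable def sel3_71 (a : ℕ) : ℕ :=
  (cond (Nat.beq (Nat.land a 256) 0) (cond (Nat.beq (Nat.land a 512) 0) (cond (Nat.beq (Nat.land a 1024) 0) (cond (Nat.beq (Nat.land a 2048) 0) rl71 rl2119) (cond (Nat.beq (Nat.land a 2048) 0) rl1095 rl3143)) (cond (Nat.beq (Nat.land a 1024) 0) (cond (Nat.beq (Nat.land a 2048) 0) rl583 rl2631) (cond (Nat.beq (Nat.land a 2048) 0) rl1607 rl3655))) (cond (Nat.beq (Nat.land a 512) 0) (cond (Nat.beq (Nat.land a 1024) 0) (cond (Nat.beq (Nat.land a 2048) 0) rl327 rl2375) (cond (Nat.beq (Nat.land a 2048) 0) rl1351 rl3399)) (cond (Nat.beq (Nat.land a 1024) 0) (cond (Nat.beq (Nat.land a 2048) 0) rl839 rl2887) (cond (Nat.beq (Nat.land a 2048) 0) rl1863 rl3911))))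

/-- the part of the table that contains a row, by its digits of weight 256 to 2048 -/
noncomputable def sel3_72 (a : ℕ) : ℕ :=
  (cond (Nat.beq (Nat.land a 256) 0) (cond (Nat.beq (Nat.land a 512) 0) (cond (Nat.beq (Nat.land a 1024) 0) (cond (Nat.beq (Nat.land a 2048) 0) rl72 rl2120) (cond (Nat.beq (Nat.land a 2048) 0) rl1096 rl3144)) (cond (Nat.beq (Nat.land a 1024) 0) (cond (Nat.beq (Nat.land a 2048) 0) rl584 rl2632) (cond (Nat.beq (Nat.land a 2048) 0) rl1608 rl3656))) (cond (Nat.beq (Nat.land a 512) 0) (cond (Nat.beq (Nat.land a 1024) 0) (cond (Nat.beq (Nat.land a 2048) 0) rl328 rl2376) (cond (Nat.beq (Nat.land a 2048) 0) rl1352 rl3400)) (cond (Nat.beq (Nat.land a 1024) 0) (cond (Nat.beq (Nat.land a 2048) 0) rl840 rl2888) (cond (Nat.beq (Nat.land a 2048) 0) rl1864 rl3912))))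

/-- the part of the table that contains a row, by its digits of weight 256 to 2048 -/
noncomputable def sel3_73 (a : ℕ) : ℕ :=
  (cond (Nat.beq (Nat.land a 256) 0) (cond (Nat.beq (Nat.land a 512) 0) (cond (Nat.beq (Nat.land a 1024) 0) (cond (Nat.beq (Nat.land a 2048) 0) rl73 rl2121) (cond (Nat.beq (Nat.land a 2048) 0) rl1097 rl3145)) (cond (Nat.beq (Nat.land a 1024) 0) (cond (Nat.beq (Nat.land a 2048) 0) rl585 rl2633) (cond (Nat.beq (Nat.land a 2048) 0) rl1609 rl3657))) (cond (Nat.beq (Nat.land a 512) 0) (cond (Nat.beq (Nat.land a 1024) 0) (cond (Nat.beq (Nat.land a 2048) 0) rl329 rl2377) (cond (Nat.beq (Nat.land a 2048) 0) rl1353 rl3401)) (cond (Nat.beq (Nat.land a 1024) 0) (cond (Nat.beq (Nat.land a 2048) 0) rl841 rl2889) (cond (Nat.beq (Nat.land a 2048) 0) rl1865 rl3913))))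

/-- the part of the table that contains a row, by its digits of weight 256 to 2048 -/
noncomputable def sel3_74 (a : ℕ) : ℕ :=
  (cond (Nat.beq (Nat.land a 256) 0) (cond (Nat.beq (Nat.land a 512) 0) (cond (Nat.beq (Nat.land a 1024) 0) (cond (Nat.beq (Nat.land a 2048) 0) rl74 rl2122) (cond (Nat.beq (Nat.land a 2048) 0) rl1098 rl3146)) (cond (Nat.beq (Nat.land a 1024) 0) (cond (Nat.beq (Nat.land a 2048) 0) rl586 rl2634) (cond (Nat.beq (Nat.land a 2048) 0) rl1610 rl3658))) (cond (Nat.beq (Nat.land a 512) 0) (cond (Nat.beq (Nat.land a 1024) 0) (cond (Nat.beq (Nat.land a 2048) 0) rl330 rl2378) (cond (Nat.beq (Nat.land a 2048) 0) rl1354 rl3402)) (cond (Nat.beq (Nat.land a 1024) 0) (cond (Nat.beq (Nat.land a 2048) 0) rl842 rl2890) (cond (Nat.beq (Nat.land a 2048) 0) rl1866 rl3914))))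

/-- the part of the table that contains a row, by its digits of weight 256 to 2048 -/
noncomputable def sel3_75 (a : ℕ) : ℕ :=
  (cond (Nat.beq (Nat.land a 256) 0) (cond (Nat.beq (Nat.land a 512) 0) (cond (Nat.beq (Nat.land a 1024) 0) (cond (Nat.beq (Nat.land a 2048) 0) rl75 rl2123) (cond (Nat.beq (Nat.land a 2048) 0) rl1099 rl3147)) (cond (Nat.beq (Nat.land a 1024) 0) (cond (Nat.beq (Nat.land a 2048) 0) rl587 rl2635) (cond (Nat.beq (Nat.land a 2048) 0) rl1611 rl3659))) (cond (Nat.beq (Nat.land a 512) 0) (cond (Nat.beq (Nat.land a 1024) 0) (cond (Nat.beq (Nat.land a 2048) 0) rl331 rl2379) (cond (Nat.beq (Nat.land a 2048) 0) rl1355 rl3403)) (cond (Nat.beq (Nat.land a 1024) 0) (cond (Nat.beq (Nat.land a 2048) 0) rl843 rl2891) (cond (Nat.beq (Nat.land a 2048) 0) rl1867 rl3915))))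

/-- the part of the table that contains a row, by its digits of weight 256 to 2048 -/
noncomputable def sel3_76 (a : ℕ) : ℕ :=
  (cond (Nat.beq (Nat.land a 256) 0) (cond (Nat.beq (Nat.land a 512) 0) (cond (Nat.beq (Nat.land a 1024) 0) (cond (Nat.beq (Nat.land a 2048) 0) rl76 rl2124) (cond (Nat.beq (Nat.land a 2048) 0) rl1100 rl3148)) (cond (Nat.beq (Nat.land a 1024) 0) (cond (Nat.beq (Nat.land a 2048) 0) rl588 rl2636) (cond (Nat.beq (Nat.land a 2048) 0) rl1612 rl3660))) (cond (Nat.beq (Nat.land a 512) 0) (cond (Nat.beq (Nat.land a 1024) 0) (cond (Nat.beq (Nat.land a 2048) 0) rl332 rl2380) (cond (Nat.beq (Nat.land a 2048) 0) rl1356 rl3404)) (cond (Nat.beq (Nat.land a 1024) 0) (cond (Nat.beq (Nat.land a 2048) 0) rl844 rl2892) (cond (Nat.beq (Nat.land a 2048) 0) rl1868 rl3916))))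

/-- the part of the table that contains a row, by its digits of weight 256 to 2048 -/
noncomputable def sel3_77 (a : ℕ) : ℕ :=
  (cond (Nat.beq (Nat.land a 256) 0) (cond (Nat.beq (Nat.land a 512) 0) (cond (Nat.beq (Nat.land a 1024) 0) (cond (Nat.beq (Nat.land a 2048) 0) rl77 rl2125) (cond (Nat.beq (Nat.land a 2048) 0) rl1101 rl3149)) (cond (Nat.beq (Nat.land a 1024) 0) (cond (Nat.beq (Nat.land a 2048) 0) rl589 rl2637) (cond (Nat.beq (Nat.land a 2048) 0) rl1613 rl3661))) (cond (Nat.beq (Nat.land a 512) 0) (cond (Nat.beq (Nat.land a 1024) 0) (cond (Nat.beq (Nat.land a 2048) 0) rl333 rl2381) (cond (Nat.beq (Nat.land a 2048) 0) rl1357 rl3405)) (cond (Nat.beq (Nat.land a 1024) 0) (cond (Nat.beq (Nat.land a 2048) 0) rl845 rl2893) (cond (Nat.beq (Nat.land a 2048) 0) rl1869 rl3917))))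

/-- the part of the table that contains a row, by its digits of weight 256 to 2048 -/
noncomputable def sel3_78 (a : ℕ) : ℕ :=
  (cond (Nat.beq (Nat.land a 256) 0) (cond (Nat.beq (Nat.land a 512) 0) (cond (Nat.beq (Nat.land a 1024) 0) (cond (Nat.beq (Nat.land a 2048) 0) rl78 rl2126) (cond (Nat.beq (Nat.land a 2048) 0) rl1102 rl3150)) (cond (Nat.beq (Nat.land a 1024) 0) (cond (Nat.beq (Nat.land a 2048) 0) rl590 rl2638) (cond (Nat.beq (Nat.land a 2048) 0) rl1614 rl3662))) (cond (Nat.beq (Nat.land a 512) 0) (cond (Nat.beq (Nat.land a 1024) 0) (cond (Nat.beq (Nat.land a 2048) 0) rl334 rl2382) (cond (Nat.beq (Nat.land a 2048) 0) rl1358 rl3406)) (cond (Nat.beq (Nat.land a 1024) 0) (cond (Nat.beq (Nat.land a 2048) 0) rl846 rl2894) (cond (Nat.beq (Nat.land a 2048) 0) rl1870 rl3918))))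

/-- the part of the table that contains a row, by its digits of weight 256 to 2048 -/
noncomputable def sel3_79 (a : ℕ) : ℕ :=
  (cond (Nat.beq (Nat.land a 256) 0) (cond (Nat.beq (Nat.land a 512) 0) (cond (Nat.beq (Nat.land a 1024) 0) (cond (Nat.beq (Nat.land a 2048) 0) rl79 rl2127) (cond (Nat.beq (Nat.land a 2048) 0) rl1103 rl3151)) (cond (Nat.beq (Nat.land a 1024) 0) (cond (Nat.beq (Nat.land a 2048) 0) rl591 rl2639) (cond (Nat.beq (Nat.land a 2048) 0) rl1615 rl3663))) (cond (Nat.beq (Nat.land a 512) 0) (cond (Nat.beq (Nat.land a 1024) 0) (cond (Nat.beq (Nat.land a 2048) 0) rl335 rl2383) (cond (Nat.beq (Nat.land a 2048) 0) rl1359 rl3407)) (cond (Nat.beq (Nat.land a 1024) 0) (cond (Nat.beq (Nat.land a 2048) 0) rl847 rl2895) (cond (Nat.beq (Nat.land a 2048) 0) rl1871 rl3919))))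

/-- the part of the table that contains a row, by its digits of weight 256 to 2048 -/
noncomputable def sel3_80 (a : ℕ) : ℕ :=
  (cond (Nat.beq (Nat.land a 256) 0) (cond (Nat.beq (Nat.land a 512) 0) (cond (Nat.beq (Nat.land a 1024) 0) (cond (Nat.beq (Nat.land a 2048) 0) rl80 rl2128) (cond (Nat.beq (Nat.land a 2048) 0) rl1104 rl3152)) (cond (Nat.beq (Nat.land a 1024) 0) (cond (Nat.beq (Nat.land a 2048) 0) rl592 rl2640) (cond (Nat.beq (Nat.land a 2048) 0) rl1616 rl3664))) (cond (Nat.beq (Nat.land a 512) 0) (cond (Nat.beq (Nat.land a 1024) 0) (cond (Nat.beq (Nat.land a 2048) 0) rl336 rl2384) (cond (Nat.beq (Nat.land a 2048) 0) rl1360 rl3408)) (cond (Nat.beq (Nat.land a 1024) 0) (cond (Nat.beq (Nat.land a 2048) 0) rl848 rl2896) (cond (Nat.beq (Nat.land a 2048) 0) rl1872 rl3920))))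

/-- the part of the table that contains a row, by its digits of weight 256 to 2048 -/
noncomputable def sel3_81 (a : ℕ) : ℕ :=
  (cond (Nat.beq (Nat.land a 256) 0) (cond (Nat.beq (Nat.land a 512) 0) (cond (Nat.beq (Nat.land a 1024) 0) (cond (Nat.beq (Nat.land a 2048) 0) rl81 rl2129) (cond (Nat.beq (Nat.land a 2048) 0) rl1105 rl3153)) (cond (Nat.beq (Nat.land a 1024) 0) (cond (Nat.beq (Nat.land a 2048) 0) rl593 rl2641) (cond (Nat.beq (Nat.land a 2048) 0) rl1617 rl3665))) (cond (Nat.beq (Nat.land a 512) 0) (cond (Nat.beq (Nat.land a 1024) 0) (cond (Nat.beq (Nat.land a 2048) 0) rl337 rl2385) (cond (Nat.beq (Nat.land a 2048) 0) rl1361 rl3409)) (cond (Nat.beq (Nat.land a 1024) 0) (cond (Nat.beq (Nat.land a 2048) 0) rl849 rl2897) (cond (Nat.beq (Nat.land a 2048) 0) rl1873 rl3921))))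

/-- the part of the table that contains a row, by its digits of weight 256 to 2048 -/
noncomputable def sel3_82 (a : ℕ) : ℕ :=
  (cond (Nat.beq (Nat.land a 256) 0) (cond (Nat.beq (Nat.land a 512) 0) (cond (Nat.beq (Nat.land a 1024) 0) (cond (Nat.beq (Nat.land a 2048) 0) rl82 rl2130) (cond (Nat.beq (Nat.land a 2048) 0) rl1106 rl3154)) (cond (Nat.beq (Nat.land a 1024) 0) (cond (Nat.beq (Nat.land a 2048) 0) rl594 rl2642) (cond (Nat.beq (Nat.land a 2048) 0) rl1618 rl3666))) (cond (Nat.beq (Nat.land a 512) 0) (cond (Nat.beq (Nat.land a 1024) 0) (cond (Nat.beq (Nat.land a 2048) 0) rl338 rl2386) (cond (Nat.beq (Nat.land a 2048) 0) rl1362 rl3410)) (cond (Nat.beq (Nat.land a 1024) 0) (cond (Nat.beq (Nat.land a 2048) 0) rl850 rl2898) (cond (Nat.beq (Nat.land a 2048) 0) rl1874 rl3922))))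

/-- the part of the table that contains a row, by its digits of weight 256 to 2048 -/
noncomputable def sel3_83 (a : ℕ) : ℕ :=
  (cond (Nat.beq (Nat.land a 256) 0) (cond (Nat.beq (Nat.land a 512) 0) (cond (Nat.beq (Nat.land a 1024) 0) (cond (Nat.beq (Nat.land a 2048) 0) rl83 rl2131) (cond (Nat.beq (Nat.land a 2048) 0) rl1107 rl3155)) (cond (Nat.beq (Nat.land a 1024) 0) (cond (Nat.beq (Nat.land a 2048) 0) rl595 rl2643) (cond (Nat.beq (Nat.land a 2048) 0) rl1619 rl3667))) (cond (Nat.beq (Nat.land a 512) 0) (cond (Nat.beq (Nat.land a 1024) 0) (cond (Nat.beq (Nat.land a 2048) 0) rl339 rl2387) (cond (Nat.beq (Nat.land a 2048) 0) rl1363 rl3411)) (cond (Nat.beq (Nat.land a 1024) 0) (cond (Nat.beq (Nat.land a 2048) 0) rl851 rl2899) (cond (Nat.beq (Nat.land a 2048) 0) rl1875 rl3923))))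

/-- the part of the table that contains a row, by its digits of weight 256 to 2048 -/
noncomputable def sel3_84 (a : ℕ) : ℕ :=
  (cond (Nat.beq (Nat.land a 256) 0) (cond (Nat.beq (Nat.land a 512) 0) (cond (Nat.beq (Nat.land a 1024) 0) (cond (Nat.beq (Nat.land a 2048) 0) rl84 rl2132) (cond (Nat.beq (Nat.land a 2048) 0) rl1108 rl3156)) (cond (Nat.beq (Nat.land a 1024) 0) (cond (Nat.beq (Nat.land a 2048) 0) rl596 rl2644) (cond (Nat.beq (Nat.land a 2048) 0) rl1620 rl3668))) (cond (Nat.beq (Nat.land a 512) 0) (cond (Nat.beq (Nat.land a 1024) 0) (cond (Nat.beq (Nat.land a 2048) 0) rl340 rl2388) (cond (Nat.beq (Nat.land a 2048) 0) rl1364 rl3412)) (cond (Nat.beq (Nat.land a 1024) 0) (cond (Nat.beq (Nat.land a 2048) 0) rl852 rl2900) (cond (Nat.beq (Nat.land a 2048) 0) rl1876 rl3924))))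

/-- the part of the table that contains a row, by its digits of weight 256 to 2048 -/
noncomputable def sel3_85 (a : ℕ) : ℕ :=
  (cond (Nat.beq (Nat.land a 256) 0) (cond (Nat.beq (Nat.land a 512) 0) (cond (Nat.beq (Nat.land a 1024) 0) (cond (Nat.beq (Nat.land a 2048) 0) rl85 rl2133) (cond (Nat.beq (Nat.land a 2048) 0) rl1109 rl3157)) (cond (Nat.beq (Nat.land a 1024) 0) (cond (Nat.beq (Nat.land a 2048) 0) rl597 rl2645) (cond (Nat.beq (Nat.land a 2048) 0) rl1621 rl3669))) (cond (Nat.beq (Nat.land a 512) 0) (cond (Nat.beq (Nat.land a 1024) 0) (cond (Nat.beq (Nat.land a 2048) 0) rl341 rl2389) (cond (Nat.beq (Nat.land a 2048) 0) rl1365 rl3413)) (cond (Nat.beq (Nat.land a 1024) 0) (cond (Nat.beq (Nat.land a 2048) 0) rl853 rl2901) (cond (Nat.beq (Nat.land a 2048) 0) rl1877 rl3925))))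

/-- the part of the table that contains a row, by its digits of weight 256 to 2048 -/
noncomputable def sel3_86 (a : ℕ) : ℕ :=
  (cond (Nat.beq (Nat.land a 256) 0) (cond (Nat.beq (Nat.land a 512) 0) (cond (Nat.beq (Nat.land a 1024) 0) (cond (Nat.beq (Nat.land a 2048) 0) rl86 rl2134) (cond (Nat.beq (Nat.land a 2048) 0) rl1110 rl3158)) (cond (Nat.beq (Nat.land a 1024) 0) (cond (Nat.beq (Nat.land a 2048) 0) rl598 rl2646) (cond (Nat.beq (Nat.land a 2048) 0) rl1622 rl3670))) (cond (Nat.beq (Nat.land a 512) 0) (cond (Nat.beq (Nat.land a 1024) 0) (cond (Nat.beq (Nat.land a 2048) 0) rl342 rl2390) (cond (Nat.beq (Nat.land a 2048) 0) rl1366 rl3414)) (cond (Nat.beq (Nat.land a 1024) 0) (cond (Nat.beq (Nat.land a 2048) 0) rl854 rl2902) (cond (Nat.beq (Nat.land a 2048) 0) rl1878 rl3926))))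

/-- the part of the table that contains a row, by its digits of weight 256 to 2048 -/
noncomputable def sel3_87 (a : ℕ) : ℕ :=
  (cond (Nat.beq (Nat.land a 256) 0) (cond (Nat.beq (Nat.land a 512) 0) (cond (Nat.beq (Nat.land a 1024) 0) (cond (Nat.beq (Nat.land a 2048) 0) rl87 rl2135) (cond (Nat.beq (Nat.land a 2048) 0) rl1111 rl3159)) (cond (Nat.beq (Nat.land a 1024) 0) (cond (Nat.beq (Nat.land a 2048) 0) rl599 rl2647) (cond (Nat.beq (Nat.land a 2048) 0) rl1623 rl3671))) (cond (Nat.beq (Nat.land a 512) 0) (cond (Nat.beq (Nat.land a 1024) 0) (cond (Nat.beq (Nat.land a 2048) 0) rl343 rl2391) (cond (Nat.beq (Nat.land a 2048) 0) rl1367 rl3415)) (cond (Nat.beq (Nat.land a 1024) 0) (cond (Nat.beq (Nat.land a 2048) 0) rl855 rl2903) (cond (Nat.beq (Nat.land a 2048) 0) rl1879 rl3927))))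

/-- the part of the table that contains a row, by its digits of weight 256 to 2048 -/
noncomputable def sel3_88 (a : ℕ) : ℕ :=
  (cond (Nat.beq (Nat.land a 256) 0) (cond (Nat.beq (Nat.land a 512) 0) (cond (Nat.beq (Nat.land a 1024) 0) (cond (Nat.beq (Nat.land a 2048) 0) rl88 rl2136) (cond (Nat.beq (Nat.land a 2048) 0) rl1112 rl3160)) (cond (Nat.beq (Nat.land a 1024) 0) (cond (Nat.beq (Nat.land a 2048) 0) rl600 rl2648) (cond (Nat.beq (Nat.land a 2048) 0) rl1624 rl3672))) (cond (Nat.beq (Nat.land a 512) 0) (cond (Nat.beq (Nat.land a 1024) 0) (cond (Nat.beq (Nat.land a 2048) 0) rl344 rl2392) (cond (Nat.beq (Nat.land a 2048) 0) rl1368 rl3416)) (cond (Nat.beq (Nat.land a 1024) 0) (cond (Nat.beq (Nat.land a 2048) 0) rl856 rl2904) (cond (Nat.beq (Nat.land a 2048) 0) rl1880 rl3928))))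

/-- the part of the table that contains a row, by its digits of weight 256 to 2048 -/
noncomputable def sel3_89 (a : ℕ) : ℕ :=
  (cond (Nat.beq (Nat.land a 256) 0) (cond (Nat.beq (Nat.land a 512) 0) (cond (Nat.beq (Nat.land a 1024) 0) (cond (Nat.beq (Nat.land a 2048) 0) rl89 rl2137) (cond (Nat.beq (Nat.land a 2048) 0) rl1113 rl3161)) (cond (Nat.beq (Nat.land a 1024) 0) (cond (Nat.beq (Nat.land a 2048) 0) rl601 rl2649) (cond (Nat.beq (Nat.land a 2048) 0) rl1625 rl3673))) (cond (Nat.beq (Nat.land a 512) 0) (cond (Nat.beq (Nat.land a 1024) 0) (cond (Nat.beq (Nat.land a 2048) 0) rl345 rl2393) (cond (Nat.beq (Nat.land a 2048) 0) rl1369 rl3417)) (cond (Nat.beq (Nat.land a 1024) 0) (cond (Nat.beq (Nat.land a 2048) 0) rl857 rl2905) (cond (Nat.beq (Nat.land a 2048) 0) rl1881 rl3929))))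

/-- the part of the table that contains a row, by its digits of weight 256 to 2048 -/
noncomputable def sel3_90 (a : ℕ) : ℕ :=
  (cond (Nat.beq (Nat.land a 256) 0) (cond (Nat.beq (Nat.land a 512) 0) (cond (Nat.beq (Nat.land a 1024) 0) (cond (Nat.beq (Nat.land a 2048) 0) rl90 rl2138) (cond (Nat.beq (Nat.land a 2048) 0) rl1114 rl3162)) (cond (Nat.beq (Nat.land a 1024) 0) (cond (Nat.beq (Nat.land a 2048) 0) rl602 rl2650) (cond (Nat.beq (Nat.land a 2048) 0) rl1626 rl3674))) (cond (Nat.beq (Nat.land a 512) 0) (cond (Nat.beq (Nat.land a 1024) 0) (cond (Nat.beq (Nat.land a 2048) 0) rl346 rl2394) (cond (Nat.beq (Nat.land a 2048) 0) rl1370 rl3418)) (cond (Nat.beq (Nat.land a 1024) 0) (cond (Nat.beq (Nat.land a 2048) 0) rl858 rl2906) (cond (Nat.beq (Nat.land a 2048) 0) rl1882 rl3930))))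

/-- the part of the table that contains a row, by its digits of weight 256 to 2048 -/
noncomputable def sel3_91 (a : ℕ) : ℕ :=
  (cond (Nat.beq (Nat.land a 256) 0) (cond (Nat.beq (Nat.land a 512) 0) (cond (Nat.beq (Nat.land a 1024) 0) (cond (Nat.beq (Nat.land a 2048) 0) rl91 rl2139) (cond (Nat.beq (Nat.land a 2048) 0) rl1115 rl3163)) (cond (Nat.beq (Nat.land a 1024) 0) (cond (Nat.beq (Nat.land a 2048) 0) rl603 rl2651) (cond (Nat.beq (Nat.land a 2048) 0) rl1627 rl3675))) (cond (Nat.beq (Nat.land a 512) 0) (cond (Nat.beq (Nat.land a 1024) 0) (cond (Nat.beq (Nat.land a 2048) 0) rl347 rl2395) (cond (Nat.beq (Nat.land a 2048) 0) rl1371 rl3419)) (cond (Nat.beq (Nat.land a 1024) 0) (cond (Nat.beq (Nat.land a 2048) 0) rl859 rl2907) (cond (Nat.beq (Nat.land a 2048) 0) rl1883 rl3931))))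

/-- the part of the table that contains a row, by its digits of weight 256 to 2048 -/
noncomputable def sel3_92 (a : ℕ) : ℕ :=
  (cond (Nat.beq (Nat.land a 256) 0) (cond (Nat.beq (Nat.land a 512) 0) (cond (Nat.beq (Nat.land a 1024) 0) (cond (Nat.beq (Nat.land a 2048) 0) rl92 rl2140) (cond (Nat.beq (Nat.land a 2048) 0) rl1116 rl3164)) (cond (Nat.beq (Nat.land a 1024) 0) (cond (Nat.beq (Nat.land a 2048) 0) rl604 rl2652) (cond (Nat.beq (Nat.land a 2048) 0) rl1628 rl3676))) (cond (Nat.beq (Nat.land a 512) 0) (cond (Nat.beq (Nat.land a 1024) 0) (cond (Nat.beq (Nat.land a 2048) 0) rl348 rl2396) (cond (Nat.beq (Nat.land a 2048) 0) rl1372 rl3420)) (cond (Nat.beq (Nat.land a 1024) 0) (cond (Nat.beq (Nat.land a 2048) 0) rl860 rl2908) (cond (Nat.beq (Nat.land a 2048) 0) rl1884 rl3932))))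

/-- the part of the table that contains a row, by its digits of weight 256 to 2048 -/
noncomputable def sel3_93 (a : ℕ) : ℕ :=
  (cond (Nat.beq (Nat.land a 256) 0) (cond (Nat.beq (Nat.land a 512) 0) (cond (Nat.beq (Nat.land a 1024) 0) (cond (Nat.beq (Nat.land a 2048) 0) rl93 rl2141) (cond (Nat.beq (Nat.land a 2048) 0) rl1117 rl3165)) (cond (Nat.beq (Nat.land a 1024) 0) (cond (Nat.beq (Nat.land a 2048) 0) rl605 rl2653) (cond (Nat.beq (Nat.land a 2048) 0) rl1629 rl3677))) (cond (Nat.beq (Nat.land a 512) 0) (cond (Nat.beq (Nat.land a 1024) 0) (cond (Nat.beq (Nat.land a 2048) 0) rl349 rl2397) (cond (Nat.beq (Nat.land a 2048) 0) rl1373 rl3421)) (cond (Nat.beq (Nat.land a 1024) 0) (cond (Nat.beq (Nat.land a 2048) 0) rl861 rl2909) (cond (Nat.beq (Nat.land a 2048) 0) rl1885 rl3933))))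

/-- the part of the table that contains a row, by its digits of weight 256 to 2048 -/
noncomputable def sel3_94 (a : ℕ) : ℕ :=
  (cond (Nat.beq (Nat.land a 256) 0) (cond (Nat.beq (Nat.land a 512) 0) (cond (Nat.beq (Nat.land a 1024) 0) (cond (Nat.beq (Nat.land a 2048) 0) rl94 rl2142) (cond (Nat.beq (Nat.land a 2048) 0) rl1118 rl3166)) (cond (Nat.beq (Nat.land a 1024) 0) (cond (Nat.beq (Nat.land a 2048) 0) rl606 rl2654) (cond (Nat.beq (Nat.land a 2048) 0) rl1630 rl3678))) (cond (Nat.beq (Nat.land a 512) 0) (cond (Nat.beq (Nat.land a 1024) 0) (cond (Nat.beq (Nat.land a 2048) 0) rl350 rl2398) (cond (Nat.beq (Nat.land a 2048) 0) rl1374 rl3422)) (cond (Nat.beq (Nat.land a 1024) 0) (cond (Nat.beq (Nat.land a 2048) 0) rl862 rl2910) (cond (Nat.beq (Nat.land a 2048) 0) rl1886 rl3934))))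

/-- the part of the table that contains a row, by its digits of weight 256 to 2048 -/
noncomputable def sel3_95 (a : ℕ) : ℕ :=
  (cond (Nat.beq (Nat.land a 256) 0) (cond (Nat.beq (Nat.land a 512) 0) (cond (Nat.beq (Nat.land a 1024) 0) (cond (Nat.beq (Nat.land a 2048) 0) rl95 rl2143) (cond (Nat.beq (Nat.land a 2048) 0) rl1119 rl3167)) (cond (Nat.beq (Nat.land a 1024) 0) (cond (Nat.beq (Nat.land a 2048) 0) rl607 rl2655) (cond (Nat.beq (Nat.land a 2048) 0) rl1631 rl3679))) (cond (Nat.beq (Nat.land a 512) 0) (cond (Nat.beq (Nat.land a 1024) 0) (cond (Nat.beq (Nat.land a 2048) 0) rl351 rl2399) (cond (Nat.beq (Nat.land a 2048) 0) rl1375 rl3423)) (cond (Nat.beq (Nat.land a 1024) 0) (cond (Nat.beq (Nat.land a 2048) 0) rl863 rl2911) (cond (Nat.beq (Nat.land a 2048) 0) rl1887 rl3935))))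

/-- the part of the table that contains a row, by its digits of weight 256 to 2048 -/
noncomputable def sel3_96 (a : ℕ) : ℕ :=
  (cond (Nat.beq (Nat.land a 256) 0) (cond (Nat.beq (Nat.land a 512) 0) (cond (Nat.beq (Nat.land a 1024) 0) (cond (Nat.beq (Nat.land a 2048) 0) rl96 rl2144) (cond (Nat.beq (Nat.land a 2048) 0) rl1120 rl3168)) (cond (Nat.beq (Nat.land a 1024) 0) (cond (Nat.beq (Nat.land a 2048) 0) rl608 rl2656) (cond (Nat.beq (Nat.land a 2048) 0) rl1632 rl3680))) (cond (Nat.beq (Nat.land a 512) 0) (cond (Nat.beq (Nat.land a 1024) 0) (cond (Nat.beq (Nat.land a 2048) 0) rl352 rl2400) (cond (Nat.beq (Nat.land a 2048) 0) rl1376 rl3424)) (cond (Nat.beq (Nat.land a 1024) 0) (cond (Nat.beq (Nat.land a 2048) 0) rl864 rl2912) (cond (Nat.beq (Nat.land a 2048) 0) rl1888 rl3936))))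

/-- the part of the table that contains a row, by its digits of weight 256 to 2048 -/
noncomputable def sel3_97 (a : ℕ) : ℕ :=
  (cond (Nat.beq (Nat.land a 256) 0) (cond (Nat.beq (Nat.land a 512) 0) (cond (Nat.beq (Nat.land a 1024) 0) (cond (Nat.beq (Nat.land a 2048) 0) rl97 rl2145) (cond (Nat.beq (Nat.land a 2048) 0) rl1121 rl3169)) (cond (Nat.beq (Nat.land a 1024) 0) (cond (Nat.beq (Nat.land a 2048) 0) rl609 rl2657) (cond (Nat.beq (Nat.land a 2048) 0) rl1633 rl3681))) (cond (Nat.beq (Nat.land a 512) 0) (cond (Nat.beq (Nat.land a 1024) 0) (cond (Nat.beq (Nat.land a 2048) 0) rl353 rl2401) (cond (Nat.beq (Nat.land a 2048) 0) rl1377 rl3425)) (cond (Nat.beq (Nat.land a 1024) 0) (cond (Nat.beq (Nat.land a 2048) 0) rl865 rl2913) (cond (Nat.beq (Nat.land a 2048) 0) rl1889 rl3937))))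

/-- the part of the table that contains a row, by its digits of weight 256 to 2048 -/
noncomputable def sel3_98 (a : ℕ) : ℕ :=
  (cond (Nat.beq (Nat.land a 256) 0) (cond (Nat.beq (Nat.land a 512) 0) (cond (Nat.beq (Nat.land a 1024) 0) (cond (Nat.beq (Nat.land a 2048) 0) rl98 rl2146) (cond (Nat.beq (Nat.land a 2048) 0) rl1122 rl3170)) (cond (Nat.beq (Nat.land a 1024) 0) (cond (Nat.beq (Nat.land a 2048) 0) rl610 rl2658) (cond (Nat.beq (Nat.land a 2048) 0) rl1634 rl3682))) (cond (Nat.beq (Nat.land a 512) 0) (cond (Nat.beq (Nat.land a 1024) 0) (cond (Nat.beq (Nat.land a 2048) 0) rl354 rl2402) (cond (Nat.beq (Nat.land a 2048) 0) rl1378 rl3426)) (cond (Nat.beq (Nat.land a 1024) 0) (cond (Nat.beq (Nat.land a 2048) 0) rl866 rl2914) (cond (Nat.beq (Nat.land a 2048) 0) rl1890 rl3938))))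

/-- the part of the table that contains a row, by its digits of weight 256 to 2048 -/
noncomputable def sel3_99 (a : ℕ) : ℕ :=
  (cond (Nat.beq (Nat.land a 256) 0) (cond (Nat.beq (Nat.land a 512) 0) (cond (Nat.beq (Nat.land a 1024) 0) (cond (Nat.beq (Nat.land a 2048) 0) rl99 rl2147) (cond (Nat.beq (Nat.land a 2048) 0) rl1123 rl3171)) (cond (Nat.beq (Nat.land a 1024) 0) (cond (Nat.beq (Nat.land a 2048) 0) rl611 rl2659) (cond (Nat.beq (Nat.land a 2048) 0) rl1635 rl3683))) (cond (Nat.beq (Nat.land a 512) 0) (cond (Nat.beq (Nat.land a 1024) 0) (cond (Nat.beq (Nat.land a 2048) 0) rl355 rl2403) (cond (Nat.beq (Nat.land a 2048) 0) rl1379 rl3427)) (cond (Nat.beq (Nat.land a 1024) 0) (cond (Nat.beq (Nat.land a 2048) 0) rl867 rl2915) (cond (Nat.beq (Nat.land a 2048) 0) rl1891 rl3939))))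

/-- the part of the table that contains a row, by its digits of weight 256 to 2048 -/
noncomputable def sel3_100 (a : ℕ) : ℕ :=
  (cond (Nat.beq (Nat.land a 256) 0) (cond (Nat.beq (Nat.land a 512) 0) (cond (Nat.beq (Nat.land a 1024) 0) (cond (Nat.beq (Nat.land a 2048) 0) rl100 rl2148) (cond (Nat.beq (Nat.land a 2048) 0) rl1124 rl3172)) (cond (Nat.beq (Nat.land a 1024) 0) (cond (Nat.beq (Nat.land a 2048) 0) rl612 rl2660) (cond (Nat.beq (Nat.land a 2048) 0) rl1636 rl3684))) (cond (Nat.beq (Nat.land a 512) 0) (cond (Nat.beq (Nat.land a 1024) 0) (cond (Nat.beq (Nat.land a 2048) 0) rl356 rl2404) (cond (Nat.beq (Nat.land a 2048) 0) rl1380 rl3428)) (cond (Nat.beq (Nat.land a 1024) 0) (cond (Nat.beq (Nat.land a 2048) 0) rl868 rl2916) (cond (Nat.beq (Nat.land a 2048) 0) rl1892 rl3940))))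

/-- the part of the table that contains a row, by its digits of weight 256 to 2048 -/
noncomputable def sel3_101 (a : ℕ) : ℕ :=
  (cond (Nat.beq (Nat.land a 256) 0) (cond (Nat.beq (Nat.land a 512) 0) (cond (Nat.beq (Nat.land a 1024) 0) (cond (Nat.beq (Nat.land a 2048) 0) rl101 rl2149) (cond (Nat.beq (Nat.land a 2048) 0) rl1125 rl3173)) (cond (Nat.beq (Nat.land a 1024) 0) (cond (Nat.beq (Nat.land a 2048) 0) rl613 rl2661) (cond (Nat.beq (Nat.land a 2048) 0) rl1637 rl3685))) (cond (Nat.beq (Nat.land a 512) 0) (cond (Nat.beq (Nat.land a 1024) 0) (cond (Nat.beq (Nat.land a 2048) 0) rl357 rl2405) (cond (Nat.beq (Nat.land a 2048) 0) rl1381 rl3429)) (cond (Nat.beq (Nat.land a 1024) 0) (cond (Nat.beq (Nat.land a 2048) 0) rl869 rl2917) (cond (Nat.beq (Nat.land a 2048) 0) rl1893 rl3941))))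

/-- the part of the table that contains a row, by its digits of weight 256 to 2048 -/
noncomputable def sel3_102 (a : ℕ) : ℕ :=
  (cond (Nat.beq (Nat.land a 256) 0) (cond (Nat.beq (Nat.land a 512) 0) (cond (Nat.beq (Nat.land a 1024) 0) (cond (Nat.beq (Nat.land a 2048) 0) rl102 rl2150) (cond (Nat.beq (Nat.land a 2048) 0) rl1126 rl3174)) (cond (Nat.beq (Nat.land a 1024) 0) (cond (Nat.beq (Nat.land a 2048) 0) rl614 rl2662) (cond (Nat.beq (Nat.land a 2048) 0) rl1638 rl3686))) (cond (Nat.beq (Nat.land a 512) 0) (cond (Nat.beq (Nat.land a 1024) 0) (cond (Nat.beq (Nat.land a 2048) 0) rl358 rl2406) (cond (Nat.beq (Nat.land a 2048) 0) rl1382 rl3430)) (cond (Nat.beq (Nat.land a 1024) 0) (cond (Nat.beq (Nat.land a 2048) 0) rl870 rl2918) (cond (Nat.beq (Nat.land a 2048) 0) rl1894 rl3942))))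

/-- the part of the table that contains a row, by its digits of weight 256 to 2048 -/
noncomputable def sel3_103 (a : ℕ) : ℕ :=
  (cond (Nat.beq (Nat.land a 256) 0) (cond (Nat.beq (Nat.land a 512) 0) (cond (Nat.beq (Nat.land a 1024) 0) (cond (Nat.beq (Nat.land a 2048) 0) rl103 rl2151) (cond (Nat.beq (Nat.land a 2048) 0) rl1127 rl3175)) (cond (Nat.beq (Nat.land a 1024) 0) (cond (Nat.beq (Nat.land a 2048) 0) rl615 rl2663) (cond (Nat.beq (Nat.land a 2048) 0) rl1639 rl3687))) (cond (Nat.beq (Nat.land a 512) 0) (cond (Nat.beq (Nat.land a 1024) 0) (cond (Nat.beq (Nat.land a 2048) 0) rl359 rl2407) (cond (Nat.beq (Nat.land a 2048) 0) rl1383 rl3431)) (cond (Nat.beq (Nat.land a 1024) 0) (cond (Nat.beq (Nat.land a 2048) 0) rl871 rl2919) (cond (Nat.beq (Nat.land a 2048) 0) rl1895 rl3943))))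

/-- the part of the table that contains a row, by its digits of weight 256 to 2048 -/
noncomputable def sel3_104 (a : ℕ) : ℕ :=
  (cond (Nat.beq (Nat.land a 256) 0) (cond (Nat.beq (Nat.land a 512) 0) (cond (Nat.beq (Nat.land a 1024) 0) (cond (Nat.beq (Nat.land a 2048) 0) rl104 rl2152) (cond (Nat.beq (Nat.land a 2048) 0) rl1128 rl3176)) (cond (Nat.beq (Nat.land a 1024) 0) (cond (Nat.beq (Nat.land a 2048) 0) rl616 rl2664) (cond (Nat.beq (Nat.land a 2048) 0) rl1640 rl3688))) (cond (Nat.beq (Nat.land a 512) 0) (cond (Nat.beq (Nat.land a 1024) 0) (cond (Nat.beq (Nat.land a 2048) 0) rl360 rl2408) (cond (Nat.beq (Nat.land a 2048) 0) rl1384 rl3432)) (cond (Nat.beq (Nat.land a 1024) 0) (cond (Nat.beq (Nat.land a 2048) 0) rl872 rl2920) (cond (Nat.beq (Nat.land a 2048) 0) rl1896 rl3944))))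

/-- the part of the table that contains a row, by its digits of weight 256 to 2048 -/
noncomputable def sel3_105 (a : ℕ) : ℕ :=
  (cond (Nat.beq (Nat.land a 256) 0) (cond (Nat.beq (Nat.land a 512) 0) (cond (Nat.beq (Nat.land a 1024) 0) (cond (Nat.beq (Nat.land a 2048) 0) rl105 rl2153) (cond (Nat.beq (Nat.land a 2048) 0) rl1129 rl3177)) (cond (Nat.beq (Nat.land a 1024) 0) (cond (Nat.beq (Nat.land a 2048) 0) rl617 rl2665) (cond (Nat.beq (Nat.land a 2048) 0) rl1641 rl3689))) (cond (Nat.beq (Nat.land a 512) 0) (cond (Nat.beq (Nat.land a 1024) 0) (cond (Nat.beq (Nat.land a 2048) 0) rl361 rl2409) (cond (Nat.beq (Nat.land a 2048) 0) rl1385 rl3433)) (cond (Nat.beq (Nat.land a 1024) 0) (cond (Nat.beq (Nat.land a 2048) 0) rl873 rl2921) (cond (Nat.beq (Nat.land a 2048) 0) rl1897 rl3945))))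

/-- the part of the table that contains a row, by its digits of weight 256 to 2048 -/
noncomputable def sel3_106 (a : ℕ) : ℕ :=
  (cond (Nat.beq (Nat.land a 256) 0) (cond (Nat.beq (Nat.land a 512) 0) (cond (Nat.beq (Nat.land a 1024) 0) (cond (Nat.beq (Nat.land a 2048) 0) rl106 rl2154) (cond (Nat.beq (Nat.land a 2048) 0) rl1130 rl3178)) (cond (Nat.beq (Nat.land a 1024) 0) (cond (Nat.beq (Nat.land a 2048) 0) rl618 rl2666) (cond (Nat.beq (Nat.land a 2048) 0) rl1642 rl3690))) (cond (Nat.beq (Nat.land a 512) 0) (cond (Nat.beq (Nat.land a 1024) 0) (cond (Nat.beq (Nat.land a 2048) 0) rl362 rl2410) (cond (Nat.beq (Nat.land a 2048) 0) rl1386 rl3434)) (cond (Nat.beq (Nat.land a 1024) 0) (cond (Nat.beq (Nat.land a 2048) 0) rl874 rl2922) (cond (Nat.beq (Nat.land a 2048) 0) rl1898 rl3946))))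

/-- the part of the table that contains a row, by its digits of weight 256 to 2048 -/
noncomputable def sel3_107 (a : ℕ) : ℕ :=
  (cond (Nat.beq (Nat.land a 256) 0) (cond (Nat.beq (Nat.land a 512) 0) (cond (Nat.beq (Nat.land a 1024) 0) (cond (Nat.beq (Nat.land a 2048) 0) rl107 rl2155) (cond (Nat.beq (Nat.land a 2048) 0) rl1131 rl3179)) (cond (Nat.beq (Nat.land a 1024) 0) (cond (Nat.beq (Nat.land a 2048) 0) rl619 rl2667) (cond (Nat.beq (Nat.land a 2048) 0) rl1643 rl3691))) (cond (Nat.beq (Nat.land a 512) 0) (cond (Nat.beq (Nat.land a 1024) 0) (cond (Nat.beq (Nat.land a 2048) 0) rl363 rl2411) (cond (Nat.beq (Nat.land a 2048) 0) rl1387 rl3435)) (cond (Nat.beq (Nat.land a 1024) 0) (cond (Nat.beq (Nat.land a 2048) 0) rl875 rl2923) (cond (Nat.beq (Nat.land a 2048) 0) rl1899 rl3947))))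

/-- the part of the table that contains a row, by its digits of weight 256 to 2048 -/
noncomputable def sel3_108 (a : ℕ) : ℕ :=
  (cond (Nat.beq (Nat.land a 256) 0) (cond (Nat.beq (Nat.land a 512) 0) (cond (Nat.beq (Nat.land a 1024) 0) (cond (Nat.beq (Nat.land a 2048) 0) rl108 rl2156) (cond (Nat.beq (Nat.land a 2048) 0) rl1132 rl3180)) (cond (Nat.beq (Nat.land a 1024) 0) (cond (Nat.beq (Nat.land a 2048) 0) rl620 rl2668) (cond (Nat.beq (Nat.land a 2048) 0) rl1644 rl3692))) (cond (Nat.beq (Nat.land a 512) 0) (cond (Nat.beq (Nat.land a 1024) 0) (cond (Nat.beq (Nat.land a 2048) 0) rl364 rl2412) (cond (Nat.beq (Nat.land a 2048) 0) rl1388 rl3436)) (cond (Nat.beq (Nat.land a 1024) 0) (cond (Nat.beq (Nat.land a 2048) 0) rl876 rl2924) (cond (Nat.beq (Nat.land a 2048) 0) rl1900 rl3948))))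

/-- the part of the table that contains a row, by its digits of weight 256 to 2048 -/
noncomputable def sel3_109 (a : ℕ) : ℕ :=
  (cond (Nat.beq (Nat.land a 256) 0) (cond (Nat.beq (Nat.land a 512) 0) (cond (Nat.beq (Nat.land a 1024) 0) (cond (Nat.beq (Nat.land a 2048) 0) rl109 rl2157) (cond (Nat.beq (Nat.land a 2048) 0) rl1133 rl3181)) (cond (Nat.beq (Nat.land a 1024) 0) (cond (Nat.beq (Nat.land a 2048) 0) rl621 rl2669) (cond (Nat.beq (Nat.land a 2048) 0) rl1645 rl3693))) (cond (Nat.beq (Nat.land a 512) 0) (cond (Nat.beq (Nat.land a 1024) 0) (cond (Nat.beq (Nat.land a 2048) 0) rl365 rl2413) (cond (Nat.beq (Nat.land a 2048) 0) rl1389 rl3437)) (cond (Nat.beq (Nat.land a 1024) 0) (cond (Nat.beq (Nat.land a 2048) 0) rl877 rl2925) (cond (Nat.beq (Nat.land a 2048) 0) rl1901 rl3949))))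

/-- the part of the table that contains a row, by its digits of weight 256 to 2048 -/
noncomputable def sel3_110 (a : ℕ) : ℕ :=
  (cond (Nat.beq (Nat.land a 256) 0) (cond (Nat.beq (Nat.land a 512) 0) (cond (Nat.beq (Nat.land a 1024) 0) (cond (Nat.beq (Nat.land a 2048) 0) rl110 rl2158) (cond (Nat.beq (Nat.land a 2048) 0) rl1134 rl3182)) (cond (Nat.beq (Nat.land a 1024) 0) (cond (Nat.beq (Nat.land a 2048) 0) rl622 rl2670) (cond (Nat.beq (Nat.land a 2048) 0) rl1646 rl3694))) (cond (Nat.beq (Nat.land a 512) 0) (cond (Nat.beq (Nat.land a 1024) 0) (cond (Nat.beq (Nat.land a 2048) 0) rl366 rl2414) (cond (Nat.beq (Nat.land a 2048) 0) rl1390 rl3438)) (cond (Nat.beq (Nat.land a 1024) 0) (cond (Nat.beq (Nat.land a 2048) 0) rl878 rl2926) (cond (Nat.beq (Nat.land a 2048) 0) rl1902 rl3950))))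

/-- the part of the table that contains a row, by its digits of weight 256 to 2048 -/
noncomputable def sel3_111 (a : ℕ) : ℕ :=
  (cond (Nat.beq (Nat.land a 256) 0) (cond (Nat.beq (Nat.land a 512) 0) (cond (Nat.beq (Nat.land a 1024) 0) (cond (Nat.beq (Nat.land a 2048) 0) rl111 rl2159) (cond (Nat.beq (Nat.land a 2048) 0) rl1135 rl3183)) (cond (Nat.beq (Nat.land a 1024) 0) (cond (Nat.beq (Nat.land a 2048) 0) rl623 rl2671) (cond (Nat.beq (Nat.land a 2048) 0) rl1647 rl3695))) (cond (Nat.beq (Nat.land a 512) 0) (cond (Nat.beq (Nat.land a 1024) 0) (cond (Nat.beq (Nat.land a 2048) 0) rl367 rl2415) (cond (Nat.beq (Nat.land a 2048) 0) rl1391 rl3439)) (cond (Nat.beq (Nat.land a 1024) 0) (cond (Nat.beq (Nat.land a 2048) 0) rl879 rl2927) (cond (Nat.beq (Nat.land a 2048) 0) rl1903 rl3951))))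

/-- the part of the table that contains a row, by its digits of weight 256 to 2048 -/
noncomputable def sel3_112 (a : ℕ) : ℕ :=
  (cond (Nat.beq (Nat.land a 256) 0) (cond (Nat.beq (Nat.land a 512) 0) (cond (Nat.beq (Nat.land a 1024) 0) (cond (Nat.beq (Nat.land a 2048) 0) rl112 rl2160) (cond (Nat.beq (Nat.land a 2048) 0) rl1136 rl3184)) (cond (Nat.beq (Nat.land a 1024) 0) (cond (Nat.beq (Nat.land a 2048) 0) rl624 rl2672) (cond (Nat.beq (Nat.land a 2048) 0) rl1648 rl3696))) (cond (Nat.beq (Nat.land a 512) 0) (cond (Nat.beq (Nat.land a 1024) 0) (cond (Nat.beq (Nat.land a 2048) 0) rl368 rl2416) (cond (Nat.beq (Nat.land a 2048) 0) rl1392 rl3440)) (cond (Nat.beq (Nat.land a 1024) 0) (cond (Nat.beq (Nat.land a 2048) 0) rl880 rl2928) (cond (Nat.beq (Nat.land a 2048) 0) rl1904 rl3952))))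

/-- the part of the table that contains a row, by its digits of weight 256 to 2048 -/
noncomputable def sel3_113 (a : ℕ) : ℕ :=
  (cond (Nat.beq (Nat.land a 256) 0) (cond (Nat.beq (Nat.land a 512) 0) (cond (Nat.beq (Nat.land a 1024) 0) (cond (Nat.beq (Nat.land a 2048) 0) rl113 rl2161) (cond (Nat.beq (Nat.land a 2048) 0) rl1137 rl3185)) (cond (Nat.beq (Nat.land a 1024) 0) (cond (Nat.beq (Nat.land a 2048) 0) rl625 rl2673) (cond (Nat.beq (Nat.land a 2048) 0) rl1649 rl3697))) (cond (Nat.beq (Nat.land a 512) 0) (cond (Nat.beq (Nat.land a 1024) 0) (cond (Nat.beq (Nat.land a 2048) 0) rl369 rl2417) (cond (Nat.beq (Nat.land a 2048) 0) rl1393 rl3441)) (cond (Nat.beq (Nat.land a 1024) 0) (cond (Nat.beq (Nat.land a 2048) 0) rl881 rl2929) (cond (Nat.beq (Nat.land a 2048) 0) rl1905 rl3953))))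

/-- the part of the table that contains a row, by its digits of weight 256 to 2048 -/
noncomputable def sel3_114 (a : ℕ) : ℕ :=
  (cond (Nat.beq (Nat.land a 256) 0) (cond (Nat.beq (Nat.land a 512) 0) (cond (Nat.beq (Nat.land a 1024) 0) (cond (Nat.beq (Nat.land a 2048) 0) rl114 rl2162) (cond (Nat.beq (Nat.land a 2048) 0) rl1138 rl3186)) (cond (Nat.beq (Nat.land a 1024) 0) (cond (Nat.beq (Nat.land a 2048) 0) rl626 rl2674) (cond (Nat.beq (Nat.land a 2048) 0) rl1650 rl3698))) (cond (Nat.beq (Nat.land a 512) 0) (cond (Nat.beq (Nat.land a 1024) 0) (cond (Nat.beq (Nat.land a 2048) 0) rl370 rl2418) (cond (Nat.beq (Nat.land a 2048) 0) rl1394 rl3442)) (cond (Nat.beq (Nat.land a 1024) 0) (cond (Nat.beq (Nat.land a 2048) 0) rl882 rl2930) (cond (Nat.beq (Nat.land a 2048) 0) rl1906 rl3954))))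

/-- the part of the table that contains a row, by its digits of weight 256 to 2048 -/
noncomputable def sel3_115 (a : ℕ) : ℕ :=
  (cond (Nat.beq (Nat.land a 256) 0) (cond (Nat.beq (Nat.land a 512) 0) (cond (Nat.beq (Nat.land a 1024) 0) (cond (Nat.beq (Nat.land a 2048) 0) rl115 rl2163) (cond (Nat.beq (Nat.land a 2048) 0) rl1139 rl3187)) (cond (Nat.beq (Nat.land a 1024) 0) (cond (Nat.beq (Nat.land a 2048) 0) rl627 rl2675) (cond (Nat.beq (Nat.land a 2048) 0) rl1651 rl3699))) (cond (Nat.beq (Nat.land a 512) 0) (cond (Nat.beq (Nat.land a 1024) 0) (cond (Nat.beq (Nat.land a 2048) 0) rl371 rl2419) (cond (Nat.beq (Nat.land a 2048) 0) rl1395 rl3443)) (cond (Nat.beq (Nat.land a 1024) 0) (cond (Nat.beq (Nat.land a 2048) 0) rl883 rl2931) (cond (Nat.beq (Nat.land a 2048) 0) rl1907 rl3955))))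

/-- the part of the table that contains a row, by its digits of weight 256 to 2048 -/
noncomputable def sel3_116 (a : ℕ) : ℕ :=
  (cond (Nat.beq (Nat.land a 256) 0) (cond (Nat.beq (Nat.land a 512) 0) (cond (Nat.beq (Nat.land a 1024) 0) (cond (Nat.beq (Nat.land a 2048) 0) rl116 rl2164) (cond (Nat.beq (Nat.land a 2048) 0) rl1140 rl3188)) (cond (Nat.beq (Nat.land a 1024) 0) (cond (Nat.beq (Nat.land a 2048) 0) rl628 rl2676) (cond (Nat.beq (Nat.land a 2048) 0) rl1652 rl3700))) (cond (Nat.beq (Nat.land a 512) 0) (cond (Nat.beq (Nat.land a 1024) 0) (cond (Nat.beq (Nat.land a 2048) 0) rl372 rl2420) (cond (Nat.beq (Nat.land a 2048) 0) rl1396 rl3444)) (cond (Nat.beq (Nat.land a 1024) 0) (cond (Nat.beq (Nat.land a 2048) 0) rl884 rl2932) (cond (Nat.beq (Nat.land a 2048) 0) rl1908 rl3956))))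

/-- the part of the table that contains a row, by its digits of weight 256 to 2048 -/
noncomputable def sel3_117 (a : ℕ) : ℕ :=
  (cond (Nat.beq (Nat.land a 256) 0) (cond (Nat.beq (Nat.land a 512) 0) (cond (Nat.beq (Nat.land a 1024) 0) (cond (Nat.beq (Nat.land a 2048) 0) rl117 rl2165) (cond (Nat.beq (Nat.land a 2048) 0) rl1141 rl3189)) (cond (Nat.beq (Nat.land a 1024) 0) (cond (Nat.beq (Nat.land a 2048) 0) rl629 rl2677) (cond (Nat.beq (Nat.land a 2048) 0) rl1653 rl3701))) (cond (Nat.beq (Nat.land a 512) 0) (cond (Nat.beq (Nat.land a 1024) 0) (cond (Nat.beq (Nat.land a 2048) 0) rl373 rl2421) (cond (Nat.beq (Nat.land a 2048) 0) rl1397 rl3445)) (cond (Nat.beq (Nat.land a 1024) 0) (cond (Nat.beq (Nat.land a 2048) 0) rl885 rl2933) (cond (Nat.beq (Nat.land a 2048) 0) rl1909 rl3957))))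

/-- the part of the table that contains a row, by its digits of weight 256 to 2048 -/
noncomputable def sel3_118 (a : ℕ) : ℕ :=
  (cond (Nat.beq (Nat.land a 256) 0) (cond (Nat.beq (Nat.land a 512) 0) (cond (Nat.beq (Nat.land a 1024) 0) (cond (Nat.beq (Nat.land a 2048) 0) rl118 rl2166) (cond (Nat.beq (Nat.land a 2048) 0) rl1142 rl3190)) (cond (Nat.beq (Nat.land a 1024) 0) (cond (Nat.beq (Nat.land a 2048) 0) rl630 rl2678) (cond (Nat.beq (Nat.land a 2048) 0) rl1654 rl3702))) (cond (Nat.beq (Nat.land a 512) 0) (cond (Nat.beq (Nat.land a 1024) 0) (cond (Nat.beq (Nat.land a 2048) 0) rl374 rl2422) (cond (Nat.beq (Nat.land a 2048) 0) rl1398 rl3446)) (cond (Nat.beq (Nat.land a 1024) 0) (cond (Nat.beq (Nat.land a 2048) 0) rl886 rl2934) (cond (Nat.beq (Nat.land a 2048) 0) rl1910 rl3958))))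

/-- the part of the table that contains a row, by its digits of weight 256 to 2048 -/
noncomputable def sel3_119 (a : ℕ) : ℕ :=
  (cond (Nat.beq (Nat.land a 256) 0) (cond (Nat.beq (Nat.land a 512) 0) (cond (Nat.beq (Nat.land a 1024) 0) (cond (Nat.beq (Nat.land a 2048) 0) rl119 rl2167) (cond (Nat.beq (Nat.land a 2048) 0) rl1143 rl3191)) (cond (Nat.beq (Nat.land a 1024) 0) (cond (Nat.beq (Nat.land a 2048) 0) rl631 rl2679) (cond (Nat.beq (Nat.land a 2048) 0) rl1655 rl3703))) (cond (Nat.beq (Nat.land a 512) 0) (cond (Nat.beq (Nat.land a 1024) 0) (cond (Nat.beq (Nat.land a 2048) 0) rl375 rl2423) (cond (Nat.beq (Nat.land a 2048) 0) rl1399 rl3447)) (cond (Nat.beq (Nat.land a 1024) 0) (cond (Nat.beq (Nat.land a 2048) 0) rl887 rl2935) (cond (Nat.beq (Nat.land a 2048) 0) rl1911 rl3959))))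

/-- the part of the table that contains a row, by its digits of weight 256 to 2048 -/
noncomputable def sel3_120 (a : ℕ) : ℕ :=
  (cond (Nat.beq (Nat.land a 256) 0) (cond (Nat.beq (Nat.land a 512) 0) (cond (Nat.beq (Nat.land a 1024) 0) (cond (Nat.beq (Nat.land a 2048) 0) rl120 rl2168) (cond (Nat.beq (Nat.land a 2048) 0) rl1144 rl3192)) (cond (Nat.beq (Nat.land a 1024) 0) (cond (Nat.beq (Nat.land a 2048) 0) rl632 rl2680) (cond (Nat.beq (Nat.land a 2048) 0) rl1656 rl3704))) (cond (Nat.beq (Nat.land a 512) 0) (cond (Nat.beq (Nat.land a 1024) 0) (cond (Nat.beq (Nat.land a 2048) 0) rl376 rl2424) (cond (Nat.beq (Nat.land a 2048) 0) rl1400 rl3448)) (cond (Nat.beq (Nat.land a 1024) 0) (cond (Nat.beq (Nat.land a 2048) 0) rl888 rl2936) (cond (Nat.beq (Nat.land a 2048) 0) rl1912 rl3960))))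

/-- the part of the table that contains a row, by its digits of weight 256 to 2048 -/
noncomputable def sel3_121 (a : ℕ) : ℕ :=
  (cond (Nat.beq (Nat.land a 256) 0) (cond (Nat.beq (Nat.land a 512) 0) (cond (Nat.beq (Nat.land a 1024) 0) (cond (Nat.beq (Nat.land a 2048) 0) rl121 rl2169) (cond (Nat.beq (Nat.land a 2048) 0) rl1145 rl3193)) (cond (Nat.beq (Nat.land a 1024) 0) (cond (Nat.beq (Nat.land a 2048) 0) rl633 rl2681) (cond (Nat.beq (Nat.land a 2048) 0) rl1657 rl3705))) (cond (Nat.beq (Nat.land a 512) 0) (cond (Nat.beq (Nat.land a 1024) 0) (cond (Nat.beq (Nat.land a 2048) 0) rl377 rl2425) (cond (Nat.beq (Nat.land a 2048) 0) rl1401 rl3449)) (cond (Nat.beq (Nat.land a 1024) 0) (cond (Nat.beq (Nat.land a 2048) 0) rl889 rl2937) (cond (Nat.beq (Nat.land a 2048) 0) rl1913 rl3961))))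

/-- the part of the table that contains a row, by its digits of weight 256 to 2048 -/
noncomputable def sel3_122 (a : ℕ) : ℕ :=
  (cond (Nat.beq (Nat.land a 256) 0) (cond (Nat.beq (Nat.land a 512) 0) (cond (Nat.beq (Nat.land a 1024) 0) (cond (Nat.beq (Nat.land a 2048) 0) rl122 rl2170) (cond (Nat.beq (Nat.land a 2048) 0) rl1146 rl3194)) (cond (Nat.beq (Nat.land a 1024) 0) (cond (Nat.beq (Nat.land a 2048) 0) rl634 rl2682) (cond (Nat.beq (Nat.land a 2048) 0) rl1658 rl3706))) (cond (Nat.beq (Nat.land a 512) 0) (cond (Nat.beq (Nat.land a 1024) 0) (cond (Nat.beq (Nat.land a 2048) 0) rl378 rl2426) (cond (Nat.beq (Nat.land a 2048) 0) rl1402 rl3450)) (cond (Nat.beq (Nat.land a 1024) 0) (cond (Nat.beq (Nat.land a 2048) 0) rl890 rl2938) (cond (Nat.beq (Nat.land a 2048) 0) rl1914 rl3962))))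

/-- the part of the table that contains a row, by its digits of weight 256 to 2048 -/
noncomputable def sel3_123 (a : ℕ) : ℕ :=
  (cond (Nat.beq (Nat.land a 256) 0) (cond (Nat.beq (Nat.land a 512) 0) (cond (Nat.beq (Nat.land a 1024) 0) (cond (Nat.beq (Nat.land a 2048) 0) rl123 rl2171) (cond (Nat.beq (Nat.land a 2048) 0) rl1147 rl3195)) (cond (Nat.beq (Nat.land a 1024) 0) (cond (Nat.beq (Nat.land a 2048) 0) rl635 rl2683) (cond (Nat.beq (Nat.land a 2048) 0) rl1659 rl3707))) (cond (Nat.beq (Nat.land a 512) 0) (cond (Nat.beq (Nat.land a 1024) 0) (cond (Nat.beq (Nat.land a 2048) 0) rl379 rl2427) (cond (Nat.beq (Nat.land a 2048) 0) rl1403 rl3451)) (cond (Nat.beq (Nat.land a 1024) 0) (cond (Nat.beq (Nat.land a 2048) 0) rl891 rl2939) (cond (Nat.beq (Nat.land a 2048) 0) rl1915 rl3963))))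

/-- the part of the table that contains a row, by its digits of weight 256 to 2048 -/
noncomputable def sel3_124 (a : ℕ) : ℕ :=
  (cond (Nat.beq (Nat.land a 256) 0) (cond (Nat.beq (Nat.land a 512) 0) (cond (Nat.beq (Nat.land a 1024) 0) (cond (Nat.beq (Nat.land a 2048) 0) rl124 rl2172) (cond (Nat.beq (Nat.land a 2048) 0) rl1148 rl3196)) (cond (Nat.beq (Nat.land a 1024) 0) (cond (Nat.beq (Nat.land a 2048) 0) rl636 rl2684) (cond (Nat.beq (Nat.land a 2048) 0) rl1660 rl3708))) (cond (Nat.beq (Nat.land a 512) 0) (cond (Nat.beq (Nat.land a 1024) 0) (cond (Nat.beq (Nat.land a 2048) 0) rl380 rl2428) (cond (Nat.beq (Nat.land a 2048) 0) rl1404 rl3452)) (cond (Nat.beq (Nat.land a 1024) 0) (cond (Nat.beq (Nat.land a 2048) 0) rl892 rl2940) (cond (Nat.beq (Nat.land a 2048) 0) rl1916 rl3964))))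

/-- the part of the table that contains a row, by its digits of weight 256 to 2048 -/
noncomputable def sel3_125 (a : ℕ) : ℕ :=
  (cond (Nat.beq (Nat.land a 256) 0) (cond (Nat.beq (Nat.land a 512) 0) (cond (Nat.beq (Nat.land a 1024) 0) (cond (Nat.beq (Nat.land a 2048) 0) rl125 rl2173) (cond (Nat.beq (Nat.land a 2048) 0) rl1149 rl3197)) (cond (Nat.beq (Nat.land a 1024) 0) (cond (Nat.beq (Nat.land a 2048) 0) rl637 rl2685) (cond (Nat.beq (Nat.land a 2048) 0) rl1661 rl3709))) (cond (Nat.beq (Nat.land a 512) 0) (cond (Nat.beq (Nat.land a 1024) 0) (cond (Nat.beq (Nat.land a 2048) 0) rl381 rl2429) (cond (Nat.beq (Nat.land a 2048) 0) rl1405 rl3453)) (cond (Nat.beq (Nat.land a 1024) 0) (cond (Nat.beq (Nat.land a 2048) 0) rl893 rl2941) (cond (Nat.beq (Nat.land a 2048) 0) rl1917 rl3965))))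

/-- the part of the table that contains a row, by its digits of weight 256 to 2048 -/
noncomputable def sel3_126 (a : ℕ) : ℕ :=
  (cond (Nat.beq (Nat.land a 256) 0) (cond (Nat.beq (Nat.land a 512) 0) (cond (Nat.beq (Nat.land a 1024) 0) (cond (Nat.beq (Nat.land a 2048) 0) rl126 rl2174) (cond (Nat.beq (Nat.land a 2048) 0) rl1150 rl3198)) (cond (Nat.beq (Nat.land a 1024) 0) (cond (Nat.beq (Nat.land a 2048) 0) rl638 rl2686) (cond (Nat.beq (Nat.land a 2048) 0) rl1662 rl3710))) (cond (Nat.beq (Nat.land a 512) 0) (cond (Nat.beq (Nat.land a 1024) 0) (cond (Nat.beq (Nat.land a 2048) 0) rl382 rl2430) (cond (Nat.beq (Nat.land a 2048) 0) rl1406 rl3454)) (cond (Nat.beq (Nat.land a 1024) 0) (cond (Nat.beq (Nat.land a 2048) 0) rl894 rl2942) (cond (Nat.beq (Nat.land a 2048) 0) rl1918 rl3966))))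

/-- the part of the table that contains a row, by its digits of weight 256 to 2048 -/
noncomputable def sel3_127 (a : ℕ) : ℕ :=
  (cond (Nat.beq (Nat.land a 256) 0) (cond (Nat.beq (Nat.land a 512) 0) (cond (Nat.beq (Nat.land a 1024) 0) (cond (Nat.beq (Nat.land a 2048) 0) rl127 rl2175) (cond (Nat.beq (Nat.land a 2048) 0) rl1151 rl3199)) (cond (Nat.beq (Nat.land a 1024) 0) (cond (Nat.beq (Nat.land a 2048) 0) rl639 rl2687) (cond (Nat.beq (Nat.land a 2048) 0) rl1663 rl3711))) (cond (Nat.beq (Nat.land a 512) 0) (cond (Nat.beq (Nat.land a 1024) 0) (cond (Nat.beq (Nat.land a 2048) 0) rl383 rl2431) (cond (Nat.beq (Nat.land a 2048) 0) rl1407 rl3455)) (cond (Nat.beq (Nat.land a 1024) 0) (cond (Nat.beq (Nat.land a 2048) 0) rl895 rl2943) (cond (Nat.beq (Nat.land a 2048) 0) rl1919 rl3967))))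

/-- the part of the table that contains a row, by its digits of weight 256 to 2048 -/
noncomputable def sel3_128 (a : ℕ) : ℕ :=
  (cond (Nat.beq (Nat.land a 256) 0) (cond (Nat.beq (Nat.land a 512) 0) (cond (Nat.beq (Nat.land a 1024) 0) (cond (Nat.beq (Nat.land a 2048) 0) rl128 rl2176) (cond (Nat.beq (Nat.land a 2048) 0) rl1152 rl3200)) (cond (Nat.beq (Nat.land a 1024) 0) (cond (Nat.beq (Nat.land a 2048) 0) rl640 rl2688) (cond (Nat.beq (Nat.land a 2048) 0) rl1664 rl3712))) (cond (Nat.beq (Nat.land a 512) 0) (cond (Nat.beq (Nat.land a 1024) 0) (cond (Nat.beq (Nat.land a 2048) 0) rl384 rl2432) (cond (Nat.beq (Nat.land a 2048) 0) rl1408 rl3456)) (cond (Nat.beq (Nat.land a 1024) 0) (cond (Nat.beq (Nat.land a 2048) 0) rl896 rl2944) (cond (Nat.beq (Nat.land a 2048) 0) rl1920 rl3968))))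

/-- the part of the table that contains a row, by its digits of weight 256 to 2048 -/
noncomputable def sel3_129 (a : ℕ) : ℕ :=
  (cond (Nat.beq (Nat.land a 256) 0) (cond (Nat.beq (Nat.land a 512) 0) (cond (Nat.beq (Nat.land a 1024) 0) (cond (Nat.beq (Nat.land a 2048) 0) rl129 rl2177) (cond (Nat.beq (Nat.land a 2048) 0) rl1153 rl3201)) (cond (Nat.beq (Nat.land a 1024) 0) (cond (Nat.beq (Nat.land a 2048) 0) rl641 rl2689) (cond (Nat.beq (Nat.land a 2048) 0) rl1665 rl3713))) (cond (Nat.beq (Nat.land a 512) 0) (cond (Nat.beq (Nat.land a 1024) 0) (cond (Nat.beq (Nat.land a 2048) 0) rl385 rl2433) (cond (Nat.beq (Nat.land a 2048) 0) rl1409 rl3457)) (cond (Nat.beq (Nat.land a 1024) 0) (cond (Nat.beq (Nat.land a 2048) 0) rl897 rl2945) (cond (Nat.beq (Nat.land a 2048) 0) rl1921 rl3969))))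

/-- the part of the table that contains a row, by its digits of weight 256 to 2048 -/
noncomputable def sel3_130 (a : ℕ) : ℕ :=
  (cond (Nat.beq (Nat.land a 256) 0) (cond (Nat.beq (Nat.land a 512) 0) (cond (Nat.beq (Nat.land a 1024) 0) (cond (Nat.beq (Nat.land a 2048) 0) rl130 rl2178) (cond (Nat.beq (Nat.land a 2048) 0) rl1154 rl3202)) (cond (Nat.beq (Nat.land a 1024) 0) (cond (Nat.beq (Nat.land a 2048) 0) rl642 rl2690) (cond (Nat.beq (Nat.land a 2048) 0) rl1666 rl3714))) (cond (Nat.beq (Nat.land a 512) 0) (cond (Nat.beq (Nat.land a 1024) 0) (cond (Nat.beq (Nat.land a 2048) 0) rl386 rl2434) (cond (Nat.beq (Nat.land a 2048) 0) rl1410 rl3458)) (cond (Nat.beq (Nat.land a 1024) 0) (cond (Nat.beq (Nat.land a 2048) 0) rl898 rl2946) (cond (Nat.beq (Nat.land a 2048) 0) rl1922 rl3970))))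

/-- the part of the table that contains a row, by its digits of weight 256 to 2048 -/
noncomputable def sel3_131 (a : ℕ) : ℕ :=
  (cond (Nat.beq (Nat.land a 256) 0) (cond (Nat.beq (Nat.land a 512) 0) (cond (Nat.beq (Nat.land a 1024) 0) (cond (Nat.beq (Nat.land a 2048) 0) rl131 rl2179) (cond (Nat.beq (Nat.land a 2048) 0) rl1155 rl3203)) (cond (Nat.beq (Nat.land a 1024) 0) (cond (Nat.beq (Nat.land a 2048) 0) rl643 rl2691) (cond (Nat.beq (Nat.land a 2048) 0) rl1667 rl3715))) (cond (Nat.beq (Nat.land a 512) 0) (cond (Nat.beq (Nat.land a 1024) 0) (cond (Nat.beq (Nat.land a 2048) 0) rl387 rl2435) (cond (Nat.beq (Nat.land a 2048) 0) rl1411 rl3459)) (cond (Nat.beq (Nat.land a 1024) 0) (cond (Nat.beq (Nat.land a 2048) 0) rl899 rl2947) (cond (Nat.beq (Nat.land a 2048) 0) rl1923 rl3971))))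

/-- the part of the table that contains a row, by its digits of weight 256 to 2048 -/
noncomputable def sel3_132 (a : ℕ) : ℕ :=
  (cond (Nat.beq (Nat.land a 256) 0) (cond (Nat.beq (Nat.land a 512) 0) (cond (Nat.beq (Nat.land a 1024) 0) (cond (Nat.beq (Nat.land a 2048) 0) rl132 rl2180) (cond (Nat.beq (Nat.land a 2048) 0) rl1156 rl3204)) (cond (Nat.beq (Nat.land a 1024) 0) (cond (Nat.beq (Nat.land a 2048) 0) rl644 rl2692) (cond (Nat.beq (Nat.land a 2048) 0) rl1668 rl3716))) (cond (Nat.beq (Nat.land a 512) 0) (cond (Nat.beq (Nat.land a 1024) 0) (cond (Nat.beq (Nat.land a 2048) 0) rl388 rl2436) (cond (Nat.beq (Nat.land a 2048) 0) rl1412 rl3460)) (cond (Nat.beq (Nat.land a 1024) 0) (cond (Nat.beq (Nat.land a 2048) 0) rl900 rl2948) (cond (Nat.beq (Nat.land a 2048) 0) rl1924 rl3972))))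

/-- the part of the table that contains a row, by its digits of weight 256 to 2048 -/
noncomputable def sel3_133 (a : ℕ) : ℕ :=
  (cond (Nat.beq (Nat.land a 256) 0) (cond (Nat.beq (Nat.land a 512) 0) (cond (Nat.beq (Nat.land a 1024) 0) (cond (Nat.beq (Nat.land a 2048) 0) rl133 rl2181) (cond (Nat.beq (Nat.land a 2048) 0) rl1157 rl3205)) (cond (Nat.beq (Nat.land a 1024) 0) (cond (Nat.beq (Nat.land a 2048) 0) rl645 rl2693) (cond (Nat.beq (Nat.land a 2048) 0) rl1669 rl3717))) (cond (Nat.beq (Nat.land a 512) 0) (cond (Nat.beq (Nat.land a 1024) 0) (cond (Nat.beq (Nat.land a 2048) 0) rl389 rl2437) (cond (Nat.beq (Nat.land a 2048) 0) rl1413 rl3461)) (cond (Nat.beq (Nat.land a 1024) 0) (cond (Nat.beq (Nat.land a 2048) 0) rl901 rl2949) (cond (Nat.beq (Nat.land a 2048) 0) rl1925 rl3973))))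

/-- the part of the table that contains a row, by its digits of weight 256 to 2048 -/
noncomputable def sel3_134 (a : ℕ) : ℕ :=
  (cond (Nat.beq (Nat.land a 256) 0) (cond (Nat.beq (Nat.land a 512) 0) (cond (Nat.beq (Nat.land a 1024) 0) (cond (Nat.beq (Nat.land a 2048) 0) rl134 rl2182) (cond (Nat.beq (Nat.land a 2048) 0) rl1158 rl3206)) (cond (Nat.beq (Nat.land a 1024) 0) (cond (Nat.beq (Nat.land a 2048) 0) rl646 rl2694) (cond (Nat.beq (Nat.land a 2048) 0) rl1670 rl3718))) (cond (Nat.beq (Nat.land a 512) 0) (cond (Nat.beq (Nat.land a 1024) 0) (cond (Nat.beq (Nat.land a 2048) 0) rl390 rl2438) (cond (Nat.beq (Nat.land a 2048) 0) rl1414 rl3462)) (cond (Nat.beq (Nat.land a 1024) 0) (cond (Nat.beq (Nat.land a 2048) 0) rl902 rl2950) (cond (Nat.beq (Nat.land a 2048) 0) rl1926 rl3974))))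

/-- the part of the table that contains a row, by its digits of weight 256 to 2048 -/
noncomputable def sel3_135 (a : ℕ) : ℕ :=
  (cond (Nat.beq (Nat.land a 256) 0) (cond (Nat.beq (Nat.land a 512) 0) (cond (Nat.beq (Nat.land a 1024) 0) (cond (Nat.beq (Nat.land a 2048) 0) rl135 rl2183) (cond (Nat.beq (Nat.land a 2048) 0) rl1159 rl3207)) (cond (Nat.beq (Nat.land a 1024) 0) (cond (Nat.beq (Nat.land a 2048) 0) rl647 rl2695) (cond (Nat.beq (Nat.land a 2048) 0) rl1671 rl3719))) (cond (Nat.beq (Nat.land a 512) 0) (cond (Nat.beq (Nat.land a 1024) 0) (cond (Nat.beq (Nat.land a 2048) 0) rl391 rl2439) (cond (Nat.beq (Nat.land a 2048) 0) rl1415 rl3463)) (cond (Nat.beq (Nat.land a 1024) 0) (cond (Nat.beq (Nat.land a 2048) 0) rl903 rl2951) (cond (Nat.beq (Nat.land a 2048) 0) rl1927 rl3975))))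

/-- the part of the table that contains a row, by its digits of weight 256 to 2048 -/
noncomputable def sel3_136 (a : ℕ) : ℕ :=
  (cond (Nat.beq (Nat.land a 256) 0) (cond (Nat.beq (Nat.land a 512) 0) (cond (Nat.beq (Nat.land a 1024) 0) (cond (Nat.beq (Nat.land a 2048) 0) rl136 rl2184) (cond (Nat.beq (Nat.land a 2048) 0) rl1160 rl3208)) (cond (Nat.beq (Nat.land a 1024) 0) (cond (Nat.beq (Nat.land a 2048) 0) rl648 rl2696) (cond (Nat.beq (Nat.land a 2048) 0) rl1672 rl3720))) (cond (Nat.beq (Nat.land a 512) 0) (cond (Nat.beq (Nat.land a 1024) 0) (cond (Nat.beq (Nat.land a 2048) 0) rl392 rl2440) (cond (Nat.beq (Nat.land a 2048) 0) rl1416 rl3464)) (cond (Nat.beq (Nat.land a 1024) 0) (cond (Nat.beq (Nat.land a 2048) 0) rl904 rl2952) (cond (Nat.beq (Nat.land a 2048) 0) rl1928 rl3976))))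

/-- the part of the table that contains a row, by its digits of weight 256 to 2048 -/
noncomputable def sel3_137 (a : ℕ) : ℕ :=
  (cond (Nat.beq (Nat.land a 256) 0) (cond (Nat.beq (Nat.land a 512) 0) (cond (Nat.beq (Nat.land a 1024) 0) (cond (Nat.beq (Nat.land a 2048) 0) rl137 rl2185) (cond (Nat.beq (Nat.land a 2048) 0) rl1161 rl3209)) (cond (Nat.beq (Nat.land a 1024) 0) (cond (Nat.beq (Nat.land a 2048) 0) rl649 rl2697) (cond (Nat.beq (Nat.land a 2048) 0) rl1673 rl3721))) (cond (Nat.beq (Nat.land a 512) 0) (cond (Nat.beq (Nat.land a 1024) 0) (cond (Nat.beq (Nat.land a 2048) 0) rl393 rl2441) (cond (Nat.beq (Nat.land a 2048) 0) rl1417 rl3465)) (cond (Nat.beq (Nat.land a 1024) 0) (cond (Nat.beq (Nat.land a 2048) 0) rl905 rl2953) (cond (Nat.beq (Nat.land a 2048) 0) rl1929 rl3977))))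

/-- the part of the table that contains a row, by its digits of weight 256 to 2048 -/
noncomputable def sel3_138 (a : ℕ) : ℕ :=
  (cond (Nat.beq (Nat.land a 256) 0) (cond (Nat.beq (Nat.land a 512) 0) (cond (Nat.beq (Nat.land a 1024) 0) (cond (Nat.beq (Nat.land a 2048) 0) rl138 rl2186) (cond (Nat.beq (Nat.land a 2048) 0) rl1162 rl3210)) (cond (Nat.beq (Nat.land a 1024) 0) (cond (Nat.beq (Nat.land a 2048) 0) rl650 rl2698) (cond (Nat.beq (Nat.land a 2048) 0) rl1674 rl3722))) (cond (Nat.beq (Nat.land a 512) 0) (cond (Nat.beq (Nat.land a 1024) 0) (cond (Nat.beq (Nat.land a 2048) 0) rl394 rl2442) (cond (Nat.beq (Nat.land a 2048) 0) rl1418 rl3466)) (cond (Nat.beq (Nat.land a 1024) 0) (cond (Nat.beq (Nat.land a 2048) 0) rl906 rl2954) (cond (Nat.beq (Nat.land a 2048) 0) rl1930 rl3978))))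

/-- the part of the table that contains a row, by its digits of weight 256 to 2048 -/
noncomputable def sel3_139 (a : ℕ) : ℕ :=
  (cond (Nat.beq (Nat.land a 256) 0) (cond (Nat.beq (Nat.land a 512) 0) (cond (Nat.beq (Nat.land a 1024) 0) (cond (Nat.beq (Nat.land a 2048) 0) rl139 rl2187) (cond (Nat.beq (Nat.land a 2048) 0) rl1163 rl3211)) (cond (Nat.beq (Nat.land a 1024) 0) (cond (Nat.beq (Nat.land a 2048) 0) rl651 rl2699) (cond (Nat.beq (Nat.land a 2048) 0) rl1675 rl3723))) (cond (Nat.beq (Nat.land a 512) 0) (cond (Nat.beq (Nat.land a 1024) 0) (cond (Nat.beq (Nat.land a 2048) 0) rl395 rl2443) (cond (Nat.beq (Nat.land a 2048) 0) rl1419 rl3467)) (cond (Nat.beq (Nat.land a 1024) 0) (cond (Nat.beq (Nat.land a 2048) 0) rl907 rl2955) (cond (Nat.beq (Nat.land a 2048) 0) rl1931 rl3979))))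

/-- the part of the table that contains a row, by its digits of weight 256 to 2048 -/
noncomputable def sel3_140 (a : ℕ) : ℕ :=
  (cond (Nat.beq (Nat.land a 256) 0) (cond (Nat.beq (Nat.land a 512) 0) (cond (Nat.beq (Nat.land a 1024) 0) (cond (Nat.beq (Nat.land a 2048) 0) rl140 rl2188) (cond (Nat.beq (Nat.land a 2048) 0) rl1164 rl3212)) (cond (Nat.beq (Nat.land a 1024) 0) (cond (Nat.beq (Nat.land a 2048) 0) rl652 rl2700) (cond (Nat.beq (Nat.land a 2048) 0) rl1676 rl3724))) (cond (Nat.beq (Nat.land a 512) 0) (cond (Nat.beq (Nat.land a 1024) 0) (cond (Nat.beq (Nat.land a 2048) 0) rl396 rl2444) (cond (Nat.beq (Nat.land a 2048) 0) rl1420 rl3468)) (cond (Nat.beq (Nat.land a 1024) 0) (cond (Nat.beq (Nat.land a 2048) 0) rl908 rl2956) (cond (Nat.beq (Nat.land a 2048) 0) rl1932 rl3980))))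

/-- the part of the table that contains a row, by its digits of weight 256 to 2048 -/
noncomputable def sel3_141 (a : ℕ) : ℕ :=
  (cond (Nat.beq (Nat.land a 256) 0) (cond (Nat.beq (Nat.land a 512) 0) (cond (Nat.beq (Nat.land a 1024) 0) (cond (Nat.beq (Nat.land a 2048) 0) rl141 rl2189) (cond (Nat.beq (Nat.land a 2048) 0) rl1165 rl3213)) (cond (Nat.beq (Nat.land a 1024) 0) (cond (Nat.beq (Nat.land a 2048) 0) rl653 rl2701) (cond (Nat.beq (Nat.land a 2048) 0) rl1677 rl3725))) (cond (Nat.beq (Nat.land a 512) 0) (cond (Nat.beq (Nat.land a 1024) 0) (cond (Nat.beq (Nat.land a 2048) 0) rl397 rl2445) (cond (Nat.beq (Nat.land a 2048) 0) rl1421 rl3469)) (cond (Nat.beq (Nat.land a 1024) 0) (cond (Nat.beq (Nat.land a 2048) 0) rl909 rl2957) (cond (Nat.beq (Nat.land a 2048) 0) rl1933 rl3981))))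

/-- the part of the table that contains a row, by its digits of weight 256 to 2048 -/
noncomputable def sel3_142 (a : ℕ) : ℕ :=
  (cond (Nat.beq (Nat.land a 256) 0) (cond (Nat.beq (Nat.land a 512) 0) (cond (Nat.beq (Nat.land a 1024) 0) (cond (Nat.beq (Nat.land a 2048) 0) rl142 rl2190) (cond (Nat.beq (Nat.land a 2048) 0) rl1166 rl3214)) (cond (Nat.beq (Nat.land a 1024) 0) (cond (Nat.beq (Nat.land a 2048) 0) rl654 rl2702) (cond (Nat.beq (Nat.land a 2048) 0) rl1678 rl3726))) (cond (Nat.beq (Nat.land a 512) 0) (cond (Nat.beq (Nat.land a 1024) 0) (cond (Nat.beq (Nat.land a 2048) 0) rl398 rl2446) (cond (Nat.beq (Nat.land a 2048) 0) rl1422 rl3470)) (cond (Nat.beq (Nat.land a 1024) 0) (cond (Nat.beq (Nat.land a 2048) 0) rl910 rl2958) (cond (Nat.beq (Nat.land a 2048) 0) rl1934 rl3982))))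

/-- the part of the table that contains a row, by its digits of weight 256 to 2048 -/
noncomputable def sel3_143 (a : ℕ) : ℕ :=
  (cond (Nat.beq (Nat.land a 256) 0) (cond (Nat.beq (Nat.land a 512) 0) (cond (Nat.beq (Nat.land a 1024) 0) (cond (Nat.beq (Nat.land a 2048) 0) rl143 rl2191) (cond (Nat.beq (Nat.land a 2048) 0) rl1167 rl3215)) (cond (Nat.beq (Nat.land a 1024) 0) (cond (Nat.beq (Nat.land a 2048) 0) rl655 rl2703) (cond (Nat.beq (Nat.land a 2048) 0) rl1679 rl3727))) (cond (Nat.beq (Nat.land a 512) 0) (cond (Nat.beq (Nat.land a 1024) 0) (cond (Nat.beq (Nat.land a 2048) 0) rl399 rl2447) (cond (Nat.beq (Nat.land a 2048) 0) rl1423 rl3471)) (cond (Nat.beq (Nat.land a 1024) 0) (cond (Nat.beq (Nat.land a 2048) 0) rl911 rl2959) (cond (Nat.beq (Nat.land a 2048) 0) rl1935 rl3983))))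

/-- the part of the table that contains a row, by its digits of weight 256 to 2048 -/
noncomputable def sel3_144 (a : ℕ) : ℕ :=
  (cond (Nat.beq (Nat.land a 256) 0) (cond (Nat.beq (Nat.land a 512) 0) (cond (Nat.beq (Nat.land a 1024) 0) (cond (Nat.beq (Nat.land a 2048) 0) rl144 rl2192) (cond (Nat.beq (Nat.land a 2048) 0) rl1168 rl3216)) (cond (Nat.beq (Nat.land a 1024) 0) (cond (Nat.beq (Nat.land a 2048) 0) rl656 rl2704) (cond (Nat.beq (Nat.land a 2048) 0) rl1680 rl3728))) (cond (Nat.beq (Nat.land a 512) 0) (cond (Nat.beq (Nat.land a 1024) 0) (cond (Nat.beq (Nat.land a 2048) 0) rl400 rl2448) (cond (Nat.beq (Nat.land a 2048) 0) rl1424 rl3472)) (cond (Nat.beq (Nat.land a 1024) 0) (cond (Nat.beq (Nat.land a 2048) 0) rl912 rl2960) (cond (Nat.beq (Nat.land a 2048) 0) rl1936 rl3984))))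

/-- the part of the table that contains a row, by its digits of weight 256 to 2048 -/
noncomputable def sel3_145 (a : ℕ) : ℕ :=
  (cond (Nat.beq (Nat.land a 256) 0) (cond (Nat.beq (Nat.land a 512) 0) (cond (Nat.beq (Nat.land a 1024) 0) (cond (Nat.beq (Nat.land a 2048) 0) rl145 rl2193) (cond (Nat.beq (Nat.land a 2048) 0) rl1169 rl3217)) (cond (Nat.beq (Nat.land a 1024) 0) (cond (Nat.beq (Nat.land a 2048) 0) rl657 rl2705) (cond (Nat.beq (Nat.land a 2048) 0) rl1681 rl3729))) (cond (Nat.beq (Nat.land a 512) 0) (cond (Nat.beq (Nat.land a 1024) 0) (cond (Nat.beq (Nat.land a 2048) 0) rl401 rl2449) (cond (Nat.beq (Nat.land a 2048) 0) rl1425 rl3473)) (cond (Nat.beq (Nat.land a 1024) 0) (cond (Nat.beq (Nat.land a 2048) 0) rl913 rl2961) (cond (Nat.beq (Nat.land a 2048) 0) rl1937 rl3985))))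

/-- the part of the table that contains a row, by its digits of weight 256 to 2048 -/
noncomputable def sel3_146 (a : ℕ) : ℕ :=
  (cond (Nat.beq (Nat.land a 256) 0) (cond (Nat.beq (Nat.land a 512) 0) (cond (Nat.beq (Nat.land a 1024) 0) (cond (Nat.beq (Nat.land a 2048) 0) rl146 rl2194) (cond (Nat.beq (Nat.land a 2048) 0) rl1170 rl3218)) (cond (Nat.beq (Nat.land a 1024) 0) (cond (Nat.beq (Nat.land a 2048) 0) rl658 rl2706) (cond (Nat.beq (Nat.land a 2048) 0) rl1682 rl3730))) (cond (Nat.beq (Nat.land a 512) 0) (cond (Nat.beq (Nat.land a 1024) 0) (cond (Nat.beq (Nat.land a 2048) 0) rl402 rl2450) (cond (Nat.beq (Nat.land a 2048) 0) rl1426 rl3474)) (cond (Nat.beq (Nat.land a 1024) 0) (cond (Nat.beq (Nat.land a 2048) 0) rl914 rl2962) (cond (Nat.beq (Nat.land a 2048) 0) rl1938 rl3986))))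

/-- the part of the table that contains a row, by its digits of weight 256 to 2048 -/
noncomputable def sel3_147 (a : ℕ) : ℕ :=
  (cond (Nat.beq (Nat.land a 256) 0) (cond (Nat.beq (Nat.land a 512) 0) (cond (Nat.beq (Nat.land a 1024) 0) (cond (Nat.beq (Nat.land a 2048) 0) rl147 rl2195) (cond (Nat.beq (Nat.land a 2048) 0) rl1171 rl3219)) (cond (Nat.beq (Nat.land a 1024) 0) (cond (Nat.beq (Nat.land a 2048) 0) rl659 rl2707) (cond (Nat.beq (Nat.land a 2048) 0) rl1683 rl3731))) (cond (Nat.beq (Nat.land a 512) 0) (cond (Nat.beq (Nat.land a 1024) 0) (cond (Nat.beq (Nat.land a 2048) 0) rl403 rl2451) (cond (Nat.beq (Nat.land a 2048) 0) rl1427 rl3475)) (cond (Nat.beq (Nat.land a 1024) 0) (cond (Nat.beq (Nat.land a 2048) 0) rl915 rl2963) (cond (Nat.beq (Nat.land a 2048) 0) rl1939 rl3987))))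

/-- the part of the table that contains a row, by its digits of weight 256 to 2048 -/
noncomputable def sel3_148 (a : ℕ) : ℕ :=
  (cond (Nat.beq (Nat.land a 256) 0) (cond (Nat.beq (Nat.land a 512) 0) (cond (Nat.beq (Nat.land a 1024) 0) (cond (Nat.beq (Nat.land a 2048) 0) rl148 rl2196) (cond (Nat.beq (Nat.land a 2048) 0) rl1172 rl3220)) (cond (Nat.beq (Nat.land a 1024) 0) (cond (Nat.beq (Nat.land a 2048) 0) rl660 rl2708) (cond (Nat.beq (Nat.land a 2048) 0) rl1684 rl3732))) (cond (Nat.beq (Nat.land a 512) 0) (cond (Nat.beq (Nat.land a 1024) 0) (cond (Nat.beq (Nat.land a 2048) 0) rl404 rl2452) (cond (Nat.beq (Nat.land a 2048) 0) rl1428 rl3476)) (cond (Nat.beq (Nat.land a 1024) 0) (cond (Nat.beq (Nat.land a 2048) 0) rl916 rl2964) (cond (Nat.beq (Nat.land a 2048) 0) rl1940 rl3988))))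

/-- the part of the table that contains a row, by its digits of weight 256 to 2048 -/
noncomputable def sel3_149 (a : ℕ) : ℕ :=
  (cond (Nat.beq (Nat.land a 256) 0) (cond (Nat.beq (Nat.land a 512) 0) (cond (Nat.beq (Nat.land a 1024) 0) (cond (Nat.beq (Nat.land a 2048) 0) rl149 rl2197) (cond (Nat.beq (Nat.land a 2048) 0) rl1173 rl3221)) (cond (Nat.beq (Nat.land a 1024) 0) (cond (Nat.beq (Nat.land a 2048) 0) rl661 rl2709) (cond (Nat.beq (Nat.land a 2048) 0) rl1685 rl3733))) (cond (Nat.beq (Nat.land a 512) 0) (cond (Nat.beq (Nat.land a 1024) 0) (cond (Nat.beq (Nat.land a 2048) 0) rl405 rl2453) (cond (Nat.beq (Nat.land a 2048) 0) rl1429 rl3477)) (cond (Nat.beq (Nat.land a 1024) 0) (cond (Nat.beq (Nat.land a 2048) 0) rl917 rl2965) (cond (Nat.beq (Nat.land a 2048) 0) rl1941 rl3989))))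

/-- the part of the table that contains a row, by its digits of weight 256 to 2048 -/
noncomputable def sel3_150 (a : ℕ) : ℕ :=
  (cond (Nat.beq (Nat.land a 256) 0) (cond (Nat.beq (Nat.land a 512) 0) (cond (Nat.beq (Nat.land a 1024) 0) (cond (Nat.beq (Nat.land a 2048) 0) rl150 rl2198) (cond (Nat.beq (Nat.land a 2048) 0) rl1174 rl3222)) (cond (Nat.beq (Nat.land a 1024) 0) (cond (Nat.beq (Nat.land a 2048) 0) rl662 rl2710) (cond (Nat.beq (Nat.land a 2048) 0) rl1686 rl3734))) (cond (Nat.beq (Nat.land a 512) 0) (cond (Nat.beq (Nat.land a 1024) 0) (cond (Nat.beq (Nat.land a 2048) 0) rl406 rl2454) (cond (Nat.beq (Nat.land a 2048) 0) rl1430 rl3478)) (cond (Nat.beq (Nat.land a 1024) 0) (cond (Nat.beq (Nat.land a 2048) 0) rl918 rl2966) (cond (Nat.beq (Nat.land a 2048) 0) rl1942 rl3990))))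

/-- the part of the table that contains a row, by its digits of weight 256 to 2048 -/
noncomputable def sel3_151 (a : ℕ) : ℕ :=
  (cond (Nat.beq (Nat.land a 256) 0) (cond (Nat.beq (Nat.land a 512) 0) (cond (Nat.beq (Nat.land a 1024) 0) (cond (Nat.beq (Nat.land a 2048) 0) rl151 rl2199) (cond (Nat.beq (Nat.land a 2048) 0) rl1175 rl3223)) (cond (Nat.beq (Nat.land a 1024) 0) (cond (Nat.beq (Nat.land a 2048) 0) rl663 rl2711) (cond (Nat.beq (Nat.land a 2048) 0) rl1687 rl3735))) (cond (Nat.beq (Nat.land a 512) 0) (cond (Nat.beq (Nat.land a 1024) 0) (cond (Nat.beq (Nat.land a 2048) 0) rl407 rl2455) (cond (Nat.beq (Nat.land a 2048) 0) rl1431 rl3479)) (cond (Nat.beq (Nat.land a 1024) 0) (cond (Nat.beq (Nat.land a 2048) 0) rl919 rl2967) (cond (Nat.beq (Nat.land a 2048) 0) rl1943 rl3991))))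

/-- the part of the table that contains a row, by its digits of weight 256 to 2048 -/
noncomputable def sel3_152 (a : ℕ) : ℕ :=
  (cond (Nat.beq (Nat.land a 256) 0) (cond (Nat.beq (Nat.land a 512) 0) (cond (Nat.beq (Nat.land a 1024) 0) (cond (Nat.beq (Nat.land a 2048) 0) rl152 rl2200) (cond (Nat.beq (Nat.land a 2048) 0) rl1176 rl3224)) (cond (Nat.beq (Nat.land a 1024) 0) (cond (Nat.beq (Nat.land a 2048) 0) rl664 rl2712) (cond (Nat.beq (Nat.land a 2048) 0) rl1688 rl3736))) (cond (Nat.beq (Nat.land a 512) 0) (cond (Nat.beq (Nat.land a 1024) 0) (cond (Nat.beq (Nat.land a 2048) 0) rl408 rl2456) (cond (Nat.beq (Nat.land a 2048) 0) rl1432 rl3480)) (cond (Nat.beq (Nat.land a 1024) 0) (cond (Nat.beq (Nat.land a 2048) 0) rl920 rl2968) (cond (Nat.beq (Nat.land a 2048) 0) rl1944 rl3992))))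

/-- the part of the table that contains a row, by its digits of weight 256 to 2048 -/
noncomputable def sel3_153 (a : ℕ) : ℕ :=
  (cond (Nat.beq (Nat.land a 256) 0) (cond (Nat.beq (Nat.land a 512) 0) (cond (Nat.beq (Nat.land a 1024) 0) (cond (Nat.beq (Nat.land a 2048) 0) rl153 rl2201) (cond (Nat.beq (Nat.land a 2048) 0) rl1177 rl3225)) (cond (Nat.beq (Nat.land a 1024) 0) (cond (Nat.beq (Nat.land a 2048) 0) rl665 rl2713) (cond (Nat.beq (Nat.land a 2048) 0) rl1689 rl3737))) (cond (Nat.beq (Nat.land a 512) 0) (cond (Nat.beq (Nat.land a 1024) 0) (cond (Nat.beq (Nat.land a 2048) 0) rl409 rl2457) (cond (Nat.beq (Nat.land a 2048) 0) rl1433 rl3481)) (cond (Nat.beq (Nat.land a 1024) 0) (cond (Nat.beq (Nat.land a 2048) 0) rl921 rl2969) (cond (Nat.beq (Nat.land a 2048) 0) rl1945 rl3993))))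

/-- the part of the table that contains a row, by its digits of weight 256 to 2048 -/
noncomputable def sel3_154 (a : ℕ) : ℕ :=
  (cond (Nat.beq (Nat.land a 256) 0) (cond (Nat.beq (Nat.land a 512) 0) (cond (Nat.beq (Nat.land a 1024) 0) (cond (Nat.beq (Nat.land a 2048) 0) rl154 rl2202) (cond (Nat.beq (Nat.land a 2048) 0) rl1178 rl3226)) (cond (Nat.beq (Nat.land a 1024) 0) (cond (Nat.beq (Nat.land a 2048) 0) rl666 rl2714) (cond (Nat.beq (Nat.land a 2048) 0) rl1690 rl3738))) (cond (Nat.beq (Nat.land a 512) 0) (cond (Nat.beq (Nat.land a 1024) 0) (cond (Nat.beq (Nat.land a 2048) 0) rl410 rl2458) (cond (Nat.beq (Nat.land a 2048) 0) rl1434 rl3482)) (cond (Nat.beq (Nat.land a 1024) 0) (cond (Nat.beq (Nat.land a 2048) 0) rl922 rl2970) (cond (Nat.beq (Nat.land a 2048) 0) rl1946 rl3994))))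

/-- the part of the table that contains a row, by its digits of weight 256 to 2048 -/
noncomputable def sel3_155 (a : ℕ) : ℕ :=
  (cond (Nat.beq (Nat.land a 256) 0) (cond (Nat.beq (Nat.land a 512) 0) (cond (Nat.beq (Nat.land a 1024) 0) (cond (Nat.beq (Nat.land a 2048) 0) rl155 rl2203) (cond (Nat.beq (Nat.land a 2048) 0) rl1179 rl3227)) (cond (Nat.beq (Nat.land a 1024) 0) (cond (Nat.beq (Nat.land a 2048) 0) rl667 rl2715) (cond (Nat.beq (Nat.land a 2048) 0) rl1691 rl3739))) (cond (Nat.beq (Nat.land a 512) 0) (cond (Nat.beq (Nat.land a 1024) 0) (cond (Nat.beq (Nat.land a 2048) 0) rl411 rl2459) (cond (Nat.beq (Nat.land a 2048) 0) rl1435 rl3483)) (cond (Nat.beq (Nat.land a 1024) 0) (cond (Nat.beq (Nat.land a 2048) 0) rl923 rl2971) (cond (Nat.beq (Nat.land a 2048) 0) rl1947 rl3995))))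

/-- the part of the table that contains a row, by its digits of weight 256 to 2048 -/
noncomputable def sel3_156 (a : ℕ) : ℕ :=
  (cond (Nat.beq (Nat.land a 256) 0) (cond (Nat.beq (Nat.land a 512) 0) (cond (Nat.beq (Nat.land a 1024) 0) (cond (Nat.beq (Nat.land a 2048) 0) rl156 rl2204) (cond (Nat.beq (Nat.land a 2048) 0) rl1180 rl3228)) (cond (Nat.beq (Nat.land a 1024) 0) (cond (Nat.beq (Nat.land a 2048) 0) rl668 rl2716) (cond (Nat.beq (Nat.land a 2048) 0) rl1692 rl3740))) (cond (Nat.beq (Nat.land a 512) 0) (cond (Nat.beq (Nat.land a 1024) 0) (cond (Nat.beq (Nat.land a 2048) 0) rl412 rl2460) (cond (Nat.beq (Nat.land a 2048) 0) rl1436 rl3484)) (cond (Nat.beq (Nat.land a 1024) 0) (cond (Nat.beq (Nat.land a 2048) 0) rl924 rl2972) (cond (Nat.beq (Nat.land a 2048) 0) rl1948 rl3996))))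

/-- the part of the table that contains a row, by its digits of weight 256 to 2048 -/
noncomputable def sel3_157 (a : ℕ) : ℕ :=
  (cond (Nat.beq (Nat.land a 256) 0) (cond (Nat.beq (Nat.land a 512) 0) (cond (Nat.beq (Nat.land a 1024) 0) (cond (Nat.beq (Nat.land a 2048) 0) rl157 rl2205) (cond (Nat.beq (Nat.land a 2048) 0) rl1181 rl3229)) (cond (Nat.beq (Nat.land a 1024) 0) (cond (Nat.beq (Nat.land a 2048) 0) rl669 rl2717) (cond (Nat.beq (Nat.land a 2048) 0) rl1693 rl3741))) (cond (Nat.beq (Nat.land a 512) 0) (cond (Nat.beq (Nat.land a 1024) 0) (cond (Nat.beq (Nat.land a 2048) 0) rl413 rl2461) (cond (Nat.beq (Nat.land a 2048) 0) rl1437 rl3485)) (cond (Nat.beq (Nat.land a 1024) 0) (cond (Nat.beq (Nat.land a 2048) 0) rl925 rl2973) (cond (Nat.beq (Nat.land a 2048) 0) rl1949 rl3997))))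

/-- the part of the table that contains a row, by its digits of weight 256 to 2048 -/
noncomputable def sel3_158 (a : ℕ) : ℕ :=
  (cond (Nat.beq (Nat.land a 256) 0) (cond (Nat.beq (Nat.land a 512) 0) (cond (Nat.beq (Nat.land a 1024) 0) (cond (Nat.beq (Nat.land a 2048) 0) rl158 rl2206) (cond (Nat.beq (Nat.land a 2048) 0) rl1182 rl3230)) (cond (Nat.beq (Nat.land a 1024) 0) (cond (Nat.beq (Nat.land a 2048) 0) rl670 rl2718) (cond (Nat.beq (Nat.land a 2048) 0) rl1694 rl3742))) (cond (Nat.beq (Nat.land a 512) 0) (cond (Nat.beq (Nat.land a 1024) 0) (cond (Nat.beq (Nat.land a 2048) 0) rl414 rl2462) (cond (Nat.beq (Nat.land a 2048) 0) rl1438 rl3486)) (cond (Nat.beq (Nat.land a 1024) 0) (cond (Nat.beq (Nat.land a 2048) 0) rl926 rl2974) (cond (Nat.beq (Nat.land a 2048) 0) rl1950 rl3998))))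

/-- the part of the table that contains a row, by its digits of weight 256 to 2048 -/
noncomputable def sel3_159 (a : ℕ) : ℕ :=
  (cond (Nat.beq (Nat.land a 256) 0) (cond (Nat.beq (Nat.land a 512) 0) (cond (Nat.beq (Nat.land a 1024) 0) (cond (Nat.beq (Nat.land a 2048) 0) rl159 rl2207) (cond (Nat.beq (Nat.land a 2048) 0) rl1183 rl3231)) (cond (Nat.beq (Nat.land a 1024) 0) (cond (Nat.beq (Nat.land a 2048) 0) rl671 rl2719) (cond (Nat.beq (Nat.land a 2048) 0) rl1695 rl3743))) (cond (Nat.beq (Nat.land a 512) 0) (cond (Nat.beq (Nat.land a 1024) 0) (cond (Nat.beq (Nat.land a 2048) 0) rl415 rl2463) (cond (Nat.beq (Nat.land a 2048) 0) rl1439 rl3487)) (cond (Nat.beq (Nat.land a 1024) 0) (cond (Nat.beq (Nat.land a 2048) 0) rl927 rl2975) (cond (Nat.beq (Nat.land a 2048) 0) rl1951 rl3999))))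

/-- the part of the table that contains a row, by its digits of weight 256 to 2048 -/
noncomputable def sel3_160 (a : ℕ) : ℕ :=
  (cond (Nat.beq (Nat.land a 256) 0) (cond (Nat.beq (Nat.land a 512) 0) (cond (Nat.beq (Nat.land a 1024) 0) (cond (Nat.beq (Nat.land a 2048) 0) rl160 rl2208) (cond (Nat.beq (Nat.land a 2048) 0) rl1184 rl3232)) (cond (Nat.beq (Nat.land a 1024) 0) (cond (Nat.beq (Nat.land a 2048) 0) rl672 rl2720) (cond (Nat.beq (Nat.land a 2048) 0) rl1696 rl3744))) (cond (Nat.beq (Nat.land a 512) 0) (cond (Nat.beq (Nat.land a 1024) 0) (cond (Nat.beq (Nat.land a 2048) 0) rl416 rl2464) (cond (Nat.beq (Nat.land a 2048) 0) rl1440 rl3488)) (cond (Nat.beq (Nat.land a 1024) 0) (cond (Nat.beq (Nat.land a 2048) 0) rl928 rl2976) (cond (Nat.beq (Nat.land a 2048) 0) rl1952 rl4000))))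

/-- the part of the table that contains a row, by its digits of weight 256 to 2048 -/
noncomputable def sel3_161 (a : ℕ) : ℕ :=
  (cond (Nat.beq (Nat.land a 256) 0) (cond (Nat.beq (Nat.land a 512) 0) (cond (Nat.beq (Nat.land a 1024) 0) (cond (Nat.beq (Nat.land a 2048) 0) rl161 rl2209) (cond (Nat.beq (Nat.land a 2048) 0) rl1185 rl3233)) (cond (Nat.beq (Nat.land a 1024) 0) (cond (Nat.beq (Nat.land a 2048) 0) rl673 rl2721) (cond (Nat.beq (Nat.land a 2048) 0) rl1697 rl3745))) (cond (Nat.beq (Nat.land a 512) 0) (cond (Nat.beq (Nat.land a 1024) 0) (cond (Nat.beq (Nat.land a 2048) 0) rl417 rl2465) (cond (Nat.beq (Nat.land a 2048) 0) rl1441 rl3489)) (cond (Nat.beq (Nat.land a 1024) 0) (cond (Nat.beq (Nat.land a 2048) 0) rl929 rl2977) (cond (Nat.beq (Nat.land a 2048) 0) rl1953 rl4001))))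

/-- the part of the table that contains a row, by its digits of weight 256 to 2048 -/
noncomputable def sel3_162 (a : ℕ) : ℕ :=
  (cond (Nat.beq (Nat.land a 256) 0) (cond (Nat.beq (Nat.land a 512) 0) (cond (Nat.beq (Nat.land a 1024) 0) (cond (Nat.beq (Nat.land a 2048) 0) rl162 rl2210) (cond (Nat.beq (Nat.land a 2048) 0) rl1186 rl3234)) (cond (Nat.beq (Nat.land a 1024) 0) (cond (Nat.beq (Nat.land a 2048) 0) rl674 rl2722) (cond (Nat.beq (Nat.land a 2048) 0) rl1698 rl3746))) (cond (Nat.beq (Nat.land a 512) 0) (cond (Nat.beq (Nat.land a 1024) 0) (cond (Nat.beq (Nat.land a 2048) 0) rl418 rl2466) (cond (Nat.beq (Nat.land a 2048) 0) rl1442 rl3490)) (cond (Nat.beq (Nat.land a 1024) 0) (cond (Nat.beq (Nat.land a 2048) 0) rl930 rl2978) (cond (Nat.beq (Nat.land a 2048) 0) rl1954 rl4002))))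

/-- the part of the table that contains a row, by its digits of weight 256 to 2048 -/
noncomputable def sel3_163 (a : ℕ) : ℕ :=
  (cond (Nat.beq (Nat.land a 256) 0) (cond (Nat.beq (Nat.land a 512) 0) (cond (Nat.beq (Nat.land a 1024) 0) (cond (Nat.beq (Nat.land a 2048) 0) rl163 rl2211) (cond (Nat.beq (Nat.land a 2048) 0) rl1187 rl3235)) (cond (Nat.beq (Nat.land a 1024) 0) (cond (Nat.beq (Nat.land a 2048) 0) rl675 rl2723) (cond (Nat.beq (Nat.land a 2048) 0) rl1699 rl3747))) (cond (Nat.beq (Nat.land a 512) 0) (cond (Nat.beq (Nat.land a 1024) 0) (cond (Nat.beq (Nat.land a 2048) 0) rl419 rl2467) (cond (Nat.beq (Nat.land a 2048) 0) rl1443 rl3491)) (cond (Nat.beq (Nat.land a 1024) 0) (cond (Nat.beq (Nat.land a 2048) 0) rl931 rl2979) (cond (Nat.beq (Nat.land a 2048) 0) rl1955 rl4003))))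

/-- the part of the table that contains a row, by its digits of weight 256 to 2048 -/
noncomputable def sel3_164 (a : ℕ) : ℕ :=
  (cond (Nat.beq (Nat.land a 256) 0) (cond (Nat.beq (Nat.land a 512) 0) (cond (Nat.beq (Nat.land a 1024) 0) (cond (Nat.beq (Nat.land a 2048) 0) rl164 rl2212) (cond (Nat.beq (Nat.land a 2048) 0) rl1188 rl3236)) (cond (Nat.beq (Nat.land a 1024) 0) (cond (Nat.beq (Nat.land a 2048) 0) rl676 rl2724) (cond (Nat.beq (Nat.land a 2048) 0) rl1700 rl3748))) (cond (Nat.beq (Nat.land a 512) 0) (cond (Nat.beq (Nat.land a 1024) 0) (cond (Nat.beq (Nat.land a 2048) 0) rl420 rl2468) (cond (Nat.beq (Nat.land a 2048) 0) rl1444 rl3492)) (cond (Nat.beq (Nat.land a 1024) 0) (cond (Nat.beq (Nat.land a 2048) 0) rl932 rl2980) (cond (Nat.beq (Nat.land a 2048) 0) rl1956 rl4004))))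

/-- the part of the table that contains a row, by its digits of weight 256 to 2048 -/
noncomputable def sel3_165 (a : ℕ) : ℕ :=
  (cond (Nat.beq (Nat.land a 256) 0) (cond (Nat.beq (Nat.land a 512) 0) (cond (Nat.beq (Nat.land a 1024) 0) (cond (Nat.beq (Nat.land a 2048) 0) rl165 rl2213) (cond (Nat.beq (Nat.land a 2048) 0) rl1189 rl3237)) (cond (Nat.beq (Nat.land a 1024) 0) (cond (Nat.beq (Nat.land a 2048) 0) rl677 rl2725) (cond (Nat.beq (Nat.land a 2048) 0) rl1701 rl3749))) (cond (Nat.beq (Nat.land a 512) 0) (cond (Nat.beq (Nat.land a 1024) 0) (cond (Nat.beq (Nat.land a 2048) 0) rl421 rl2469) (cond (Nat.beq (Nat.land a 2048) 0) rl1445 rl3493)) (cond (Nat.beq (Nat.land a 1024) 0) (cond (Nat.beq (Nat.land a 2048) 0) rl933 rl2981) (cond (Nat.beq (Nat.land a 2048) 0) rl1957 rl4005))))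

/-- the part of the table that contains a row, by its digits of weight 256 to 2048 -/
noncomputable def sel3_166 (a : ℕ) : ℕ :=
  (cond (Nat.beq (Nat.land a 256) 0) (cond (Nat.beq (Nat.land a 512) 0) (cond (Nat.beq (Nat.land a 1024) 0) (cond (Nat.beq (Nat.land a 2048) 0) rl166 rl2214) (cond (Nat.beq (Nat.land a 2048) 0) rl1190 rl3238)) (cond (Nat.beq (Nat.land a 1024) 0) (cond (Nat.beq (Nat.land a 2048) 0) rl678 rl2726) (cond (Nat.beq (Nat.land a 2048) 0) rl1702 rl3750))) (cond (Nat.beq (Nat.land a 512) 0) (cond (Nat.beq (Nat.land a 1024) 0) (cond (Nat.beq (Nat.land a 2048) 0) rl422 rl2470) (cond (Nat.beq (Nat.land a 2048) 0) rl1446 rl3494)) (cond (Nat.beq (Nat.land a 1024) 0) (cond (Nat.beq (Nat.land a 2048) 0) rl934 rl2982) (cond (Nat.beq (Nat.land a 2048) 0) rl1958 rl4006))))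

/-- the part of the table that contains a row, by its digits of weight 256 to 2048 -/
noncomputable def sel3_167 (a : ℕ) : ℕ :=
  (cond (Nat.beq (Nat.land a 256) 0) (cond (Nat.beq (Nat.land a 512) 0) (cond (Nat.beq (Nat.land a 1024) 0) (cond (Nat.beq (Nat.land a 2048) 0) rl167 rl2215) (cond (Nat.beq (Nat.land a 2048) 0) rl1191 rl3239)) (cond (Nat.beq (Nat.land a 1024) 0) (cond (Nat.beq (Nat.land a 2048) 0) rl679 rl2727) (cond (Nat.beq (Nat.land a 2048) 0) rl1703 rl3751))) (cond (Nat.beq (Nat.land a 512) 0) (cond (Nat.beq (Nat.land a 1024) 0) (cond (Nat.beq (Nat.land a 2048) 0) rl423 rl2471) (cond (Nat.beq (Nat.land a 2048) 0) rl1447 rl3495)) (cond (Nat.beq (Nat.land a 1024) 0) (cond (Nat.beq (Nat.land a 2048) 0) rl935 rl2983) (cond (Nat.beq (Nat.land a 2048) 0) rl1959 rl4007))))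

/-- the part of the table that contains a row, by its digits of weight 256 to 2048 -/
noncomputable def sel3_168 (a : ℕ) : ℕ :=
  (cond (Nat.beq (Nat.land a 256) 0) (cond (Nat.beq (Nat.land a 512) 0) (cond (Nat.beq (Nat.land a 1024) 0) (cond (Nat.beq (Nat.land a 2048) 0) rl168 rl2216) (cond (Nat.beq (Nat.land a 2048) 0) rl1192 rl3240)) (cond (Nat.beq (Nat.land a 1024) 0) (cond (Nat.beq (Nat.land a 2048) 0) rl680 rl2728) (cond (Nat.beq (Nat.land a 2048) 0) rl1704 rl3752))) (cond (Nat.beq (Nat.land a 512) 0) (cond (Nat.beq (Nat.land a 1024) 0) (cond (Nat.beq (Nat.land a 2048) 0) rl424 rl2472) (cond (Nat.beq (Nat.land a 2048) 0) rl1448 rl3496)) (cond (Nat.beq (Nat.land a 1024) 0) (cond (Nat.beq (Nat.land a 2048) 0) rl936 rl2984) (cond (Nat.beq (Nat.land a 2048) 0) rl1960 rl4008))))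

/-- the part of the table that contains a row, by its digits of weight 256 to 2048 -/
noncomputable def sel3_169 (a : ℕ) : ℕ :=
  (cond (Nat.beq (Nat.land a 256) 0) (cond (Nat.beq (Nat.land a 512) 0) (cond (Nat.beq (Nat.land a 1024) 0) (cond (Nat.beq (Nat.land a 2048) 0) rl169 rl2217) (cond (Nat.beq (Nat.land a 2048) 0) rl1193 rl3241)) (cond (Nat.beq (Nat.land a 1024) 0) (cond (Nat.beq (Nat.land a 2048) 0) rl681 rl2729) (cond (Nat.beq (Nat.land a 2048) 0) rl1705 rl3753))) (cond (Nat.beq (Nat.land a 512) 0) (cond (Nat.beq (Nat.land a 1024) 0) (cond (Nat.beq (Nat.land a 2048) 0) rl425 rl2473) (cond (Nat.beq (Nat.land a 2048) 0) rl1449 rl3497)) (cond (Nat.beq (Nat.land a 1024) 0) (cond (Nat.beq (Nat.land a 2048) 0) rl937 rl2985) (cond (Nat.beq (Nat.land a 2048) 0) rl1961 rl4009))))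

/-- the part of the table that contains a row, by its digits of weight 256 to 2048 -/
noncomputable def sel3_170 (a : ℕ) : ℕ :=
  (cond (Nat.beq (Nat.land a 256) 0) (cond (Nat.beq (Nat.land a 512) 0) (cond (Nat.beq (Nat.land a 1024) 0) (cond (Nat.beq (Nat.land a 2048) 0) rl170 rl2218) (cond (Nat.beq (Nat.land a 2048) 0) rl1194 rl3242)) (cond (Nat.beq (Nat.land a 1024) 0) (cond (Nat.beq (Nat.land a 2048) 0) rl682 rl2730) (cond (Nat.beq (Nat.land a 2048) 0) rl1706 rl3754))) (cond (Nat.beq (Nat.land a 512) 0) (cond (Nat.beq (Nat.land a 1024) 0) (cond (Nat.beq (Nat.land a 2048) 0) rl426 rl2474) (cond (Nat.beq (Nat.land a 2048) 0) rl1450 rl3498)) (cond (Nat.beq (Nat.land a 1024) 0) (cond (Nat.beq (Nat.land a 2048) 0) rl938 rl2986) (cond (Nat.beq (Nat.land a 2048) 0) rl1962 rl4010))))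

/-- the part of the table that contains a row, by its digits of weight 256 to 2048 -/
noncomputable def sel3_171 (a : ℕ) : ℕ :=
  (cond (Nat.beq (Nat.land a 256) 0) (cond (Nat.beq (Nat.land a 512) 0) (cond (Nat.beq (Nat.land a 1024) 0) (cond (Nat.beq (Nat.land a 2048) 0) rl171 rl2219) (cond (Nat.beq (Nat.land a 2048) 0) rl1195 rl3243)) (cond (Nat.beq (Nat.land a 1024) 0) (cond (Nat.beq (Nat.land a 2048) 0) rl683 rl2731) (cond (Nat.beq (Nat.land a 2048) 0) rl1707 rl3755))) (cond (Nat.beq (Nat.land a 512) 0) (cond (Nat.beq (Nat.land a 1024) 0) (cond (Nat.beq (Nat.land a 2048) 0) rl427 rl2475) (cond (Nat.beq (Nat.land a 2048) 0) rl1451 rl3499)) (cond (Nat.beq (Nat.land a 1024) 0) (cond (Nat.beq (Nat.land a 2048) 0) rl939 rl2987) (cond (Nat.beq (Nat.land a 2048) 0) rl1963 rl4011))))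

/-- the part of the table that contains a row, by its digits of weight 256 to 2048 -/
noncomputable def sel3_172 (a : ℕ) : ℕ :=
  (cond (Nat.beq (Nat.land a 256) 0) (cond (Nat.beq (Nat.land a 512) 0) (cond (Nat.beq (Nat.land a 1024) 0) (cond (Nat.beq (Nat.land a 2048) 0) rl172 rl2220) (cond (Nat.beq (Nat.land a 2048) 0) rl1196 rl3244)) (cond (Nat.beq (Nat.land a 1024) 0) (cond (Nat.beq (Nat.land a 2048) 0) rl684 rl2732) (cond (Nat.beq (Nat.land a 2048) 0) rl1708 rl3756))) (cond (Nat.beq (Nat.land a 512) 0) (cond (Nat.beq (Nat.land a 1024) 0) (cond (Nat.beq (Nat.land a 2048) 0) rl428 rl2476) (cond (Nat.beq (Nat.land a 2048) 0) rl1452 rl3500)) (cond (Nat.beq (Nat.land a 1024) 0) (cond (Nat.beq (Nat.land a 2048) 0) rl940 rl2988) (cond (Nat.beq (Nat.land a 2048) 0) rl1964 rl4012))))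

/-- the part of the table that contains a row, by its digits of weight 256 to 2048 -/
noncomputable def sel3_173 (a : ℕ) : ℕ :=
  (cond (Nat.beq (Nat.land a 256) 0) (cond (Nat.beq (Nat.land a 512) 0) (cond (Nat.beq (Nat.land a 1024) 0) (cond (Nat.beq (Nat.land a 2048) 0) rl173 rl2221) (cond (Nat.beq (Nat.land a 2048) 0) rl1197 rl3245)) (cond (Nat.beq (Nat.land a 1024) 0) (cond (Nat.beq (Nat.land a 2048) 0) rl685 rl2733) (cond (Nat.beq (Nat.land a 2048) 0) rl1709 rl3757))) (cond (Nat.beq (Nat.land a 512) 0) (cond (Nat.beq (Nat.land a 1024) 0) (cond (Nat.beq (Nat.land a 2048) 0) rl429 rl2477) (cond (Nat.beq (Nat.land a 2048) 0) rl1453 rl3501)) (cond (Nat.beq (Nat.land a 1024) 0) (cond (Nat.beq (Nat.land a 2048) 0) rl941 rl2989) (cond (Nat.beq (Nat.land a 2048) 0) rl1965 rl4013))))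

/-- the part of the table that contains a row, by its digits of weight 256 to 2048 -/
noncomputable def sel3_174 (a : ℕ) : ℕ :=
  (cond (Nat.beq (Nat.land a 256) 0) (cond (Nat.beq (Nat.land a 512) 0) (cond (Nat.beq (Nat.land a 1024) 0) (cond (Nat.beq (Nat.land a 2048) 0) rl174 rl2222) (cond (Nat.beq (Nat.land a 2048) 0) rl1198 rl3246)) (cond (Nat.beq (Nat.land a 1024) 0) (cond (Nat.beq (Nat.land a 2048) 0) rl686 rl2734) (cond (Nat.beq (Nat.land a 2048) 0) rl1710 rl3758))) (cond (Nat.beq (Nat.land a 512) 0) (cond (Nat.beq (Nat.land a 1024) 0) (cond (Nat.beq (Nat.land a 2048) 0) rl430 rl2478) (cond (Nat.beq (Nat.land a 2048) 0) rl1454 rl3502)) (cond (Nat.beq (Nat.land a 1024) 0) (cond (Nat.beq (Nat.land a 2048) 0) rl942 rl2990) (cond (Nat.beq (Nat.land a 2048) 0) rl1966 rl4014))))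

/-- the part of the table that contains a row, by its digits of weight 256 to 2048 -/
noncomputable def sel3_175 (a : ℕ) : ℕ :=
  (cond (Nat.beq (Nat.land a 256) 0) (cond (Nat.beq (Nat.land a 512) 0) (cond (Nat.beq (Nat.land a 1024) 0) (cond (Nat.beq (Nat.land a 2048) 0) rl175 rl2223) (cond (Nat.beq (Nat.land a 2048) 0) rl1199 rl3247)) (cond (Nat.beq (Nat.land a 1024) 0) (cond (Nat.beq (Nat.land a 2048) 0) rl687 rl2735) (cond (Nat.beq (Nat.land a 2048) 0) rl1711 rl3759))) (cond (Nat.beq (Nat.land a 512) 0) (cond (Nat.beq (Nat.land a 1024) 0) (cond (Nat.beq (Nat.land a 2048) 0) rl431 rl2479) (cond (Nat.beq (Nat.land a 2048) 0) rl1455 rl3503)) (cond (Nat.beq (Nat.land a 1024) 0) (cond (Nat.beq (Nat.land a 2048) 0) rl943 rl2991) (cond (Nat.beq (Nat.land a 2048) 0) rl1967 rl4015))))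

/-- the part of the table that contains a row, by its digits of weight 256 to 2048 -/
noncomputable def sel3_176 (a : ℕ) : ℕ :=
  (cond (Nat.beq (Nat.land a 256) 0) (cond (Nat.beq (Nat.land a 512) 0) (cond (Nat.beq (Nat.land a 1024) 0) (cond (Nat.beq (Nat.land a 2048) 0) rl176 rl2224) (cond (Nat.beq (Nat.land a 2048) 0) rl1200 rl3248)) (cond (Nat.beq (Nat.land a 1024) 0) (cond (Nat.beq (Nat.land a 2048) 0) rl688 rl2736) (cond (Nat.beq (Nat.land a 2048) 0) rl1712 rl3760))) (cond (Nat.beq (Nat.land a 512) 0) (cond (Nat.beq (Nat.land a 1024) 0) (cond (Nat.beq (Nat.land a 2048) 0) rl432 rl2480) (cond (Nat.beq (Nat.land a 2048) 0) rl1456 rl3504)) (cond (Nat.beq (Nat.land a 1024) 0) (cond (Nat.beq (Nat.land a 2048) 0) rl944 rl2992) (cond (Nat.beq (Nat.land a 2048) 0) rl1968 rl4016))))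

/-- the part of the table that contains a row, by its digits of weight 256 to 2048 -/
noncomputable def sel3_177 (a : ℕ) : ℕ :=
  (cond (Nat.beq (Nat.land a 256) 0) (cond (Nat.beq (Nat.land a 512) 0) (cond (Nat.beq (Nat.land a 1024) 0) (cond (Nat.beq (Nat.land a 2048) 0) rl177 rl2225) (cond (Nat.beq (Nat.land a 2048) 0) rl1201 rl3249)) (cond (Nat.beq (Nat.land a 1024) 0) (cond (Nat.beq (Nat.land a 2048) 0) rl689 rl2737) (cond (Nat.beq (Nat.land a 2048) 0) rl1713 rl3761))) (cond (Nat.beq (Nat.land a 512) 0) (cond (Nat.beq (Nat.land a 1024) 0) (cond (Nat.beq (Nat.land a 2048) 0) rl433 rl2481) (cond (Nat.beq (Nat.land a 2048) 0) rl1457 rl3505)) (cond (Nat.beq (Nat.land a 1024) 0) (cond (Nat.beq (Nat.land a 2048) 0) rl945 rl2993) (cond (Nat.beq (Nat.land a 2048) 0) rl1969 rl4017))))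

/-- the part of the table that contains a row, by its digits of weight 256 to 2048 -/
noncomputable def sel3_178 (a : ℕ) : ℕ :=
  (cond (Nat.beq (Nat.land a 256) 0) (cond (Nat.beq (Nat.land a 512) 0) (cond (Nat.beq (Nat.land a 1024) 0) (cond (Nat.beq (Nat.land a 2048) 0) rl178 rl2226) (cond (Nat.beq (Nat.land a 2048) 0) rl1202 rl3250)) (cond (Nat.beq (Nat.land a 1024) 0) (cond (Nat.beq (Nat.land a 2048) 0) rl690 rl2738) (cond (Nat.beq (Nat.land a 2048) 0) rl1714 rl3762))) (cond (Nat.beq (Nat.land a 512) 0) (cond (Nat.beq (Nat.land a 1024) 0) (cond (Nat.beq (Nat.land a 2048) 0) rl434 rl2482) (cond (Nat.beq (Nat.land a 2048) 0) rl1458 rl3506)) (cond (Nat.beq (Nat.land a 1024) 0) (cond (Nat.beq (Nat.land a 2048) 0) rl946 rl2994) (cond (Nat.beq (Nat.land a 2048) 0) rl1970 rl4018))))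

/-- the part of the table that contains a row, by its digits of weight 256 to 2048 -/
noncomputable def sel3_179 (a : ℕ) : ℕ :=
  (cond (Nat.beq (Nat.land a 256) 0) (cond (Nat.beq (Nat.land a 512) 0) (cond (Nat.beq (Nat.land a 1024) 0) (cond (Nat.beq (Nat.land a 2048) 0) rl179 rl2227) (cond (Nat.beq (Nat.land a 2048) 0) rl1203 rl3251)) (cond (Nat.beq (Nat.land a 1024) 0) (cond (Nat.beq (Nat.land a 2048) 0) rl691 rl2739) (cond (Nat.beq (Nat.land a 2048) 0) rl1715 rl3763))) (cond (Nat.beq (Nat.land a 512) 0) (cond (Nat.beq (Nat.land a 1024) 0) (cond (Nat.beq (Nat.land a 2048) 0) rl435 rl2483) (cond (Nat.beq (Nat.land a 2048) 0) rl1459 rl3507)) (cond (Nat.beq (Nat.land a 1024) 0) (cond (Nat.beq (Nat.land a 2048) 0) rl947 rl2995) (cond (Nat.beq (Nat.land a 2048) 0) rl1971 rl4019))))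

/-- the part of the table that contains a row, by its digits of weight 256 to 2048 -/
noncomputable def sel3_180 (a : ℕ) : ℕ :=
  (cond (Nat.beq (Nat.land a 256) 0) (cond (Nat.beq (Nat.land a 512) 0) (cond (Nat.beq (Nat.land a 1024) 0) (cond (Nat.beq (Nat.land a 2048) 0) rl180 rl2228) (cond (Nat.beq (Nat.land a 2048) 0) rl1204 rl3252)) (cond (Nat.beq (Nat.land a 1024) 0) (cond (Nat.beq (Nat.land a 2048) 0) rl692 rl2740) (cond (Nat.beq (Nat.land a 2048) 0) rl1716 rl3764))) (cond (Nat.beq (Nat.land a 512) 0) (cond (Nat.beq (Nat.land a 1024) 0) (cond (Nat.beq (Nat.land a 2048) 0) rl436 rl2484) (cond (Nat.beq (Nat.land a 2048) 0) rl1460 rl3508)) (cond (Nat.beq (Nat.land a 1024) 0) (cond (Nat.beq (Nat.land a 2048) 0) rl948 rl2996) (cond (Nat.beq (Nat.land a 2048) 0) rl1972 rl4020))))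

/-- the part of the table that contains a row, by its digits of weight 256 to 2048 -/
noncomputable def sel3_181 (a : ℕ) : ℕ :=
  (cond (Nat.beq (Nat.land a 256) 0) (cond (Nat.beq (Nat.land a 512) 0) (cond (Nat.beq (Nat.land a 1024) 0) (cond (Nat.beq (Nat.land a 2048) 0) rl181 rl2229) (cond (Nat.beq (Nat.land a 2048) 0) rl1205 rl3253)) (cond (Nat.beq (Nat.land a 1024) 0) (cond (Nat.beq (Nat.land a 2048) 0) rl693 rl2741) (cond (Nat.beq (Nat.land a 2048) 0) rl1717 rl3765))) (cond (Nat.beq (Nat.land a 512) 0) (cond (Nat.beq (Nat.land a 1024) 0) (cond (Nat.beq (Nat.land a 2048) 0) rl437 rl2485) (cond (Nat.beq (Nat.land a 2048) 0) rl1461 rl3509)) (cond (Nat.beq (Nat.land a 1024) 0) (cond (Nat.beq (Nat.land a 2048) 0) rl949 rl2997) (cond (Nat.beq (Nat.land a 2048) 0) rl1973 rl4021))))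

/-- the part of the table that contains a row, by its digits of weight 256 to 2048 -/
noncomputable def sel3_182 (a : ℕ) : ℕ :=
  (cond (Nat.beq (Nat.land a 256) 0) (cond (Nat.beq (Nat.land a 512) 0) (cond (Nat.beq (Nat.land a 1024) 0) (cond (Nat.beq (Nat.land a 2048) 0) rl182 rl2230) (cond (Nat.beq (Nat.land a 2048) 0) rl1206 rl3254)) (cond (Nat.beq (Nat.land a 1024) 0) (cond (Nat.beq (Nat.land a 2048) 0) rl694 rl2742) (cond (Nat.beq (Nat.land a 2048) 0) rl1718 rl3766))) (cond (Nat.beq (Nat.land a 512) 0) (cond (Nat.beq (Nat.land a 1024) 0) (cond (Nat.beq (Nat.land a 2048) 0) rl438 rl2486) (cond (Nat.beq (Nat.land a 2048) 0) rl1462 rl3510)) (cond (Nat.beq (Nat.land a 1024) 0) (cond (Nat.beq (Nat.land a 2048) 0) rl950 rl2998) (cond (Nat.beq (Nat.land a 2048) 0) rl1974 rl4022))))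

/-- the part of the table that contains a row, by its digits of weight 256 to 2048 -/
noncomputable def sel3_183 (a : ℕ) : ℕ :=
  (cond (Nat.beq (Nat.land a 256) 0) (cond (Nat.beq (Nat.land a 512) 0) (cond (Nat.beq (Nat.land a 1024) 0) (cond (Nat.beq (Nat.land a 2048) 0) rl183 rl2231) (cond (Nat.beq (Nat.land a 2048) 0) rl1207 rl3255)) (cond (Nat.beq (Nat.land a 1024) 0) (cond (Nat.beq (Nat.land a 2048) 0) rl695 rl2743) (cond (Nat.beq (Nat.land a 2048) 0) rl1719 rl3767))) (cond (Nat.beq (Nat.land a 512) 0) (cond (Nat.beq (Nat.land a 1024) 0) (cond (Nat.beq (Nat.land a 2048) 0) rl439 rl2487) (cond (Nat.beq (Nat.land a 2048) 0) rl1463 rl3511)) (cond (Nat.beq (Nat.land a 1024) 0) (cond (Nat.beq (Nat.land a 2048) 0) rl951 rl2999) (cond (Nat.beq (Nat.land a 2048) 0) rl1975 rl4023))))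

/-- the part of the table that contains a row, by its digits of weight 256 to 2048 -/
noncomputable def sel3_184 (a : ℕ) : ℕ :=
  (cond (Nat.beq (Nat.land a 256) 0) (cond (Nat.beq (Nat.land a 512) 0) (cond (Nat.beq (Nat.land a 1024) 0) (cond (Nat.beq (Nat.land a 2048) 0) rl184 rl2232) (cond (Nat.beq (Nat.land a 2048) 0) rl1208 rl3256)) (cond (Nat.beq (Nat.land a 1024) 0) (cond (Nat.beq (Nat.land a 2048) 0) rl696 rl2744) (cond (Nat.beq (Nat.land a 2048) 0) rl1720 rl3768))) (cond (Nat.beq (Nat.land a 512) 0) (cond (Nat.beq (Nat.land a 1024) 0) (cond (Nat.beq (Nat.land a 2048) 0) rl440 rl2488) (cond (Nat.beq (Nat.land a 2048) 0) rl1464 rl3512)) (cond (Nat.beq (Nat.land a 1024) 0) (cond (Nat.beq (Nat.land a 2048) 0) rl952 rl3000) (cond (Nat.beq (Nat.land a 2048) 0) rl1976 rl4024))))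

/-- the part of the table that contains a row, by its digits of weight 256 to 2048 -/
noncomputable def sel3_185 (a : ℕ) : ℕ :=
  (cond (Nat.beq (Nat.land a 256) 0) (cond (Nat.beq (Nat.land a 512) 0) (cond (Nat.beq (Nat.land a 1024) 0) (cond (Nat.beq (Nat.land a 2048) 0) rl185 rl2233) (cond (Nat.beq (Nat.land a 2048) 0) rl1209 rl3257)) (cond (Nat.beq (Nat.land a 1024) 0) (cond (Nat.beq (Nat.land a 2048) 0) rl697 rl2745) (cond (Nat.beq (Nat.land a 2048) 0) rl1721 rl3769))) (cond (Nat.beq (Nat.land a 512) 0) (cond (Nat.beq (Nat.land a 1024) 0) (cond (Nat.beq (Nat.land a 2048) 0) rl441 rl2489) (cond (Nat.beq (Nat.land a 2048) 0) rl1465 rl3513)) (cond (Nat.beq (Nat.land a 1024) 0) (cond (Nat.beq (Nat.land a 2048) 0) rl953 rl3001) (cond (Nat.beq (Nat.land a 2048) 0) rl1977 rl4025))))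

/-- the part of the table that contains a row, by its digits of weight 256 to 2048 -/
noncomputable def sel3_186 (a : ℕ) : ℕ :=
  (cond (Nat.beq (Nat.land a 256) 0) (cond (Nat.beq (Nat.land a 512) 0) (cond (Nat.beq (Nat.land a 1024) 0) (cond (Nat.beq (Nat.land a 2048) 0) rl186 rl2234) (cond (Nat.beq (Nat.land a 2048) 0) rl1210 rl3258)) (cond (Nat.beq (Nat.land a 1024) 0) (cond (Nat.beq (Nat.land a 2048) 0) rl698 rl2746) (cond (Nat.beq (Nat.land a 2048) 0) rl1722 rl3770))) (cond (Nat.beq (Nat.land a 512) 0) (cond (Nat.beq (Nat.land a 1024) 0) (cond (Nat.beq (Nat.land a 2048) 0) rl442 rl2490) (cond (Nat.beq (Nat.land a 2048) 0) rl1466 rl3514)) (cond (Nat.beq (Nat.land a 1024) 0) (cond (Nat.beq (Nat.land a 2048) 0) rl954 rl3002) (cond (Nat.beq (Nat.land a 2048) 0) rl1978 rl4026))))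

/-- the part of the table that contains a row, by its digits of weight 256 to 2048 -/
noncomputable def sel3_187 (a : ℕ) : ℕ :=
  (cond (Nat.beq (Nat.land a 256) 0) (cond (Nat.beq (Nat.land a 512) 0) (cond (Nat.beq (Nat.land a 1024) 0) (cond (Nat.beq (Nat.land a 2048) 0) rl187 rl2235) (cond (Nat.beq (Nat.land a 2048) 0) rl1211 rl3259)) (cond (Nat.beq (Nat.land a 1024) 0) (cond (Nat.beq (Nat.land a 2048) 0) rl699 rl2747) (cond (Nat.beq (Nat.land a 2048) 0) rl1723 rl3771))) (cond (Nat.beq (Nat.land a 512) 0) (cond (Nat.beq (Nat.land a 1024) 0) (cond (Nat.beq (Nat.land a 2048) 0) rl443 rl2491) (cond (Nat.beq (Nat.land a 2048) 0) rl1467 rl3515)) (cond (Nat.beq (Nat.land a 1024) 0) (cond (Nat.beq (Nat.land a 2048) 0) rl955 rl3003) (cond (Nat.beq (Nat.land a 2048) 0) rl1979 rl4027))))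

/-- the part of the table that contains a row, by its digits of weight 256 to 2048 -/
noncomputable def sel3_188 (a : ℕ) : ℕ :=
  (cond (Nat.beq (Nat.land a 256) 0) (cond (Nat.beq (Nat.land a 512) 0) (cond (Nat.beq (Nat.land a 1024) 0) (cond (Nat.beq (Nat.land a 2048) 0) rl188 rl2236) (cond (Nat.beq (Nat.land a 2048) 0) rl1212 rl3260)) (cond (Nat.beq (Nat.land a 1024) 0) (cond (Nat.beq (Nat.land a 2048) 0) rl700 rl2748) (cond (Nat.beq (Nat.land a 2048) 0) rl1724 rl3772))) (cond (Nat.beq (Nat.land a 512) 0) (cond (Nat.beq (Nat.land a 1024) 0) (cond (Nat.beq (Nat.land a 2048) 0) rl444 rl2492) (cond (Nat.beq (Nat.land a 2048) 0) rl1468 rl3516)) (cond (Nat.beq (Nat.land a 1024) 0) (cond (Nat.beq (Nat.land a 2048) 0) rl956 rl3004) (cond (Nat.beq (Nat.land a 2048) 0) rl1980 rl4028))))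

/-- the part of the table that contains a row, by its digits of weight 256 to 2048 -/
noncomputable def sel3_189 (a : ℕ) : ℕ :=
  (cond (Nat.beq (Nat.land a 256) 0) (cond (Nat.beq (Nat.land a 512) 0) (cond (Nat.beq (Nat.land a 1024) 0) (cond (Nat.beq (Nat.land a 2048) 0) rl189 rl2237) (cond (Nat.beq (Nat.land a 2048) 0) rl1213 rl3261)) (cond (Nat.beq (Nat.land a 1024) 0) (cond (Nat.beq (Nat.land a 2048) 0) rl701 rl2749) (cond (Nat.beq (Nat.land a 2048) 0) rl1725 rl3773))) (cond (Nat.beq (Nat.land a 512) 0) (cond (Nat.beq (Nat.land a 1024) 0) (cond (Nat.beq (Nat.land a 2048) 0) rl445 rl2493) (cond (Nat.beq (Nat.land a 2048) 0) rl1469 rl3517)) (cond (Nat.beq (Nat.land a 1024) 0) (cond (Nat.beq (Nat.land a 2048) 0) rl957 rl3005) (cond (Nat.beq (Nat.land a 2048) 0) rl1981 rl4029))))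

/-- the part of the table that contains a row, by its digits of weight 256 to 2048 -/
noncomputable def sel3_190 (a : ℕ) : ℕ :=
  (cond (Nat.beq (Nat.land a 256) 0) (cond (Nat.beq (Nat.land a 512) 0) (cond (Nat.beq (Nat.land a 1024) 0) (cond (Nat.beq (Nat.land a 2048) 0) rl190 rl2238) (cond (Nat.beq (Nat.land a 2048) 0) rl1214 rl3262)) (cond (Nat.beq (Nat.land a 1024) 0) (cond (Nat.beq (Nat.land a 2048) 0) rl702 rl2750) (cond (Nat.beq (Nat.land a 2048) 0) rl1726 rl3774))) (cond (Nat.beq (Nat.land a 512) 0) (cond (Nat.beq (Nat.land a 1024) 0) (cond (Nat.beq (Nat.land a 2048) 0) rl446 rl2494) (cond (Nat.beq (Nat.land a 2048) 0) rl1470 rl3518)) (cond (Nat.beq (Nat.land a 1024) 0) (cond (Nat.beq (Nat.land a 2048) 0) rl958 rl3006) (cond (Nat.beq (Nat.land a 2048) 0) rl1982 rl4030))))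

/-- the part of the table that contains a row, by its digits of weight 256 to 2048 -/
noncomputable def sel3_191 (a : ℕ) : ℕ :=
  (cond (Nat.beq (Nat.land a 256) 0) (cond (Nat.beq (Nat.land a 512) 0) (cond (Nat.beq (Nat.land a 1024) 0) (cond (Nat.beq (Nat.land a 2048) 0) rl191 rl2239) (cond (Nat.beq (Nat.land a 2048) 0) rl1215 rl3263)) (cond (Nat.beq (Nat.land a 1024) 0) (cond (Nat.beq (Nat.land a 2048) 0) rl703 rl2751) (cond (Nat.beq (Nat.land a 2048) 0) rl1727 rl3775))) (cond (Nat.beq (Nat.land a 512) 0) (cond (Nat.beq (Nat.land a 1024) 0) (cond (Nat.beq (Nat.land a 2048) 0) rl447 rl2495) (cond (Nat.beq (Nat.land a 2048) 0) rl1471 rl3519)) (cond (Nat.beq (Nat.land a 1024) 0) (cond (Nat.beq (Nat.land a 2048) 0) rl959 rl3007) (cond (Nat.beq (Nat.land a 2048) 0) rl1983 rl4031))))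

/-- the part of the table that contains a row, by its digits of weight 256 to 2048 -/
noncomputable def sel3_192 (a : ℕ) : ℕ :=
  (cond (Nat.beq (Nat.land a 256) 0) (cond (Nat.beq (Nat.land a 512) 0) (cond (Nat.beq (Nat.land a 1024) 0) (cond (Nat.beq (Nat.land a 2048) 0) rl192 rl2240) (cond (Nat.beq (Nat.land a 2048) 0) rl1216 rl3264)) (cond (Nat.beq (Nat.land a 1024) 0) (cond (Nat.beq (Nat.land a 2048) 0) rl704 rl2752) (cond (Nat.beq (Nat.land a 2048) 0) rl1728 rl3776))) (cond (Nat.beq (Nat.land a 512) 0) (cond (Nat.beq (Nat.land a 1024) 0) (cond (Nat.beq (Nat.land a 2048) 0) rl448 rl2496) (cond (Nat.beq (Nat.land a 2048) 0) rl1472 rl3520)) (cond (Nat.beq (Nat.land a 1024) 0) (cond (Nat.beq (Nat.land a 2048) 0) rl960 rl3008) (cond (Nat.beq (Nat.land a 2048) 0) rl1984 rl4032))))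

/-- the part of the table that contains a row, by its digits of weight 256 to 2048 -/
noncomputable def sel3_193 (a : ℕ) : ℕ :=
  (cond (Nat.beq (Nat.land a 256) 0) (cond (Nat.beq (Nat.land a 512) 0) (cond (Nat.beq (Nat.land a 1024) 0) (cond (Nat.beq (Nat.land a 2048) 0) rl193 rl2241) (cond (Nat.beq (Nat.land a 2048) 0) rl1217 rl3265)) (cond (Nat.beq (Nat.land a 1024) 0) (cond (Nat.beq (Nat.land a 2048) 0) rl705 rl2753) (cond (Nat.beq (Nat.land a 2048) 0) rl1729 rl3777))) (cond (Nat.beq (Nat.land a 512) 0) (cond (Nat.beq (Nat.land a 1024) 0) (cond (Nat.beq (Nat.land a 2048) 0) rl449 rl2497) (cond (Nat.beq (Nat.land a 2048) 0) rl1473 rl3521)) (cond (Nat.beq (Nat.land a 1024) 0) (cond (Nat.beq (Nat.land a 2048) 0) rl961 rl3009) (cond (Nat.beq (Nat.land a 2048) 0) rl1985 rl4033))))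

/-- the part of the table that contains a row, by its digits of weight 256 to 2048 -/
noncomputable def sel3_194 (a : ℕ) : ℕ :=
  (cond (Nat.beq (Nat.land a 256) 0) (cond (Nat.beq (Nat.land a 512) 0) (cond (Nat.beq (Nat.land a 1024) 0) (cond (Nat.beq (Nat.land a 2048) 0) rl194 rl2242) (cond (Nat.beq (Nat.land a 2048) 0) rl1218 rl3266)) (cond (Nat.beq (Nat.land a 1024) 0) (cond (Nat.beq (Nat.land a 2048) 0) rl706 rl2754) (cond (Nat.beq (Nat.land a 2048) 0) rl1730 rl3778))) (cond (Nat.beq (Nat.land a 512) 0) (cond (Nat.beq (Nat.land a 1024) 0) (cond (Nat.beq (Nat.land a 2048) 0) rl450 rl2498) (cond (Nat.beq (Nat.land a 2048) 0) rl1474 rl3522)) (cond (Nat.beq (Nat.land a 1024) 0) (cond (Nat.beq (Nat.land a 2048) 0) rl962 rl3010) (cond (Nat.beq (Nat.land a 2048) 0) rl1986 rl4034))))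

/-- the part of the table that contains a row, by its digits of weight 256 to 2048 -/
noncomputable def sel3_195 (a : ℕ) : ℕ :=
  (cond (Nat.beq (Nat.land a 256) 0) (cond (Nat.beq (Nat.land a 512) 0) (cond (Nat.beq (Nat.land a 1024) 0) (cond (Nat.beq (Nat.land a 2048) 0) rl195 rl2243) (cond (Nat.beq (Nat.land a 2048) 0) rl1219 rl3267)) (cond (Nat.beq (Nat.land a 1024) 0) (cond (Nat.beq (Nat.land a 2048) 0) rl707 rl2755) (cond (Nat.beq (Nat.land a 2048) 0) rl1731 rl3779))) (cond (Nat.beq (Nat.land a 512) 0) (cond (Nat.beq (Nat.land a 1024) 0) (cond (Nat.beq (Nat.land a 2048) 0) rl451 rl2499) (cond (Nat.beq (Nat.land a 2048) 0) rl1475 rl3523)) (cond (Nat.beq (Nat.land a 1024) 0) (cond (Nat.beq (Nat.land a 2048) 0) rl963 rl3011) (cond (Nat.beq (Nat.land a 2048) 0) rl1987 rl4035))))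

/-- the part of the table that contains a row, by its digits of weight 256 to 2048 -/
noncomputable def sel3_196 (a : ℕ) : ℕ :=
  (cond (Nat.beq (Nat.land a 256) 0) (cond (Nat.beq (Nat.land a 512) 0) (cond (Nat.beq (Nat.land a 1024) 0) (cond (Nat.beq (Nat.land a 2048) 0) rl196 rl2244) (cond (Nat.beq (Nat.land a 2048) 0) rl1220 rl3268)) (cond (Nat.beq (Nat.land a 1024) 0) (cond (Nat.beq (Nat.land a 2048) 0) rl708 rl2756) (cond (Nat.beq (Nat.land a 2048) 0) rl1732 rl3780))) (cond (Nat.beq (Nat.land a 512) 0) (cond (Nat.beq (Nat.land a 1024) 0) (cond (Nat.beq (Nat.land a 2048) 0) rl452 rl2500) (cond (Nat.beq (Nat.land a 2048) 0) rl1476 rl3524)) (cond (Nat.beq (Nat.land a 1024) 0) (cond (Nat.beq (Nat.land a 2048) 0) rl964 rl3012) (cond (Nat.beq (Nat.land a 2048) 0) rl1988 rl4036))))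

/-- the part of the table that contains a row, by its digits of weight 256 to 2048 -/
noncomputable def sel3_197 (a : ℕ) : ℕ :=
  (cond (Nat.beq (Nat.land a 256) 0) (cond (Nat.beq (Nat.land a 512) 0) (cond (Nat.beq (Nat.land a 1024) 0) (cond (Nat.beq (Nat.land a 2048) 0) rl197 rl2245) (cond (Nat.beq (Nat.land a 2048) 0) rl1221 rl3269)) (cond (Nat.beq (Nat.land a 1024) 0) (cond (Nat.beq (Nat.land a 2048) 0) rl709 rl2757) (cond (Nat.beq (Nat.land a 2048) 0) rl1733 rl3781))) (cond (Nat.beq (Nat.land a 512) 0) (cond (Nat.beq (Nat.land a 1024) 0) (cond (Nat.beq (Nat.land a 2048) 0) rl453 rl2501) (cond (Nat.beq (Nat.land a 2048) 0) rl1477 rl3525)) (cond (Nat.beq (Nat.land a 1024) 0) (cond (Nat.beq (Nat.land a 2048) 0) rl965 rl3013) (cond (Nat.beq (Nat.land a 2048) 0) rl1989 rl4037))))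

/-- the part of the table that contains a row, by its digits of weight 256 to 2048 -/
noncomputable def sel3_198 (a : ℕ) : ℕ :=
  (cond (Nat.beq (Nat.land a 256) 0) (cond (Nat.beq (Nat.land a 512) 0) (cond (Nat.beq (Nat.land a 1024) 0) (cond (Nat.beq (Nat.land a 2048) 0) rl198 rl2246) (cond (Nat.beq (Nat.land a 2048) 0) rl1222 rl3270)) (cond (Nat.beq (Nat.land a 1024) 0) (cond (Nat.beq (Nat.land a 2048) 0) rl710 rl2758) (cond (Nat.beq (Nat.land a 2048) 0) rl1734 rl3782))) (cond (Nat.beq (Nat.land a 512) 0) (cond (Nat.beq (Nat.land a 1024) 0) (cond (Nat.beq (Nat.land a 2048) 0) rl454 rl2502) (cond (Nat.beq (Nat.land a 2048) 0) rl1478 rl3526)) (cond (Nat.beq (Nat.land a 1024) 0) (cond (Nat.beq (Nat.land a 2048) 0) rl966 rl3014) (cond (Nat.beq (Nat.land a 2048) 0) rl1990 rl4038))))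

/-- the part of the table that contains a row, by its digits of weight 256 to 2048 -/
noncomputable def sel3_199 (a : ℕ) : ℕ :=
  (cond (Nat.beq (Nat.land a 256) 0) (cond (Nat.beq (Nat.land a 512) 0) (cond (Nat.beq (Nat.land a 1024) 0) (cond (Nat.beq (Nat.land a 2048) 0) rl199 rl2247) (cond (Nat.beq (Nat.land a 2048) 0) rl1223 rl3271)) (cond (Nat.beq (Nat.land a 1024) 0) (cond (Nat.beq (Nat.land a 2048) 0) rl711 rl2759) (cond (Nat.beq (Nat.land a 2048) 0) rl1735 rl3783))) (cond (Nat.beq (Nat.land a 512) 0) (cond (Nat.beq (Nat.land a 1024) 0) (cond (Nat.beq (Nat.land a 2048) 0) rl455 rl2503) (cond (Nat.beq (Nat.land a 2048) 0) rl1479 rl3527)) (cond (Nat.beq (Nat.land a 1024) 0) (cond (Nat.beq (Nat.land a 2048) 0) rl967 rl3015) (cond (Nat.beq (Nat.land a 2048) 0) rl1991 rl4039))))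

/-- the part of the table that contains a row, by its digits of weight 256 to 2048 -/
noncomputable def sel3_200 (a : ℕ) : ℕ :=
  (cond (Nat.beq (Nat.land a 256) 0) (cond (Nat.beq (Nat.land a 512) 0) (cond (Nat.beq (Nat.land a 1024) 0) (cond (Nat.beq (Nat.land a 2048) 0) rl200 rl2248) (cond (Nat.beq (Nat.land a 2048) 0) rl1224 rl3272)) (cond (Nat.beq (Nat.land a 1024) 0) (cond (Nat.beq (Nat.land a 2048) 0) rl712 rl2760) (cond (Nat.beq (Nat.land a 2048) 0) rl1736 rl3784))) (cond (Nat.beq (Nat.land a 512) 0) (cond (Nat.beq (Nat.land a 1024) 0) (cond (Nat.beq (Nat.land a 2048) 0) rl456 rl2504) (cond (Nat.beq (Nat.land a 2048) 0) rl1480 rl3528)) (cond (Nat.beq (Nat.land a 1024) 0) (cond (Nat.beq (Nat.land a 2048) 0) rl968 rl3016) (cond (Nat.beq (Nat.land a 2048) 0) rl1992 rl4040))))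

/-- the part of the table that contains a row, by its digits of weight 256 to 2048 -/
noncomputable def sel3_201 (a : ℕ) : ℕ :=
  (cond (Nat.beq (Nat.land a 256) 0) (cond (Nat.beq (Nat.land a 512) 0) (cond (Nat.beq (Nat.land a 1024) 0) (cond (Nat.beq (Nat.land a 2048) 0) rl201 rl2249) (cond (Nat.beq (Nat.land a 2048) 0) rl1225 rl3273)) (cond (Nat.beq (Nat.land a 1024) 0) (cond (Nat.beq (Nat.land a 2048) 0) rl713 rl2761) (cond (Nat.beq (Nat.land a 2048) 0) rl1737 rl3785))) (cond (Nat.beq (Nat.land a 512) 0) (cond (Nat.beq (Nat.land a 1024) 0) (cond (Nat.beq (Nat.land a 2048) 0) rl457 rl2505) (cond (Nat.beq (Nat.land a 2048) 0) rl1481 rl3529)) (cond (Nat.beq (Nat.land a 1024) 0) (cond (Nat.beq (Nat.land a 2048) 0) rl969 rl3017) (cond (Nat.beq (Nat.land a 2048) 0) rl1993 rl4041))))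

/-- the part of the table that contains a row, by its digits of weight 256 to 2048 -/
noncomputable def sel3_202 (a : ℕ) : ℕ :=
  (cond (Nat.beq (Nat.land a 256) 0) (cond (Nat.beq (Nat.land a 512) 0) (cond (Nat.beq (Nat.land a 1024) 0) (cond (Nat.beq (Nat.land a 2048) 0) rl202 rl2250) (cond (Nat.beq (Nat.land a 2048) 0) rl1226 rl3274)) (cond (Nat.beq (Nat.land a 1024) 0) (cond (Nat.beq (Nat.land a 2048) 0) rl714 rl2762) (cond (Nat.beq (Nat.land a 2048) 0) rl1738 rl3786))) (cond (Nat.beq (Nat.land a 512) 0) (cond (Nat.beq (Nat.land a 1024) 0) (cond (Nat.beq (Nat.land a 2048) 0) rl458 rl2506) (cond (Nat.beq (Nat.land a 2048) 0) rl1482 rl3530)) (cond (Nat.beq (Nat.land a 1024) 0) (cond (Nat.beq (Nat.land a 2048) 0) rl970 rl3018) (cond (Nat.beq (Nat.land a 2048) 0) rl1994 rl4042))))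

/-- the part of the table that contains a row, by its digits of weight 256 to 2048 -/
noncomputable def sel3_203 (a : ℕ) : ℕ :=
  (cond (Nat.beq (Nat.land a 256) 0) (cond (Nat.beq (Nat.land a 512) 0) (cond (Nat.beq (Nat.land a 1024) 0) (cond (Nat.beq (Nat.land a 2048) 0) rl203 rl2251) (cond (Nat.beq (Nat.land a 2048) 0) rl1227 rl3275)) (cond (Nat.beq (Nat.land a 1024) 0) (cond (Nat.beq (Nat.land a 2048) 0) rl715 rl2763) (cond (Nat.beq (Nat.land a 2048) 0) rl1739 rl3787))) (cond (Nat.beq (Nat.land a 512) 0) (cond (Nat.beq (Nat.land a 1024) 0) (cond (Nat.beq (Nat.land a 2048) 0) rl459 rl2507) (cond (Nat.beq (Nat.land a 2048) 0) rl1483 rl3531)) (cond (Nat.beq (Nat.land a 1024) 0) (cond (Nat.beq (Nat.land a 2048) 0) rl971 rl3019) (cond (Nat.beq (Nat.land a 2048) 0) rl1995 rl4043))))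

/-- the part of the table that contains a row, by its digits of weight 256 to 2048 -/
noncomputable def sel3_204 (a : ℕ) : ℕ :=
  (cond (Nat.beq (Nat.land a 256) 0) (cond (Nat.beq (Nat.land a 512) 0) (cond (Nat.beq (Nat.land a 1024) 0) (cond (Nat.beq (Nat.land a 2048) 0) rl204 rl2252) (cond (Nat.beq (Nat.land a 2048) 0) rl1228 rl3276)) (cond (Nat.beq (Nat.land a 1024) 0) (cond (Nat.beq (Nat.land a 2048) 0) rl716 rl2764) (cond (Nat.beq (Nat.land a 2048) 0) rl1740 rl3788))) (cond (Nat.beq (Nat.land a 512) 0) (cond (Nat.beq (Nat.land a 1024) 0) (cond (Nat.beq (Nat.land a 2048) 0) rl460 rl2508) (cond (Nat.beq (Nat.land a 2048) 0) rl1484 rl3532)) (cond (Nat.beq (Nat.land a 1024) 0) (cond (Nat.beq (Nat.land a 2048) 0) rl972 rl3020) (cond (Nat.beq (Nat.land a 2048) 0) rl1996 rl4044))))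

/-- the part of the table that contains a row, by its digits of weight 256 to 2048 -/
noncomputable def sel3_205 (a : ℕ) : ℕ :=
  (cond (Nat.beq (Nat.land a 256) 0) (cond (Nat.beq (Nat.land a 512) 0) (cond (Nat.beq (Nat.land a 1024) 0) (cond (Nat.beq (Nat.land a 2048) 0) rl205 rl2253) (cond (Nat.beq (Nat.land a 2048) 0) rl1229 rl3277)) (cond (Nat.beq (Nat.land a 1024) 0) (cond (Nat.beq (Nat.land a 2048) 0) rl717 rl2765) (cond (Nat.beq (Nat.land a 2048) 0) rl1741 rl3789))) (cond (Nat.beq (Nat.land a 512) 0) (cond (Nat.beq (Nat.land a 1024) 0) (cond (Nat.beq (Nat.land a 2048) 0) rl461 rl2509) (cond (Nat.beq (Nat.land a 2048) 0) rl1485 rl3533)) (cond (Nat.beq (Nat.land a 1024) 0) (cond (Nat.beq (Nat.land a 2048) 0) rl973 rl3021) (cond (Nat.beq (Nat.land a 2048) 0) rl1997 rl4045))))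

/-- the part of the table that contains a row, by its digits of weight 256 to 2048 -/
noncomputable def sel3_206 (a : ℕ) : ℕ :=
  (cond (Nat.beq (Nat.land a 256) 0) (cond (Nat.beq (Nat.land a 512) 0) (cond (Nat.beq (Nat.land a 1024) 0) (cond (Nat.beq (Nat.land a 2048) 0) rl206 rl2254) (cond (Nat.beq (Nat.land a 2048) 0) rl1230 rl3278)) (cond (Nat.beq (Nat.land a 1024) 0) (cond (Nat.beq (Nat.land a 2048) 0) rl718 rl2766) (cond (Nat.beq (Nat.land a 2048) 0) rl1742 rl3790))) (cond (Nat.beq (Nat.land a 512) 0) (cond (Nat.beq (Nat.land a 1024) 0) (cond (Nat.beq (Nat.land a 2048) 0) rl462 rl2510) (cond (Nat.beq (Nat.land a 2048) 0) rl1486 rl3534)) (cond (Nat.beq (Nat.land a 1024) 0) (cond (Nat.beq (Nat.land a 2048) 0) rl974 rl3022) (cond (Nat.beq (Nat.land a 2048) 0) rl1998 rl4046))))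

/-- the part of the table that contains a row, by its digits of weight 256 to 2048 -/
noncomputable def sel3_207 (a : ℕ) : ℕ :=
  (cond (Nat.beq (Nat.land a 256) 0) (cond (Nat.beq (Nat.land a 512) 0) (cond (Nat.beq (Nat.land a 1024) 0) (cond (Nat.beq (Nat.land a 2048) 0) rl207 rl2255) (cond (Nat.beq (Nat.land a 2048) 0) rl1231 rl3279)) (cond (Nat.beq (Nat.land a 1024) 0) (cond (Nat.beq (Nat.land a 2048) 0) rl719 rl2767) (cond (Nat.beq (Nat.land a 2048) 0) rl1743 rl3791))) (cond (Nat.beq (Nat.land a 512) 0) (cond (Nat.beq (Nat.land a 1024) 0) (cond (Nat.beq (Nat.land a 2048) 0) rl463 rl2511) (cond (Nat.beq (Nat.land a 2048) 0) rl1487 rl3535)) (cond (Nat.beq (Nat.land a 1024) 0) (cond (Nat.beq (Nat.land a 2048) 0) rl975 rl3023) (cond (Nat.beq (Nat.land a 2048) 0) rl1999 rl4047))))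

/-- the part of the table that contains a row, by its digits of weight 256 to 2048 -/
noncomputable def sel3_208 (a : ℕ) : ℕ :=
  (cond (Nat.beq (Nat.land a 256) 0) (cond (Nat.beq (Nat.land a 512) 0) (cond (Nat.beq (Nat.land a 1024) 0) (cond (Nat.beq (Nat.land a 2048) 0) rl208 rl2256) (cond (Nat.beq (Nat.land a 2048) 0) rl1232 rl3280)) (cond (Nat.beq (Nat.land a 1024) 0) (cond (Nat.beq (Nat.land a 2048) 0) rl720 rl2768) (cond (Nat.beq (Nat.land a 2048) 0) rl1744 rl3792))) (cond (Nat.beq (Nat.land a 512) 0) (cond (Nat.beq (Nat.land a 1024) 0) (cond (Nat.beq (Nat.land a 2048) 0) rl464 rl2512) (cond (Nat.beq (Nat.land a 2048) 0) rl1488 rl3536)) (cond (Nat.beq (Nat.land a 1024) 0) (cond (Nat.beq (Nat.land a 2048) 0) rl976 rl3024) (cond (Nat.beq (Nat.land a 2048) 0) rl2000 rl4048))))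

/-- the part of the table that contains a row, by its digits of weight 256 to 2048 -/
noncomputable def sel3_209 (a : ℕ) : ℕ :=
  (cond (Nat.beq (Nat.land a 256) 0) (cond (Nat.beq (Nat.land a 512) 0) (cond (Nat.beq (Nat.land a 1024) 0) (cond (Nat.beq (Nat.land a 2048) 0) rl209 rl2257) (cond (Nat.beq (Nat.land a 2048) 0) rl1233 rl3281)) (cond (Nat.beq (Nat.land a 1024) 0) (cond (Nat.beq (Nat.land a 2048) 0) rl721 rl2769) (cond (Nat.beq (Nat.land a 2048) 0) rl1745 rl3793))) (cond (Nat.beq (Nat.land a 512) 0) (cond (Nat.beq (Nat.land a 1024) 0) (cond (Nat.beq (Nat.land a 2048) 0) rl465 rl2513) (cond (Nat.beq (Nat.land a 2048) 0) rl1489 rl3537)) (cond (Nat.beq (Nat.land a 1024) 0) (cond (Nat.beq (Nat.land a 2048) 0) rl977 rl3025) (cond (Nat.beq (Nat.land a 2048) 0) rl2001 rl4049))))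

/-- the part of the table that contains a row, by its digits of weight 256 to 2048 -/
noncomputable def sel3_210 (a : ℕ) : ℕ :=
  (cond (Nat.beq (Nat.land a 256) 0) (cond (Nat.beq (Nat.land a 512) 0) (cond (Nat.beq (Nat.land a 1024) 0) (cond (Nat.beq (Nat.land a 2048) 0) rl210 rl2258) (cond (Nat.beq (Nat.land a 2048) 0) rl1234 rl3282)) (cond (Nat.beq (Nat.land a 1024) 0) (cond (Nat.beq (Nat.land a 2048) 0) rl722 rl2770) (cond (Nat.beq (Nat.land a 2048) 0) rl1746 rl3794))) (cond (Nat.beq (Nat.land a 512) 0) (cond (Nat.beq (Nat.land a 1024) 0) (cond (Nat.beq (Nat.land a 2048) 0) rl466 rl2514) (cond (Nat.beq (Nat.land a 2048) 0) rl1490 rl3538)) (cond (Nat.beq (Nat.land a 1024) 0) (cond (Nat.beq (Nat.land a 2048) 0) rl978 rl3026) (cond (Nat.beq (Nat.land a 2048) 0) rl2002 rl4050))))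

/-- the part of the table that contains a row, by its digits of weight 256 to 2048 -/
noncomputable def sel3_211 (a : ℕ) : ℕ :=
  (cond (Nat.beq (Nat.land a 256) 0) (cond (Nat.beq (Nat.land a 512) 0) (cond (Nat.beq (Nat.land a 1024) 0) (cond (Nat.beq (Nat.land a 2048) 0) rl211 rl2259) (cond (Nat.beq (Nat.land a 2048) 0) rl1235 rl3283)) (cond (Nat.beq (Nat.land a 1024) 0) (cond (Nat.beq (Nat.land a 2048) 0) rl723 rl2771) (cond (Nat.beq (Nat.land a 2048) 0) rl1747 rl3795))) (cond (Nat.beq (Nat.land a 512) 0) (cond (Nat.beq (Nat.land a 1024) 0) (cond (Nat.beq (Nat.land a 2048) 0) rl467 rl2515) (cond (Nat.beq (Nat.land a 2048) 0) rl1491 rl3539)) (cond (Nat.beq (Nat.land a 1024) 0) (cond (Nat.beq (Nat.land a 2048) 0) rl979 rl3027) (cond (Nat.beq (Nat.land a 2048) 0) rl2003 rl4051))))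

/-- the part of the table that contains a row, by its digits of weight 256 to 2048 -/
noncomputable def sel3_212 (a : ℕ) : ℕ :=
  (cond (Nat.beq (Nat.land a 256) 0) (cond (Nat.beq (Nat.land a 512) 0) (cond (Nat.beq (Nat.land a 1024) 0) (cond (Nat.beq (Nat.land a 2048) 0) rl212 rl2260) (cond (Nat.beq (Nat.land a 2048) 0) rl1236 rl3284)) (cond (Nat.beq (Nat.land a 1024) 0) (cond (Nat.beq (Nat.land a 2048) 0) rl724 rl2772) (cond (Nat.beq (Nat.land a 2048) 0) rl1748 rl3796))) (cond (Nat.beq (Nat.land a 512) 0) (cond (Nat.beq (Nat.land a 1024) 0) (cond (Nat.beq (Nat.land a 2048) 0) rl468 rl2516) (cond (Nat.beq (Nat.land a 2048) 0) rl1492 rl3540)) (cond (Nat.beq (Nat.land a 1024) 0) (cond (Nat.beq (Nat.land a 2048) 0) rl980 rl3028) (cond (Nat.beq (Nat.land a 2048) 0) rl2004 rl4052))))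

/-- the part of the table that contains a row, by its digits of weight 256 to 2048 -/
noncomputable def sel3_213 (a : ℕ) : ℕ :=
  (cond (Nat.beq (Nat.land a 256) 0) (cond (Nat.beq (Nat.land a 512) 0) (cond (Nat.beq (Nat.land a 1024) 0) (cond (Nat.beq (Nat.land a 2048) 0) rl213 rl2261) (cond (Nat.beq (Nat.land a 2048) 0) rl1237 rl3285)) (cond (Nat.beq (Nat.land a 1024) 0) (cond (Nat.beq (Nat.land a 2048) 0) rl725 rl2773) (cond (Nat.beq (Nat.land a 2048) 0) rl1749 rl3797))) (cond (Nat.beq (Nat.land a 512) 0) (cond (Nat.beq (Nat.land a 1024) 0) (cond (Nat.beq (Nat.land a 2048) 0) rl469 rl2517) (cond (Nat.beq (Nat.land a 2048) 0) rl1493 rl3541)) (cond (Nat.beq (Nat.land a 1024) 0) (cond (Nat.beq (Nat.land a 2048) 0) rl981 rl3029) (cond (Nat.beq (Nat.land a 2048) 0) rl2005 rl4053))))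

/-- the part of the table that contains a row, by its digits of weight 256 to 2048 -/
noncomputable def sel3_214 (a : ℕ) : ℕ :=
  (cond (Nat.beq (Nat.land a 256) 0) (cond (Nat.beq (Nat.land a 512) 0) (cond (Nat.beq (Nat.land a 1024) 0) (cond (Nat.beq (Nat.land a 2048) 0) rl214 rl2262) (cond (Nat.beq (Nat.land a 2048) 0) rl1238 rl3286)) (cond (Nat.beq (Nat.land a 1024) 0) (cond (Nat.beq (Nat.land a 2048) 0) rl726 rl2774) (cond (Nat.beq (Nat.land a 2048) 0) rl1750 rl3798))) (cond (Nat.beq (Nat.land a 512) 0) (cond (Nat.beq (Nat.land a 1024) 0) (cond (Nat.beq (Nat.land a 2048) 0) rl470 rl2518) (cond (Nat.beq (Nat.land a 2048) 0) rl1494 rl3542)) (cond (Nat.beq (Nat.land a 1024) 0) (cond (Nat.beq (Nat.land a 2048) 0) rl982 rl3030) (cond (Nat.beq (Nat.land a 2048) 0) rl2006 rl4054))))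

/-- the part of the table that contains a row, by its digits of weight 256 to 2048 -/
noncomputable def sel3_215 (a : ℕ) : ℕ :=
  (cond (Nat.beq (Nat.land a 256) 0) (cond (Nat.beq (Nat.land a 512) 0) (cond (Nat.beq (Nat.land a 1024) 0) (cond (Nat.beq (Nat.land a 2048) 0) rl215 rl2263) (cond (Nat.beq (Nat.land a 2048) 0) rl1239 rl3287)) (cond (Nat.beq (Nat.land a 1024) 0) (cond (Nat.beq (Nat.land a 2048) 0) rl727 rl2775) (cond (Nat.beq (Nat.land a 2048) 0) rl1751 rl3799))) (cond (Nat.beq (Nat.land a 512) 0) (cond (Nat.beq (Nat.land a 1024) 0) (cond (Nat.beq (Nat.land a 2048) 0) rl471 rl2519) (cond (Nat.beq (Nat.land a 2048) 0) rl1495 rl3543)) (cond (Nat.beq (Nat.land a 1024) 0) (cond (Nat.beq (Nat.land a 2048) 0) rl983 rl3031) (cond (Nat.beq (Nat.land a 2048) 0) rl2007 rl4055))))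

/-- the part of the table that contains a row, by its digits of weight 256 to 2048 -/
noncomputable def sel3_216 (a : ℕ) : ℕ :=
  (cond (Nat.beq (Nat.land a 256) 0) (cond (Nat.beq (Nat.land a 512) 0) (cond (Nat.beq (Nat.land a 1024) 0) (cond (Nat.beq (Nat.land a 2048) 0) rl216 rl2264) (cond (Nat.beq (Nat.land a 2048) 0) rl1240 rl3288)) (cond (Nat.beq (Nat.land a 1024) 0) (cond (Nat.beq (Nat.land a 2048) 0) rl728 rl2776) (cond (Nat.beq (Nat.land a 2048) 0) rl1752 rl3800))) (cond (Nat.beq (Nat.land a 512) 0) (cond (Nat.beq (Nat.land a 1024) 0) (cond (Nat.beq (Nat.land a 2048) 0) rl472 rl2520) (cond (Nat.beq (Nat.land a 2048) 0) rl1496 rl3544)) (cond (Nat.beq (Nat.land a 1024) 0) (cond (Nat.beq (Nat.land a 2048) 0) rl984 rl3032) (cond (Nat.beq (Nat.land a 2048) 0) rl2008 rl4056))))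

/-- the part of the table that contains a row, by its digits of weight 256 to 2048 -/
noncomputable def sel3_217 (a : ℕ) : ℕ :=
  (cond (Nat.beq (Nat.land a 256) 0) (cond (Nat.beq (Nat.land a 512) 0) (cond (Nat.beq (Nat.land a 1024) 0) (cond (Nat.beq (Nat.land a 2048) 0) rl217 rl2265) (cond (Nat.beq (Nat.land a 2048) 0) rl1241 rl3289)) (cond (Nat.beq (Nat.land a 1024) 0) (cond (Nat.beq (Nat.land a 2048) 0) rl729 rl2777) (cond (Nat.beq (Nat.land a 2048) 0) rl1753 rl3801))) (cond (Nat.beq (Nat.land a 512) 0) (cond (Nat.beq (Nat.land a 1024) 0) (cond (Nat.beq (Nat.land a 2048) 0) rl473 rl2521) (cond (Nat.beq (Nat.land a 2048) 0) rl1497 rl3545)) (cond (Nat.beq (Nat.land a 1024) 0) (cond (Nat.beq (Nat.land a 2048) 0) rl985 rl3033) (cond (Nat.beq (Nat.land a 2048) 0) rl2009 rl4057))))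

/-- the part of the table that contains a row, by its digits of weight 256 to 2048 -/
noncomputable def sel3_218 (a : ℕ) : ℕ :=
  (cond (Nat.beq (Nat.land a 256) 0) (cond (Nat.beq (Nat.land a 512) 0) (cond (Nat.beq (Nat.land a 1024) 0) (cond (Nat.beq (Nat.land a 2048) 0) rl218 rl2266) (cond (Nat.beq (Nat.land a 2048) 0) rl1242 rl3290)) (cond (Nat.beq (Nat.land a 1024) 0) (cond (Nat.beq (Nat.land a 2048) 0) rl730 rl2778) (cond (Nat.beq (Nat.land a 2048) 0) rl1754 rl3802))) (cond (Nat.beq (Nat.land a 512) 0) (cond (Nat.beq (Nat.land a 1024) 0) (cond (Nat.beq (Nat.land a 2048) 0) rl474 rl2522) (cond (Nat.beq (Nat.land a 2048) 0) rl1498 rl3546)) (cond (Nat.beq (Nat.land a 1024) 0) (cond (Nat.beq (Nat.land a 2048) 0) rl986 rl3034) (cond (Nat.beq (Nat.land a 2048) 0) rl2010 rl4058))))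

/-- the part of the table that contains a row, by its digits of weight 256 to 2048 -/
noncomputable def sel3_219 (a : ℕ) : ℕ :=
  (cond (Nat.beq (Nat.land a 256) 0) (cond (Nat.beq (Nat.land a 512) 0) (cond (Nat.beq (Nat.land a 1024) 0) (cond (Nat.beq (Nat.land a 2048) 0) rl219 rl2267) (cond (Nat.beq (Nat.land a 2048) 0) rl1243 rl3291)) (cond (Nat.beq (Nat.land a 1024) 0) (cond (Nat.beq (Nat.land a 2048) 0) rl731 rl2779) (cond (Nat.beq (Nat.land a 2048) 0) rl1755 rl3803))) (cond (Nat.beq (Nat.land a 512) 0) (cond (Nat.beq (Nat.land a 1024) 0) (cond (Nat.beq (Nat.land a 2048) 0) rl475 rl2523) (cond (Nat.beq (Nat.land a 2048) 0) rl1499 rl3547)) (cond (Nat.beq (Nat.land a 1024) 0) (cond (Nat.beq (Nat.land a 2048) 0) rl987 rl3035) (cond (Nat.beq (Nat.land a 2048) 0) rl2011 rl4059))))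

/-- the part of the table that contains a row, by its digits of weight 256 to 2048 -/
noncomputable def sel3_220 (a : ℕ) : ℕ :=
  (cond (Nat.beq (Nat.land a 256) 0) (cond (Nat.beq (Nat.land a 512) 0) (cond (Nat.beq (Nat.land a 1024) 0) (cond (Nat.beq (Nat.land a 2048) 0) rl220 rl2268) (cond (Nat.beq (Nat.land a 2048) 0) rl1244 rl3292)) (cond (Nat.beq (Nat.land a 1024) 0) (cond (Nat.beq (Nat.land a 2048) 0) rl732 rl2780) (cond (Nat.beq (Nat.land a 2048) 0) rl1756 rl3804))) (cond (Nat.beq (Nat.land a 512) 0) (cond (Nat.beq (Nat.land a 1024) 0) (cond (Nat.beq (Nat.land a 2048) 0) rl476 rl2524) (cond (Nat.beq (Nat.land a 2048) 0) rl1500 rl3548)) (cond (Nat.beq (Nat.land a 1024) 0) (cond (Nat.beq (Nat.land a 2048) 0) rl988 rl3036) (cond (Nat.beq (Nat.land a 2048) 0) rl2012 rl4060))))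

/-- the part of the table that contains a row, by its digits of weight 256 to 2048 -/
noncomputable def sel3_221 (a : ℕ) : ℕ :=
  (cond (Nat.beq (Nat.land a 256) 0) (cond (Nat.beq (Nat.land a 512) 0) (cond (Nat.beq (Nat.land a 1024) 0) (cond (Nat.beq (Nat.land a 2048) 0) rl221 rl2269) (cond (Nat.beq (Nat.land a 2048) 0) rl1245 rl3293)) (cond (Nat.beq (Nat.land a 1024) 0) (cond (Nat.beq (Nat.land a 2048) 0) rl733 rl2781) (cond (Nat.beq (Nat.land a 2048) 0) rl1757 rl3805))) (cond (Nat.beq (Nat.land a 512) 0) (cond (Nat.beq (Nat.land a 1024) 0) (cond (Nat.beq (Nat.land a 2048) 0) rl477 rl2525) (cond (Nat.beq (Nat.land a 2048) 0) rl1501 rl3549)) (cond (Nat.beq (Nat.land a 1024) 0) (cond (Nat.beq (Nat.land a 2048) 0) rl989 rl3037) (cond (Nat.beq (Nat.land a 2048) 0) rl2013 rl4061))))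

/-- the part of the table that contains a row, by its digits of weight 256 to 2048 -/
noncomputable def sel3_222 (a : ℕ) : ℕ :=
  (cond (Nat.beq (Nat.land a 256) 0) (cond (Nat.beq (Nat.land a 512) 0) (cond (Nat.beq (Nat.land a 1024) 0) (cond (Nat.beq (Nat.land a 2048) 0) rl222 rl2270) (cond (Nat.beq (Nat.land a 2048) 0) rl1246 rl3294)) (cond (Nat.beq (Nat.land a 1024) 0) (cond (Nat.beq (Nat.land a 2048) 0) rl734 rl2782) (cond (Nat.beq (Nat.land a 2048) 0) rl1758 rl3806))) (cond (Nat.beq (Nat.land a 512) 0) (cond (Nat.beq (Nat.land a 1024) 0) (cond (Nat.beq (Nat.land a 2048) 0) rl478 rl2526) (cond (Nat.beq (Nat.land a 2048) 0) rl1502 rl3550)) (cond (Nat.beq (Nat.land a 1024) 0) (cond (Nat.beq (Nat.land a 2048) 0) rl990 rl3038) (cond (Nat.beq (Nat.land a 2048) 0) rl2014 rl4062))))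

/-- the part of the table that contains a row, by its digits of weight 256 to 2048 -/
noncomputable def sel3_223 (a : ℕ) : ℕ :=
  (cond (Nat.beq (Nat.land a 256) 0) (cond (Nat.beq (Nat.land a 512) 0) (cond (Nat.beq (Nat.land a 1024) 0) (cond (Nat.beq (Nat.land a 2048) 0) rl223 rl2271) (cond (Nat.beq (Nat.land a 2048) 0) rl1247 rl3295)) (cond (Nat.beq (Nat.land a 1024) 0) (cond (Nat.beq (Nat.land a 2048) 0) rl735 rl2783) (cond (Nat.beq (Nat.land a 2048) 0) rl1759 rl3807))) (cond (Nat.beq (Nat.land a 512) 0) (cond (Nat.beq (Nat.land a 1024) 0) (cond (Nat.beq (Nat.land a 2048) 0) rl479 rl2527) (cond (Nat.beq (Nat.land a 2048) 0) rl1503 rl3551)) (cond (Nat.beq (Nat.land a 1024) 0) (cond (Nat.beq (Nat.land a 2048) 0) rl991 rl3039) (cond (Nat.beq (Nat.land a 2048) 0) rl2015 rl4063))))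

/-- the part of the table that contains a row, by its digits of weight 256 to 2048 -/
noncomputable def sel3_224 (a : ℕ) : ℕ :=
  (cond (Nat.beq (Nat.land a 256) 0) (cond (Nat.beq (Nat.land a 512) 0) (cond (Nat.beq (Nat.land a 1024) 0) (cond (Nat.beq (Nat.land a 2048) 0) rl224 rl2272) (cond (Nat.beq (Nat.land a 2048) 0) rl1248 rl3296)) (cond (Nat.beq (Nat.land a 1024) 0) (cond (Nat.beq (Nat.land a 2048) 0) rl736 rl2784) (cond (Nat.beq (Nat.land a 2048) 0) rl1760 rl3808))) (cond (Nat.beq (Nat.land a 512) 0) (cond (Nat.beq (Nat.land a 1024) 0) (cond (Nat.beq (Nat.land a 2048) 0) rl480 rl2528) (cond (Nat.beq (Nat.land a 2048) 0) rl1504 rl3552)) (cond (Nat.beq (Nat.land a 1024) 0) (cond (Nat.beq (Nat.land a 2048) 0) rl992 rl3040) (cond (Nat.beq (Nat.land a 2048) 0) rl2016 rl4064))))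

/-- the part of the table that contains a row, by its digits of weight 256 to 2048 -/
noncomputable def sel3_225 (a : ℕ) : ℕ :=
  (cond (Nat.beq (Nat.land a 256) 0) (cond (Nat.beq (Nat.land a 512) 0) (cond (Nat.beq (Nat.land a 1024) 0) (cond (Nat.beq (Nat.land a 2048) 0) rl225 rl2273) (cond (Nat.beq (Nat.land a 2048) 0) rl1249 rl3297)) (cond (Nat.beq (Nat.land a 1024) 0) (cond (Nat.beq (Nat.land a 2048) 0) rl737 rl2785) (cond (Nat.beq (Nat.land a 2048) 0) rl1761 rl3809))) (cond (Nat.beq (Nat.land a 512) 0) (cond (Nat.beq (Nat.land a 1024) 0) (cond (Nat.beq (Nat.land a 2048) 0) rl481 rl2529) (cond (Nat.beq (Nat.land a 2048) 0) rl1505 rl3553)) (cond (Nat.beq (Nat.land a 1024) 0) (cond (Nat.beq (Nat.land a 2048) 0) rl993 rl3041) (cond (Nat.beq (Nat.land a 2048) 0) rl2017 rl4065))))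

/-- the part of the table that contains a row, by its digits of weight 256 to 2048 -/
noncomputable def sel3_226 (a : ℕ) : ℕ :=
  (cond (Nat.beq (Nat.land a 256) 0) (cond (Nat.beq (Nat.land a 512) 0) (cond (Nat.beq (Nat.land a 1024) 0) (cond (Nat.beq (Nat.land a 2048) 0) rl226 rl2274) (cond (Nat.beq (Nat.land a 2048) 0) rl1250 rl3298)) (cond (Nat.beq (Nat.land a 1024) 0) (cond (Nat.beq (Nat.land a 2048) 0) rl738 rl2786) (cond (Nat.beq (Nat.land a 2048) 0) rl1762 rl3810))) (cond (Nat.beq (Nat.land a 512) 0) (cond (Nat.beq (Nat.land a 1024) 0) (cond (Nat.beq (Nat.land a 2048) 0) rl482 rl2530) (cond (Nat.beq (Nat.land a 2048) 0) rl1506 rl3554)) (cond (Nat.beq (Nat.land a 1024) 0) (cond (Nat.beq (Nat.land a 2048) 0) rl994 rl3042) (cond (Nat.beq (Nat.land a 2048) 0) rl2018 rl4066))))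

/-- the part of the table that contains a row, by its digits of weight 256 to 2048 -/
noncomputable def sel3_227 (a : ℕ) : ℕ :=
  (cond (Nat.beq (Nat.land a 256) 0) (cond (Nat.beq (Nat.land a 512) 0) (cond (Nat.beq (Nat.land a 1024) 0) (cond (Nat.beq (Nat.land a 2048) 0) rl227 rl2275) (cond (Nat.beq (Nat.land a 2048) 0) rl1251 rl3299)) (cond (Nat.beq (Nat.land a 1024) 0) (cond (Nat.beq (Nat.land a 2048) 0) rl739 rl2787) (cond (Nat.beq (Nat.land a 2048) 0) rl1763 rl3811))) (cond (Nat.beq (Nat.land a 512) 0) (cond (Nat.beq (Nat.land a 1024) 0) (cond (Nat.beq (Nat.land a 2048) 0) rl483 rl2531) (cond (Nat.beq (Nat.land a 2048) 0) rl1507 rl3555)) (cond (Nat.beq (Nat.land a 1024) 0) (cond (Nat.beq (Nat.land a 2048) 0) rl995 rl3043) (cond (Nat.beq (Nat.land a 2048) 0) rl2019 rl4067))))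

/-- the part of the table that contains a row, by its digits of weight 256 to 2048 -/
noncomputable def sel3_228 (a : ℕ) : ℕ :=
  (cond (Nat.beq (Nat.land a 256) 0) (cond (Nat.beq (Nat.land a 512) 0) (cond (Nat.beq (Nat.land a 1024) 0) (cond (Nat.beq (Nat.land a 2048) 0) rl228 rl2276) (cond (Nat.beq (Nat.land a 2048) 0) rl1252 rl3300)) (cond (Nat.beq (Nat.land a 1024) 0) (cond (Nat.beq (Nat.land a 2048) 0) rl740 rl2788) (cond (Nat.beq (Nat.land a 2048) 0) rl1764 rl3812))) (cond (Nat.beq (Nat.land a 512) 0) (cond (Nat.beq (Nat.land a 1024) 0) (cond (Nat.beq (Nat.land a 2048) 0) rl484 rl2532) (cond (Nat.beq (Nat.land a 2048) 0) rl1508 rl3556)) (cond (Nat.beq (Nat.land a 1024) 0) (cond (Nat.beq (Nat.land a 2048) 0) rl996 rl3044) (cond (Nat.beq (Nat.land a 2048) 0) rl2020 rl4068))))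

/-- the part of the table that contains a row, by its digits of weight 256 to 2048 -/
noncomputable def sel3_229 (a : ℕ) : ℕ :=
  (cond (Nat.beq (Nat.land a 256) 0) (cond (Nat.beq (Nat.land a 512) 0) (cond (Nat.beq (Nat.land a 1024) 0) (cond (Nat.beq (Nat.land a 2048) 0) rl229 rl2277) (cond (Nat.beq (Nat.land a 2048) 0) rl1253 rl3301)) (cond (Nat.beq (Nat.land a 1024) 0) (cond (Nat.beq (Nat.land a 2048) 0) rl741 rl2789) (cond (Nat.beq (Nat.land a 2048) 0) rl1765 rl3813))) (cond (Nat.beq (Nat.land a 512) 0) (cond (Nat.beq (Nat.land a 1024) 0) (cond (Nat.beq (Nat.land a 2048) 0) rl485 rl2533) (cond (Nat.beq (Nat.land a 2048) 0) rl1509 rl3557)) (cond (Nat.beq (Nat.land a 1024) 0) (cond (Nat.beq (Nat.land a 2048) 0) rl997 rl3045) (cond (Nat.beq (Nat.land a 2048) 0) rl2021 rl4069))))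

/-- the part of the table that contains a row, by its digits of weight 256 to 2048 -/
noncomputable def sel3_230 (a : ℕ) : ℕ :=
  (cond (Nat.beq (Nat.land a 256) 0) (cond (Nat.beq (Nat.land a 512) 0) (cond (Nat.beq (Nat.land a 1024) 0) (cond (Nat.beq (Nat.land a 2048) 0) rl230 rl2278) (cond (Nat.beq (Nat.land a 2048) 0) rl1254 rl3302)) (cond (Nat.beq (Nat.land a 1024) 0) (cond (Nat.beq (Nat.land a 2048) 0) rl742 rl2790) (cond (Nat.beq (Nat.land a 2048) 0) rl1766 rl3814))) (cond (Nat.beq (Nat.land a 512) 0) (cond (Nat.beq (Nat.land a 1024) 0) (cond (Nat.beq (Nat.land a 2048) 0) rl486 rl2534) (cond (Nat.beq (Nat.land a 2048) 0) rl1510 rl3558)) (cond (Nat.beq (Nat.land a 1024) 0) (cond (Nat.beq (Nat.land a 2048) 0) rl998 rl3046) (cond (Nat.beq (Nat.land a 2048) 0) rl2022 rl4070))))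

/-- the part of the table that contains a row, by its digits of weight 256 to 2048 -/
noncomputable def sel3_231 (a : ℕ) : ℕ :=
  (cond (Nat.beq (Nat.land a 256) 0) (cond (Nat.beq (Nat.land a 512) 0) (cond (Nat.beq (Nat.land a 1024) 0) (cond (Nat.beq (Nat.land a 2048) 0) rl231 rl2279) (cond (Nat.beq (Nat.land a 2048) 0) rl1255 rl3303)) (cond (Nat.beq (Nat.land a 1024) 0) (cond (Nat.beq (Nat.land a 2048) 0) rl743 rl2791) (cond (Nat.beq (Nat.land a 2048) 0) rl1767 rl3815))) (cond (Nat.beq (Nat.land a 512) 0) (cond (Nat.beq (Nat.land a 1024) 0) (cond (Nat.beq (Nat.land a 2048) 0) rl487 rl2535) (cond (Nat.beq (Nat.land a 2048) 0) rl1511 rl3559)) (cond (Nat.beq (Nat.land a 1024) 0) (cond (Nat.beq (Nat.land a 2048) 0) rl999 rl3047) (cond (Nat.beq (Nat.land a 2048) 0) rl2023 rl4071))))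

/-- the part of the table that contains a row, by its digits of weight 256 to 2048 -/
noncomputable def sel3_232 (a : ℕ) : ℕ :=
  (cond (Nat.beq (Nat.land a 256) 0) (cond (Nat.beq (Nat.land a 512) 0) (cond (Nat.beq (Nat.land a 1024) 0) (cond (Nat.beq (Nat.land a 2048) 0) rl232 rl2280) (cond (Nat.beq (Nat.land a 2048) 0) rl1256 rl3304)) (cond (Nat.beq (Nat.land a 1024) 0) (cond (Nat.beq (Nat.land a 2048) 0) rl744 rl2792) (cond (Nat.beq (Nat.land a 2048) 0) rl1768 rl3816))) (cond (Nat.beq (Nat.land a 512) 0) (cond (Nat.beq (Nat.land a 1024) 0) (cond (Nat.beq (Nat.land a 2048) 0) rl488 rl2536) (cond (Nat.beq (Nat.land a 2048) 0) rl1512 rl3560)) (cond (Nat.beq (Nat.land a 1024) 0) (cond (Nat.beq (Nat.land a 2048) 0) rl1000 rl3048) (cond (Nat.beq (Nat.land a 2048) 0) rl2024 rl4072))))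

/-- the part of the table that contains a row, by its digits of weight 256 to 2048 -/
noncomputable def sel3_233 (a : ℕ) : ℕ :=
  (cond (Nat.beq (Nat.land a 256) 0) (cond (Nat.beq (Nat.land a 512) 0) (cond (Nat.beq (Nat.land a 1024) 0) (cond (Nat.beq (Nat.land a 2048) 0) rl233 rl2281) (cond (Nat.beq (Nat.land a 2048) 0) rl1257 rl3305)) (cond (Nat.beq (Nat.land a 1024) 0) (cond (Nat.beq (Nat.land a 2048) 0) rl745 rl2793) (cond (Nat.beq (Nat.land a 2048) 0) rl1769 rl3817))) (cond (Nat.beq (Nat.land a 512) 0) (cond (Nat.beq (Nat.land a 1024) 0) (cond (Nat.beq (Nat.land a 2048) 0) rl489 rl2537) (cond (Nat.beq (Nat.land a 2048) 0) rl1513 rl3561)) (cond (Nat.beq (Nat.land a 1024) 0) (cond (Nat.beq (Nat.land a 2048) 0) rl1001 rl3049) (cond (Nat.beq (Nat.land a 2048) 0) rl2025 rl4073))))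

/-- the part of the table that contains a row, by its digits of weight 256 to 2048 -/
noncomputable def sel3_234 (a : ℕ) : ℕ :=
  (cond (Nat.beq (Nat.land a 256) 0) (cond (Nat.beq (Nat.land a 512) 0) (cond (Nat.beq (Nat.land a 1024) 0) (cond (Nat.beq (Nat.land a 2048) 0) rl234 rl2282) (cond (Nat.beq (Nat.land a 2048) 0) rl1258 rl3306)) (cond (Nat.beq (Nat.land a 1024) 0) (cond (Nat.beq (Nat.land a 2048) 0) rl746 rl2794) (cond (Nat.beq (Nat.land a 2048) 0) rl1770 rl3818))) (cond (Nat.beq (Nat.land a 512) 0) (cond (Nat.beq (Nat.land a 1024) 0) (cond (Nat.beq (Nat.land a 2048) 0) rl490 rl2538) (cond (Nat.beq (Nat.land a 2048) 0) rl1514 rl3562)) (cond (Nat.beq (Nat.land a 1024) 0) (cond (Nat.beq (Nat.land a 2048) 0) rl1002 rl3050) (cond (Nat.beq (Nat.land a 2048) 0) rl2026 rl4074))))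

/-- the part of the table that contains a row, by its digits of weight 256 to 2048 -/
noncomputable def sel3_235 (a : ℕ) : ℕ :=
  (cond (Nat.beq (Nat.land a 256) 0) (cond (Nat.beq (Nat.land a 512) 0) (cond (Nat.beq (Nat.land a 1024) 0) (cond (Nat.beq (Nat.land a 2048) 0) rl235 rl2283) (cond (Nat.beq (Nat.land a 2048) 0) rl1259 rl3307)) (cond (Nat.beq (Nat.land a 1024) 0) (cond (Nat.beq (Nat.land a 2048) 0) rl747 rl2795) (cond (Nat.beq (Nat.land a 2048) 0) rl1771 rl3819))) (cond (Nat.beq (Nat.land a 512) 0) (cond (Nat.beq (Nat.land a 1024) 0) (cond (Nat.beq (Nat.land a 2048) 0) rl491 rl2539) (cond (Nat.beq (Nat.land a 2048) 0) rl1515 rl3563)) (cond (Nat.beq (Nat.land a 1024) 0) (cond (Nat.beq (Nat.land a 2048) 0) rl1003 rl3051) (cond (Nat.beq (Nat.land a 2048) 0) rl2027 rl4075))))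

/-- the part of the table that contains a row, by its digits of weight 256 to 2048 -/
noncomputable def sel3_236 (a : ℕ) : ℕ :=
  (cond (Nat.beq (Nat.land a 256) 0) (cond (Nat.beq (Nat.land a 512) 0) (cond (Nat.beq (Nat.land a 1024) 0) (cond (Nat.beq (Nat.land a 2048) 0) rl236 rl2284) (cond (Nat.beq (Nat.land a 2048) 0) rl1260 rl3308)) (cond (Nat.beq (Nat.land a 1024) 0) (cond (Nat.beq (Nat.land a 2048) 0) rl748 rl2796) (cond (Nat.beq (Nat.land a 2048) 0) rl1772 rl3820))) (cond (Nat.beq (Nat.land a 512) 0) (cond (Nat.beq (Nat.land a 1024) 0) (cond (Nat.beq (Nat.land a 2048) 0) rl492 rl2540) (cond (Nat.beq (Nat.land a 2048) 0) rl1516 rl3564)) (cond (Nat.beq (Nat.land a 1024) 0) (cond (Nat.beq (Nat.land a 2048) 0) rl1004 rl3052) (cond (Nat.beq (Nat.land a 2048) 0) rl2028 rl4076))))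

/-- the part of the table that contains a row, by its digits of weight 256 to 2048 -/
noncomputable def sel3_237 (a : ℕ) : ℕ :=
  (cond (Nat.beq (Nat.land a 256) 0) (cond (Nat.beq (Nat.land a 512) 0) (cond (Nat.beq (Nat.land a 1024) 0) (cond (Nat.beq (Nat.land a 2048) 0) rl237 rl2285) (cond (Nat.beq (Nat.land a 2048) 0) rl1261 rl3309)) (cond (Nat.beq (Nat.land a 1024) 0) (cond (Nat.beq (Nat.land a 2048) 0) rl749 rl2797) (cond (Nat.beq (Nat.land a 2048) 0) rl1773 rl3821))) (cond (Nat.beq (Nat.land a 512) 0) (cond (Nat.beq (Nat.land a 1024) 0) (cond (Nat.beq (Nat.land a 2048) 0) rl493 rl2541) (cond (Nat.beq (Nat.land a 2048) 0) rl1517 rl3565)) (cond (Nat.beq (Nat.land a 1024) 0) (cond (Nat.beq (Nat.land a 2048) 0) rl1005 rl3053) (cond (Nat.beq (Nat.land a 2048) 0) rl2029 rl4077))))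

/-- the part of the table that contains a row, by its digits of weight 256 to 2048 -/
noncomputable def sel3_238 (a : ℕ) : ℕ :=
  (cond (Nat.beq (Nat.land a 256) 0) (cond (Nat.beq (Nat.land a 512) 0) (cond (Nat.beq (Nat.land a 1024) 0) (cond (Nat.beq (Nat.land a 2048) 0) rl238 rl2286) (cond (Nat.beq (Nat.land a 2048) 0) rl1262 rl3310)) (cond (Nat.beq (Nat.land a 1024) 0) (cond (Nat.beq (Nat.land a 2048) 0) rl750 rl2798) (cond (Nat.beq (Nat.land a 2048) 0) rl1774 rl3822))) (cond (Nat.beq (Nat.land a 512) 0) (cond (Nat.beq (Nat.land a 1024) 0) (cond (Nat.beq (Nat.land a 2048) 0) rl494 rl2542) (cond (Nat.beq (Nat.land a 2048) 0) rl1518 rl3566)) (cond (Nat.beq (Nat.land a 1024) 0) (cond (Nat.beq (Nat.land a 2048) 0) rl1006 rl3054) (cond (Nat.beq (Nat.land a 2048) 0) rl2030 rl4078))))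

/-- the part of the table that contains a row, by its digits of weight 256 to 2048 -/
noncomputable def sel3_239 (a : ℕ) : ℕ :=
  (cond (Nat.beq (Nat.land a 256) 0) (cond (Nat.beq (Nat.land a 512) 0) (cond (Nat.beq (Nat.land a 1024) 0) (cond (Nat.beq (Nat.land a 2048) 0) rl239 rl2287) (cond (Nat.beq (Nat.land a 2048) 0) rl1263 rl3311)) (cond (Nat.beq (Nat.land a 1024) 0) (cond (Nat.beq (Nat.land a 2048) 0) rl751 rl2799) (cond (Nat.beq (Nat.land a 2048) 0) rl1775 rl3823))) (cond (Nat.beq (Nat.land a 512) 0) (cond (Nat.beq (Nat.land a 1024) 0) (cond (Nat.beq (Nat.land a 2048) 0) rl495 rl2543) (cond (Nat.beq (Nat.land a 2048) 0) rl1519 rl3567)) (cond (Nat.beq (Nat.land a 1024) 0) (cond (Nat.beq (Nat.land a 2048) 0) rl1007 rl3055) (cond (Nat.beq (Nat.land a 2048) 0) rl2031 rl4079))))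

/-- the part of the table that contains a row, by its digits of weight 256 to 2048 -/
noncomputable def sel3_240 (a : ℕ) : ℕ :=
  (cond (Nat.beq (Nat.land a 256) 0) (cond (Nat.beq (Nat.land a 512) 0) (cond (Nat.beq (Nat.land a 1024) 0) (cond (Nat.beq (Nat.land a 2048) 0) rl240 rl2288) (cond (Nat.beq (Nat.land a 2048) 0) rl1264 rl3312)) (cond (Nat.beq (Nat.land a 1024) 0) (cond (Nat.beq (Nat.land a 2048) 0) rl752 rl2800) (cond (Nat.beq (Nat.land a 2048) 0) rl1776 rl3824))) (cond (Nat.beq (Nat.land a 512) 0) (cond (Nat.beq (Nat.land a 1024) 0) (cond (Nat.beq (Nat.land a 2048) 0) rl496 rl2544) (cond (Nat.beq (Nat.land a 2048) 0) rl1520 rl3568)) (cond (Nat.beq (Nat.land a 1024) 0) (cond (Nat.beq (Nat.land a 2048) 0) rl1008 rl3056) (cond (Nat.beq (Nat.land a 2048) 0) rl2032 rl4080))))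

/-- the part of the table that contains a row, by its digits of weight 256 to 2048 -/
noncomputable def sel3_241 (a : ℕ) : ℕ :=
  (cond (Nat.beq (Nat.land a 256) 0) (cond (Nat.beq (Nat.land a 512) 0) (cond (Nat.beq (Nat.land a 1024) 0) (cond (Nat.beq (Nat.land a 2048) 0) rl241 rl2289) (cond (Nat.beq (Nat.land a 2048) 0) rl1265 rl3313)) (cond (Nat.beq (Nat.land a 1024) 0) (cond (Nat.beq (Nat.land a 2048) 0) rl753 rl2801) (cond (Nat.beq (Nat.land a 2048) 0) rl1777 rl3825))) (cond (Nat.beq (Nat.land a 512) 0) (cond (Nat.beq (Nat.land a 1024) 0) (cond (Nat.beq (Nat.land a 2048) 0) rl497 rl2545) (cond (Nat.beq (Nat.land a 2048) 0) rl1521 rl3569)) (cond (Nat.beq (Nat.land a 1024) 0) (cond (Nat.beq (Nat.land a 2048) 0) rl1009 rl3057) (cond (Nat.beq (Nat.land a 2048) 0) rl2033 rl4081))))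

/-- the part of the table that contains a row, by its digits of weight 256 to 2048 -/
noncomputable def sel3_242 (a : ℕ) : ℕ :=
  (cond (Nat.beq (Nat.land a 256) 0) (cond (Nat.beq (Nat.land a 512) 0) (cond (Nat.beq (Nat.land a 1024) 0) (cond (Nat.beq (Nat.land a 2048) 0) rl242 rl2290) (cond (Nat.beq (Nat.land a 2048) 0) rl1266 rl3314)) (cond (Nat.beq (Nat.land a 1024) 0) (cond (Nat.beq (Nat.land a 2048) 0) rl754 rl2802) (cond (Nat.beq (Nat.land a 2048) 0) rl1778 rl3826))) (cond (Nat.beq (Nat.land a 512) 0) (cond (Nat.beq (Nat.land a 1024) 0) (cond (Nat.beq (Nat.land a 2048) 0) rl498 rl2546) (cond (Nat.beq (Nat.land a 2048) 0) rl1522 rl3570)) (cond (Nat.beq (Nat.land a 1024) 0) (cond (Nat.beq (Nat.land a 2048) 0) rl1010 rl3058) (cond (Nat.beq (Nat.land a 2048) 0) rl2034 rl4082))))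

/-- the part of the table that contains a row, by its digits of weight 256 to 2048 -/
noncomputable def sel3_243 (a : ℕ) : ℕ :=
  (cond (Nat.beq (Nat.land a 256) 0) (cond (Nat.beq (Nat.land a 512) 0) (cond (Nat.beq (Nat.land a 1024) 0) (cond (Nat.beq (Nat.land a 2048) 0) rl243 rl2291) (cond (Nat.beq (Nat.land a 2048) 0) rl1267 rl3315)) (cond (Nat.beq (Nat.land a 1024) 0) (cond (Nat.beq (Nat.land a 2048) 0) rl755 rl2803) (cond (Nat.beq (Nat.land a 2048) 0) rl1779 rl3827))) (cond (Nat.beq (Nat.land a 512) 0) (cond (Nat.beq (Nat.land a 1024) 0) (cond (Nat.beq (Nat.land a 2048) 0) rl499 rl2547) (cond (Nat.beq (Nat.land a 2048) 0) rl1523 rl3571)) (cond (Nat.beq (Nat.land a 1024) 0) (cond (Nat.beq (Nat.land a 2048) 0) rl1011 rl3059) (cond (Nat.beq (Nat.land a 2048) 0) rl2035 rl4083))))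

/-- the part of the table that contains a row, by its digits of weight 256 to 2048 -/
noncomputable def sel3_244 (a : ℕ) : ℕ :=
  (cond (Nat.beq (Nat.land a 256) 0) (cond (Nat.beq (Nat.land a 512) 0) (cond (Nat.beq (Nat.land a 1024) 0) (cond (Nat.beq (Nat.land a 2048) 0) rl244 rl2292) (cond (Nat.beq (Nat.land a 2048) 0) rl1268 rl3316)) (cond (Nat.beq (Nat.land a 1024) 0) (cond (Nat.beq (Nat.land a 2048) 0) rl756 rl2804) (cond (Nat.beq (Nat.land a 2048) 0) rl1780 rl3828))) (cond (Nat.beq (Nat.land a 512) 0) (cond (Nat.beq (Nat.land a 1024) 0) (cond (Nat.beq (Nat.land a 2048) 0) rl500 rl2548) (cond (Nat.beq (Nat.land a 2048) 0) rl1524 rl3572)) (cond (Nat.beq (Nat.land a 1024) 0) (cond (Nat.beq (Nat.land a 2048) 0) rl1012 rl3060) (cond (Nat.beq (Nat.land a 2048) 0) rl2036 rl4084))))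

/-- the part of the table that contains a row, by its digits of weight 256 to 2048 -/
noncomputable def sel3_245 (a : ℕ) : ℕ :=
  (cond (Nat.beq (Nat.land a 256) 0) (cond (Nat.beq (Nat.land a 512) 0) (cond (Nat.beq (Nat.land a 1024) 0) (cond (Nat.beq (Nat.land a 2048) 0) rl245 rl2293) (cond (Nat.beq (Nat.land a 2048) 0) rl1269 rl3317)) (cond (Nat.beq (Nat.land a 1024) 0) (cond (Nat.beq (Nat.land a 2048) 0) rl757 rl2805) (cond (Nat.beq (Nat.land a 2048) 0) rl1781 rl3829))) (cond (Nat.beq (Nat.land a 512) 0) (cond (Nat.beq (Nat.land a 1024) 0) (cond (Nat.beq (Nat.land a 2048) 0) rl501 rl2549) (cond (Nat.beq (Nat.land a 2048) 0) rl1525 rl3573)) (cond (Nat.beq (Nat.land a 1024) 0) (cond (Nat.beq (Nat.land a 2048) 0) rl1013 rl3061) (cond (Nat.beq (Nat.land a 2048) 0) rl2037 rl4085))))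

/-- the part of the table that contains a row, by its digits of weight 256 to 2048 -/
noncomputable def sel3_246 (a : ℕ) : ℕ :=
  (cond (Nat.beq (Nat.land a 256) 0) (cond (Nat.beq (Nat.land a 512) 0) (cond (Nat.beq (Nat.land a 1024) 0) (cond (Nat.beq (Nat.land a 2048) 0) rl246 rl2294) (cond (Nat.beq (Nat.land a 2048) 0) rl1270 rl3318)) (cond (Nat.beq (Nat.land a 1024) 0) (cond (Nat.beq (Nat.land a 2048) 0) rl758 rl2806) (cond (Nat.beq (Nat.land a 2048) 0) rl1782 rl3830))) (cond (Nat.beq (Nat.land a 512) 0) (cond (Nat.beq (Nat.land a 1024) 0) (cond (Nat.beq (Nat.land a 2048) 0) rl502 rl2550) (cond (Nat.beq (Nat.land a 2048) 0) rl1526 rl3574)) (cond (Nat.beq (Nat.land a 1024) 0) (cond (Nat.beq (Nat.land a 2048) 0) rl1014 rl3062) (cond (Nat.beq (Nat.land a 2048) 0) rl2038 rl4086))))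

/-- the part of the table that contains a row, by its digits of weight 256 to 2048 -/
noncomputable def sel3_247 (a : ℕ) : ℕ :=
  (cond (Nat.beq (Nat.land a 256) 0) (cond (Nat.beq (Nat.land a 512) 0) (cond (Nat.beq (Nat.land a 1024) 0) (cond (Nat.beq (Nat.land a 2048) 0) rl247 rl2295) (cond (Nat.beq (Nat.land a 2048) 0) rl1271 rl3319)) (cond (Nat.beq (Nat.land a 1024) 0) (cond (Nat.beq (Nat.land a 2048) 0) rl759 rl2807) (cond (Nat.beq (Nat.land a 2048) 0) rl1783 rl3831))) (cond (Nat.beq (Nat.land a 512) 0) (cond (Nat.beq (Nat.land a 1024) 0) (cond (Nat.beq (Nat.land a 2048) 0) rl503 rl2551) (cond (Nat.beq (Nat.land a 2048) 0) rl1527 rl3575)) (cond (Nat.beq (Nat.land a 1024) 0) (cond (Nat.beq (Nat.land a 2048) 0) rl1015 rl3063) (cond (Nat.beq (Nat.land a 2048) 0) rl2039 rl4087))))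

/-- the part of the table that contains a row, by its digits of weight 256 to 2048 -/
noncomputable def sel3_248 (a : ℕ) : ℕ :=
  (cond (Nat.beq (Nat.land a 256) 0) (cond (Nat.beq (Nat.land a 512) 0) (cond (Nat.beq (Nat.land a 1024) 0) (cond (Nat.beq (Nat.land a 2048) 0) rl248 rl2296) (cond (Nat.beq (Nat.land a 2048) 0) rl1272 rl3320)) (cond (Nat.beq (Nat.land a 1024) 0) (cond (Nat.beq (Nat.land a 2048) 0) rl760 rl2808) (cond (Nat.beq (Nat.land a 2048) 0) rl1784 rl3832))) (cond (Nat.beq (Nat.land a 512) 0) (cond (Nat.beq (Nat.land a 1024) 0) (cond (Nat.beq (Nat.land a 2048) 0) rl504 rl2552) (cond (Nat.beq (Nat.land a 2048) 0) rl1528 rl3576)) (cond (Nat.beq (Nat.land a 1024) 0) (cond (Nat.beq (Nat.land a 2048) 0) rl1016 rl3064) (cond (Nat.beq (Nat.land a 2048) 0) rl2040 rl4088))))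

/-- the part of the table that contains a row, by its digits of weight 256 to 2048 -/
noncomputable def sel3_249 (a : ℕ) : ℕ :=
  (cond (Nat.beq (Nat.land a 256) 0) (cond (Nat.beq (Nat.land a 512) 0) (cond (Nat.beq (Nat.land a 1024) 0) (cond (Nat.beq (Nat.land a 2048) 0) rl249 rl2297) (cond (Nat.beq (Nat.land a 2048) 0) rl1273 rl3321)) (cond (Nat.beq (Nat.land a 1024) 0) (cond (Nat.beq (Nat.land a 2048) 0) rl761 rl2809) (cond (Nat.beq (Nat.land a 2048) 0) rl1785 rl3833))) (cond (Nat.beq (Nat.land a 512) 0) (cond (Nat.beq (Nat.land a 1024) 0) (cond (Nat.beq (Nat.land a 2048) 0) rl505 rl2553) (cond (Nat.beq (Nat.land a 2048) 0) rl1529 rl3577)) (cond (Nat.beq (Nat.land a 1024) 0) (cond (Nat.beq (Nat.land a 2048) 0) rl1017 rl3065) (cond (Nat.beq (Nat.land a 2048) 0) rl2041 rl4089))))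

/-- the part of the table that contains a row, by its digits of weight 256 to 2048 -/
noncomputable def sel3_250 (a : ℕ) : ℕ :=
  (cond (Nat.beq (Nat.land a 256) 0) (cond (Nat.beq (Nat.land a 512) 0) (cond (Nat.beq (Nat.land a 1024) 0) (cond (Nat.beq (Nat.land a 2048) 0) rl250 rl2298) (cond (Nat.beq (Nat.land a 2048) 0) rl1274 rl3322)) (cond (Nat.beq (Nat.land a 1024) 0) (cond (Nat.beq (Nat.land a 2048) 0) rl762 rl2810) (cond (Nat.beq (Nat.land a 2048) 0) rl1786 rl3834))) (cond (Nat.beq (Nat.land a 512) 0) (cond (Nat.beq (Nat.land a 1024) 0) (cond (Nat.beq (Nat.land a 2048) 0) rl506 rl2554) (cond (Nat.beq (Nat.land a 2048) 0) rl1530 rl3578)) (cond (Nat.beq (Nat.land a 1024) 0) (cond (Nat.beq (Nat.land a 2048) 0) rl1018 rl3066) (cond (Nat.beq (Nat.land a 2048) 0) rl2042 rl4090))))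

/-- the part of the table that contains a row, by its digits of weight 256 to 2048 -/
noncomputable def sel3_251 (a : ℕ) : ℕ :=
  (cond (Nat.beq (Nat.land a 256) 0) (cond (Nat.beq (Nat.land a 512) 0) (cond (Nat.beq (Nat.land a 1024) 0) (cond (Nat.beq (Nat.land a 2048) 0) rl251 rl2299) (cond (Nat.beq (Nat.land a 2048) 0) rl1275 rl3323)) (cond (Nat.beq (Nat.land a 1024) 0) (cond (Nat.beq (Nat.land a 2048) 0) rl763 rl2811) (cond (Nat.beq (Nat.land a 2048) 0) rl1787 rl3835))) (cond (Nat.beq (Nat.land a 512) 0) (cond (Nat.beq (Nat.land a 1024) 0) (cond (Nat.beq (Nat.land a 2048) 0) rl507 rl2555) (cond (Nat.beq (Nat.land a 2048) 0) rl1531 rl3579)) (cond (Nat.beq (Nat.land a 1024) 0) (cond (Nat.beq (Nat.land a 2048) 0) rl1019 rl3067) (cond (Nat.beq (Nat.land a 2048) 0) rl2043 rl4091))))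

/-- the part of the table that contains a row, by its digits of weight 256 to 2048 -/
noncomputable def sel3_252 (a : ℕ) : ℕ :=
  (cond (Nat.beq (Nat.land a 256) 0) (cond (Nat.beq (Nat.land a 512) 0) (cond (Nat.beq (Nat.land a 1024) 0) (cond (Nat.beq (Nat.land a 2048) 0) rl252 rl2300) (cond (Nat.beq (Nat.land a 2048) 0) rl1276 rl3324)) (cond (Nat.beq (Nat.land a 1024) 0) (cond (Nat.beq (Nat.land a 2048) 0) rl764 rl2812) (cond (Nat.beq (Nat.land a 2048) 0) rl1788 rl3836))) (cond (Nat.beq (Nat.land a 512) 0) (cond (Nat.beq (Nat.land a 1024) 0) (cond (Nat.beq (Nat.land a 2048) 0) rl508 rl2556) (cond (Nat.beq (Nat.land a 2048) 0) rl1532 rl3580)) (cond (Nat.beq (Nat.land a 1024) 0) (cond (Nat.beq (Nat.land a 2048) 0) rl1020 rl3068) (cond (Nat.beq (Nat.land a 2048) 0) rl2044 rl4092))))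

/-- the part of the table that contains a row, by its digits of weight 256 to 2048 -/
noncomputable def sel3_253 (a : ℕ) : ℕ :=
  (cond (Nat.beq (Nat.land a 256) 0) (cond (Nat.beq (Nat.land a 512) 0) (cond (Nat.beq (Nat.land a 1024) 0) (cond (Nat.beq (Nat.land a 2048) 0) rl253 rl2301) (cond (Nat.beq (Nat.land a 2048) 0) rl1277 rl3325)) (cond (Nat.beq (Nat.land a 1024) 0) (cond (Nat.beq (Nat.land a 2048) 0) rl765 rl2813) (cond (Nat.beq (Nat.land a 2048) 0) rl1789 rl3837))) (cond (Nat.beq (Nat.land a 512) 0) (cond (Nat.beq (Nat.land a 1024) 0) (cond (Nat.beq (Nat.land a 2048) 0) rl509 rl2557) (cond (Nat.beq (Nat.land a 2048) 0) rl1533 rl3581)) (cond (Nat.beq (Nat.land a 1024) 0) (cond (Nat.beq (Nat.land a 2048) 0) rl1021 rl3069) (cond (Nat.beq (Nat.land a 2048) 0) rl2045 rl4093))))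

/-- the part of the table that contains a row, by its digits of weight 256 to 2048 -/
noncomputable def sel3_254 (a : ℕ) : ℕ :=
  (cond (Nat.beq (Nat.land a 256) 0) (cond (Nat.beq (Nat.land a 512) 0) (cond (Nat.beq (Nat.land a 1024) 0) (cond (Nat.beq (Nat.land a 2048) 0) rl254 rl2302) (cond (Nat.beq (Nat.land a 2048) 0) rl1278 rl3326)) (cond (Nat.beq (Nat.land a 1024) 0) (cond (Nat.beq (Nat.land a 2048) 0) rl766 rl2814) (cond (Nat.beq (Nat.land a 2048) 0) rl1790 rl3838))) (cond (Nat.beq (Nat.land a 512) 0) (cond (Nat.beq (Nat.land a 1024) 0) (cond (Nat.beq (Nat.land a 2048) 0) rl510 rl2558) (cond (Nat.beq (Nat.land a 2048) 0) rl1534 rl3582)) (cond (Nat.beq (Nat.land a 1024) 0) (cond (Nat.beq (Nat.land a 2048) 0) rl1022 rl3070) (cond (Nat.beq (Nat.land a 2048) 0) rl2046 rl4094))))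

/-- the part of the table that contains a row, by its digits of weight 256 to 2048 -/
noncomputable def sel3_255 (a : ℕ) : ℕ :=
  (cond (Nat.beq (Nat.land a 256) 0) (cond (Nat.beq (Nat.land a 512) 0) (cond (Nat.beq (Nat.land a 1024) 0) (cond (Nat.beq (Nat.land a 2048) 0) rl255 rl2303) (cond (Nat.beq (Nat.land a 2048) 0) rl1279 rl3327)) (cond (Nat.beq (Nat.land a 1024) 0) (cond (Nat.beq (Nat.land a 2048) 0) rl767 rl2815) (cond (Nat.beq (Nat.land a 2048) 0) rl1791 rl3839))) (cond (Nat.beq (Nat.land a 512) 0) (cond (Nat.beq (Nat.land a 1024) 0) (cond (Nat.beq (Nat.land a 2048) 0) rl511 rl2559) (cond (Nat.beq (Nat.land a 2048) 0) rl1535 rl3583)) (cond (Nat.beq (Nat.land a 1024) 0) (cond (Nat.beq (Nat.land a 2048) 0) rl1023 rl3071) (cond (Nat.beq (Nat.land a 2048) 0) rl2047 rl4095))))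

/-- the part of the table that contains a row, by its digits of weight 16 to 128 -/
noncomputable def sel2_0 (a : ℕ) : ℕ :=
  (cond (Nat.beq (Nat.land a 16) 0) (cond (Nat.beq (Nat.land a 32) 0) (cond (Nat.beq (Nat.land a 64) 0) (cond (Nat.beq (Nat.land a 128) 0) (sel3_0 a) (sel3_128 a)) (cond (Nat.beq (Nat.land a 128) 0) (sel3_64 a) (sel3_192 a))) (cond (Nat.beq (Nat.land a 64) 0) (cond (Nat.beq (Nat.land a 128) 0) (sel3_32 a) (sel3_160 a)) (cond (Nat.beq (Nat.land a 128) 0) (sel3_96 a) (sel3_224 a)))) (cond (Nat.beq (Nat.land a 32) 0) (cond (Nat.beq (Nat.land a 64) 0) (cond (Nat.beq (Nat.land a 128) 0) (sel3_16 a) (sel3_144 a)) (cond (Nat.beq (Nat.land a 128) 0) (sel3_80 a) (sel3_208 a))) (cond (Nat.beq (Nat.land a 64) 0) (cond (Nat.beq (Nat.land a 128) 0) (sel3_48 a) (sel3_176 a)) (cond (Nat.beq (Nat.land a 128) 0) (sel3_112 a) (sel3_240 a)))))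

/-- the part of the table that contains a row, by its digits of weight 16 to 128 -/
noncomputable def sel2_1 (a : ℕ) : ℕ :=
  (cond (Nat.beq (Nat.land a 16) 0) (cond (Nat.beq (Nat.land a 32) 0) (cond (Nat.beq (Nat.land a 64) 0) (cond (Nat.beq (Nat.land a 128) 0) (sel3_1 a) (sel3_129 a)) (cond (Nat.beq (Nat.land a 128) 0) (sel3_65 a) (sel3_193 a))) (cond (Nat.beq (Nat.land a 64) 0) (cond (Nat.beq (Nat.land a 128) 0) (sel3_33 a) (sel3_161 a)) (cond (Nat.beq (Nat.land a 128) 0) (sel3_97 a) (sel3_225 a)))) (cond (Nat.beq (Nat.land a 32) 0) (cond (Nat.beq (Nat.land a 64) 0) (cond (Nat.beq (Nat.land a 128) 0) (sel3_17 a) (sel3_145 a)) (cond (Nat.beq (Nat.land a 128) 0) (sel3_81 a) (sel3_209 a))) (cond (Nat.beq (Nat.land a 64) 0) (cond (Nat.beq (Nat.land a 128) 0) (sel3_49 a) (sel3_177 a)) (cond (Nat.beq (Nat.land a 128) 0) (sel3_113 a) (sel3_241 a)))))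

/-- the part of the table that contains a row, by its digits of weight 16 to 128 -/
noncomputable def sel2_2 (a : ℕ) : ℕ :=
  (cond (Nat.beq (Nat.land a 16) 0) (cond (Nat.beq (Nat.land a 32) 0) (cond (Nat.beq (Nat.land a 64) 0) (cond (Nat.beq (Nat.land a 128) 0) (sel3_2 a) (sel3_130 a)) (cond (Nat.beq (Nat.land a 128) 0) (sel3_66 a) (sel3_194 a))) (cond (Nat.beq (Nat.land a 64) 0) (cond (Nat.beq (Nat.land a 128) 0) (sel3_34 a) (sel3_162 a)) (cond (Nat.beq (Nat.land a 128) 0) (sel3_98 a) (sel3_226 a)))) (cond (Nat.beq (Nat.land a 32) 0) (cond (Nat.beq (Nat.land a 64) 0) (cond (Nat.beq (Nat.land a 128) 0) (sel3_18 a) (sel3_146 a)) (cond (Nat.beq (Nat.land a 128) 0) (sel3_82 a) (sel3_210 a))) (cond (Nat.beq (Nat.land a 64) 0) (cond (Nat.beq (Nat.land a 128) 0) (sel3_50 a) (sel3_178 a)) (cond (Nat.beq (Nat.land a 128) 0) (sel3_114 a) (sel3_242 a)))))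

/-- the part of the table that contains a row, by its digits of weight 16 to 128 -/
noncomputable def sel2_3 (a : ℕ) : ℕ :=
  (cond (Nat.beq (Nat.land a 16) 0) (cond (Nat.beq (Nat.land a 32) 0) (cond (Nat.beq (Nat.land a 64) 0) (cond (Nat.beq (Nat.land a 128) 0) (sel3_3 a) (sel3_131 a)) (cond (Nat.beq (Nat.land a 128) 0) (sel3_67 a) (sel3_195 a))) (cond (Nat.beq (Nat.land a 64) 0) (cond (Nat.beq (Nat.land a 128) 0) (sel3_35 a) (sel3_163 a)) (cond (Nat.beq (Nat.land a 128) 0) (sel3_99 a) (sel3_227 a)))) (cond (Nat.beq (Nat.land a 32) 0) (cond (Nat.beq (Nat.land a 64) 0) (cond (Nat.beq (Nat.land a 128) 0) (sel3_19 a) (sel3_147 a)) (cond (Nat.beq (Nat.land a 128) 0) (sel3_83 a) (sel3_211 a))) (cond (Nat.beq (Nat.land a 64) 0) (cond (Nat.beq (Nat.land a 128) 0) (sel3_51 a) (sel3_179 a)) (cond (Nat.beq (Nat.land a 128) 0) (sel3_115 a) (sel3_243 a)))))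

/-- the part of the table that contains a row, by its digits of weight 16 to 128 -/
noncomputable def sel2_4 (a : ℕ) : ℕ :=
  (cond (Nat.beq (Nat.land a 16) 0) (cond (Nat.beq (Nat.land a 32) 0) (cond (Nat.beq (Nat.land a 64) 0) (cond (Nat.beq (Nat.land a 128) 0) (sel3_4 a) (sel3_132 a)) (cond (Nat.beq (Nat.land a 128) 0) (sel3_68 a) (sel3_196 a))) (cond (Nat.beq (Nat.land a 64) 0) (cond (Nat.beq (Nat.land a 128) 0) (sel3_36 a) (sel3_164 a)) (cond (Nat.beq (Nat.land a 128) 0) (sel3_100 a) (sel3_228 a)))) (cond (Nat.beq (Nat.land a 32) 0) (cond (Nat.beq (Nat.land a 64) 0) (cond (Nat.beq (Nat.land a 128) 0) (sel3_20 a) (sel3_148 a)) (cond (Nat.beq (Nat.land a 128) 0) (sel3_84 a) (sel3_212 a))) (cond (Nat.beq (Nat.land a 64) 0) (cond (Nat.beq (Nat.land a 128) 0) (sel3_52 a) (sel3_180 a)) (cond (Nat.beq (Nat.land a 128) 0) (sel3_116 a) (sel3_244 a)))))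

/-- the part of the table that contains a row, by its digits of weight 16 to 128 -/
noncomputable def sel2_5 (a : ℕ) : ℕ :=
  (cond (Nat.beq (Nat.land a 16) 0) (cond (Nat.beq (Nat.land a 32) 0) (cond (Nat.beq (Nat.land a 64) 0) (cond (Nat.beq (Nat.land a 128) 0) (sel3_5 a) (sel3_133 a)) (cond (Nat.beq (Nat.land a 128) 0) (sel3_69 a) (sel3_197 a))) (cond (Nat.beq (Nat.land a 64) 0) (cond (Nat.beq (Nat.land a 128) 0) (sel3_37 a) (sel3_165 a)) (cond (Nat.beq (Nat.land a 128) 0) (sel3_101 a) (sel3_229 a)))) (cond (Nat.beq (Nat.land a 32) 0) (cond (Nat.beq (Nat.land a 64) 0) (cond (Nat.beq (Nat.land a 128) 0) (sel3_21 a) (sel3_149 a)) (cond (Nat.beq (Nat.land a 128) 0) (sel3_85 a) (sel3_213 a))) (cond (Nat.beq (Nat.land a 64) 0) (cond (Nat.beq (Nat.land a 128) 0) (sel3_53 a) (sel3_181 a)) (cond (Nat.beq (Nat.land a 128) 0) (sel3_117 a) (sel3_245 a)))))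

/-- the part of the table that contains a row, by its digits of weight 16 to 128 -/
noncomputable def sel2_6 (a : ℕ) : ℕ :=
  (cond (Nat.beq (Nat.land a 16) 0) (cond (Nat.beq (Nat.land a 32) 0) (cond (Nat.beq (Nat.land a 64) 0) (cond (Nat.beq (Nat.land a 128) 0) (sel3_6 a) (sel3_134 a)) (cond (Nat.beq (Nat.land a 128) 0) (sel3_70 a) (sel3_198 a))) (cond (Nat.beq (Nat.land a 64) 0) (cond (Nat.beq (Nat.land a 128) 0) (sel3_38 a) (sel3_166 a)) (cond (Nat.beq (Nat.land a 128) 0) (sel3_102 a) (sel3_230 a)))) (cond (Nat.beq (Nat.land a 32) 0) (cond (Nat.beq (Nat.land a 64) 0) (cond (Nat.beq (Nat.land a 128) 0) (sel3_22 a) (sel3_150 a)) (cond (Nat.beq (Nat.land a 128) 0) (sel3_86 a) (sel3_214 a))) (cond (Nat.beq (Nat.land a 64) 0) (cond (Nat.beq (Nat.land a 128) 0) (sel3_54 a) (sel3_182 a)) (cond (Nat.beq (Nat.land a 128) 0) (sel3_118 a) (sel3_246 a)))))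

/-- the part of the table that contains a row, by its digits of weight 16 to 128 -/
noncomputable def sel2_7 (a : ℕ) : ℕ :=
  (cond (Nat.beq (Nat.land a 16) 0) (cond (Nat.beq (Nat.land a 32) 0) (cond (Nat.beq (Nat.land a 64) 0) (cond (Nat.beq (Nat.land a 128) 0) (sel3_7 a) (sel3_135 a)) (cond (Nat.beq (Nat.land a 128) 0) (sel3_71 a) (sel3_199 a))) (cond (Nat.beq (Nat.land a 64) 0) (cond (Nat.beq (Nat.land a 128) 0) (sel3_39 a) (sel3_167 a)) (cond (Nat.beq (Nat.land a 128) 0) (sel3_103 a) (sel3_231 a)))) (cond (Nat.beq (Nat.land a 32) 0) (cond (Nat.beq (Nat.land a 64) 0) (cond (Nat.beq (Nat.land a 128) 0) (sel3_23 a) (sel3_151 a)) (cond (Nat.beq (Nat.land a 128) 0) (sel3_87 a) (sel3_215 a))) (cond (Nat.beq (Nat.land a 64) 0) (cond (Nat.beq (Nat.land a 128) 0) (sel3_55 a) (sel3_183 a)) (cond (Nat.beq (Nat.land a 128) 0) (sel3_119 a) (sel3_247 a)))))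

/-- the part of the table that contains a row, by its digits of weight 16 to 128 -/
noncomputable def sel2_8 (a : ℕ) : ℕ :=
  (cond (Nat.beq (Nat.land a 16) 0) (cond (Nat.beq (Nat.land a 32) 0) (cond (Nat.beq (Nat.land a 64) 0) (cond (Nat.beq (Nat.land a 128) 0) (sel3_8 a) (sel3_136 a)) (cond (Nat.beq (Nat.land a 128) 0) (sel3_72 a) (sel3_200 a))) (cond (Nat.beq (Nat.land a 64) 0) (cond (Nat.beq (Nat.land a 128) 0) (sel3_40 a) (sel3_168 a)) (cond (Nat.beq (Nat.land a 128) 0) (sel3_104 a) (sel3_232 a)))) (cond (Nat.beq (Nat.land a 32) 0) (cond (Nat.beq (Nat.land a 64) 0) (cond (Nat.beq (Nat.land a 128) 0) (sel3_24 a) (sel3_152 a)) (cond (Nat.beq (Nat.land a 128) 0) (sel3_88 a) (sel3_216 a))) (cond (Nat.beq (Nat.land a 64) 0) (cond (Nat.beq (Nat.land a 128) 0) (sel3_56 a) (sel3_184 a)) (cond (Nat.beq (Nat.land a 128) 0) (sel3_120 a) (sel3_248 a)))))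

/-- the part of the table that contains a row, by its digits of weight 16 to 128 -/
noncomputable def sel2_9 (a : ℕ) : ℕ :=
  (cond (Nat.beq (Nat.land a 16) 0) (cond (Nat.beq (Nat.land a 32) 0) (cond (Nat.beq (Nat.land a 64) 0) (cond (Nat.beq (Nat.land a 128) 0) (sel3_9 a) (sel3_137 a)) (cond (Nat.beq (Nat.land a 128) 0) (sel3_73 a) (sel3_201 a))) (cond (Nat.beq (Nat.land a 64) 0) (cond (Nat.beq (Nat.land a 128) 0) (sel3_41 a) (sel3_169 a)) (cond (Nat.beq (Nat.land a 128) 0) (sel3_105 a) (sel3_233 a)))) (cond (Nat.beq (Nat.land a 32) 0) (cond (Nat.beq (Nat.land a 64) 0) (cond (Nat.beq (Nat.land a 128) 0) (sel3_25 a) (sel3_153 a)) (cond (Nat.beq (Nat.land a 128) 0) (sel3_89 a) (sel3_217 a))) (cond (Nat.beq (Nat.land a 64) 0) (cond (Nat.beq (Nat.land a 128) 0) (sel3_57 a) (sel3_185 a)) (cond (Nat.beq (Nat.land a 128) 0) (sel3_121 a) (sel3_249 a)))))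

/-- the part of the table that contains a row, by its digits of weight 16 to 128 -/
noncomputable def sel2_10 (a : ℕ) : ℕ :=
  (cond (Nat.beq (Nat.land a 16) 0) (cond (Nat.beq (Nat.land a 32) 0) (cond (Nat.beq (Nat.land a 64) 0) (cond (Nat.beq (Nat.land a 128) 0) (sel3_10 a) (sel3_138 a)) (cond (Nat.beq (Nat.land a 128) 0) (sel3_74 a) (sel3_202 a))) (cond (Nat.beq (Nat.land a 64) 0) (cond (Nat.beq (Nat.land a 128) 0) (sel3_42 a) (sel3_170 a)) (cond (Nat.beq (Nat.land a 128) 0) (sel3_106 a) (sel3_234 a)))) (cond (Nat.beq (Nat.land a 32) 0) (cond (Nat.beq (Nat.land a 64) 0) (cond (Nat.beq (Nat.land a 128) 0) (sel3_26 a) (sel3_154 a)) (cond (Nat.beq (Nat.land a 128) 0) (sel3_90 a) (sel3_218 a))) (cond (Nat.beq (Nat.land a 64) 0) (cond (Nat.beq (Nat.land a 128) 0) (sel3_58 a) (sel3_186 a)) (cond (Nat.beq (Nat.land a 128) 0) (sel3_122 a) (sel3_250 a)))))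

/-- the part of the table that contains a row, by its digits of weight 16 to 128 -/
noncomputable def sel2_11 (a : ℕ) : ℕ :=
  (cond (Nat.beq (Nat.land a 16) 0) (cond (Nat.beq (Nat.land a 32) 0) (cond (Nat.beq (Nat.land a 64) 0) (cond (Nat.beq (Nat.land a 128) 0) (sel3_11 a) (sel3_139 a)) (cond (Nat.beq (Nat.land a 128) 0) (sel3_75 a) (sel3_203 a))) (cond (Nat.beq (Nat.land a 64) 0) (cond (Nat.beq (Nat.land a 128) 0) (sel3_43 a) (sel3_171 a)) (cond (Nat.beq (Nat.land a 128) 0) (sel3_107 a) (sel3_235 a)))) (cond (Nat.beq (Nat.land a 32) 0) (cond (Nat.beq (Nat.land a 64) 0) (cond (Nat.beq (Nat.land a 128) 0) (sel3_27 a) (sel3_155 a)) (cond (Nat.beq (Nat.land a 128) 0) (sel3_91 a) (sel3_219 a))) (cond (Nat.beq (Nat.land a 64) 0) (cond (Nat.beq (Nat.land a 128) 0) (sel3_59 a) (sel3_187 a)) (cond (Nat.beq (Nat.land a 128) 0) (sel3_123 a) (sel3_251 a)))))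

/-- the part of the table that contains a row, by its digits of weight 16 to 128 -/
noncomputable def sel2_12 (a : ℕ) : ℕ :=
  (cond (Nat.beq (Nat.land a 16) 0) (cond (Nat.beq (Nat.land a 32) 0) (cond (Nat.beq (Nat.land a 64) 0) (cond (Nat.beq (Nat.land a 128) 0) (sel3_12 a) (sel3_140 a)) (cond (Nat.beq (Nat.land a 128) 0) (sel3_76 a) (sel3_204 a))) (cond (Nat.beq (Nat.land a 64) 0) (cond (Nat.beq (Nat.land a 128) 0) (sel3_44 a) (sel3_172 a)) (cond (Nat.beq (Nat.land a 128) 0) (sel3_108 a) (sel3_236 a)))) (cond (Nat.beq (Nat.land a 32) 0) (cond (Nat.beq (Nat.land a 64) 0) (cond (Nat.beq (Nat.land a 128) 0) (sel3_28 a) (sel3_156 a)) (cond (Nat.beq (Nat.land a 128) 0) (sel3_92 a) (sel3_220 a))) (cond (Nat.beq (Nat.land a 64) 0) (cond (Nat.beq (Nat.land a 128) 0) (sel3_60 a) (sel3_188 a)) (cond (Nat.beq (Nat.land a 128) 0) (sel3_124 a) (sel3_252 a)))))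

/-- the part of the table that contains a row, by its digits of weight 16 to 128 -/
noncomputable def sel2_13 (a : ℕ) : ℕ :=
  (cond (Nat.beq (Nat.land a 16) 0) (cond (Nat.beq (Nat.land a 32) 0) (cond (Nat.beq (Nat.land a 64) 0) (cond (Nat.beq (Nat.land a 128) 0) (sel3_13 a) (sel3_141 a)) (cond (Nat.beq (Nat.land a 128) 0) (sel3_77 a) (sel3_205 a))) (cond (Nat.beq (Nat.land a 64) 0) (cond (Nat.beq (Nat.land a 128) 0) (sel3_45 a) (sel3_173 a)) (cond (Nat.beq (Nat.land a 128) 0) (sel3_109 a) (sel3_237 a)))) (cond (Nat.beq (Nat.land a 32) 0) (cond (Nat.beq (Nat.land a 64) 0) (cond (Nat.beq (Nat.land a 128) 0) (sel3_29 a) (sel3_157 a)) (cond (Nat.beq (Nat.land a 128) 0) (sel3_93 a) (sel3_221 a))) (cond (Nat.beq (Nat.land a 64) 0) (cond (Nat.beq (Nat.land a 128) 0) (sel3_61 a) (sel3_189 a)) (cond (Nat.beq (Nat.land a 128) 0) (sel3_125 a) (sel3_253 a)))))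

/-- the part of the table that contains a row, by its digits of weight 16 to 128 -/
noncomputable def sel2_14 (a : ℕ) : ℕ :=
  (cond (Nat.beq (Nat.land a 16) 0) (cond (Nat.beq (Nat.land a 32) 0) (cond (Nat.beq (Nat.land a 64) 0) (cond (Nat.beq (Nat.land a 128) 0) (sel3_14 a) (sel3_142 a)) (cond (Nat.beq (Nat.land a 128) 0) (sel3_78 a) (sel3_206 a))) (cond (Nat.beq (Nat.land a 64) 0) (cond (Nat.beq (Nat.land a 128) 0) (sel3_46 a) (sel3_174 a)) (cond (Nat.beq (Nat.land a 128) 0) (sel3_110 a) (sel3_238 a)))) (cond (Nat.beq (Nat.land a 32) 0) (cond (Nat.beq (Nat.land a 64) 0) (cond (Nat.beq (Nat.land a 128) 0) (sel3_30 a) (sel3_158 a)) (cond (Nat.beq (Nat.land a 128) 0) (sel3_94 a) (sel3_222 a))) (cond (Nat.beq (Nat.land a 64) 0) (cond (Nat.beq (Nat.land a 128) 0) (sel3_62 a) (sel3_190 a)) (cond (Nat.beq (Nat.land a 128) 0) (sel3_126 a) (sel3_254 a)))))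

/-- the part of the table that contains a row, by its digits of weight 16 to 128 -/
noncomputable def sel2_15 (a : ℕ) : ℕ :=
  (cond (Nat.beq (Nat.land a 16) 0) (cond (Nat.beq (Nat.land a 32) 0) (cond (Nat.beq (Nat.land a 64) 0) (cond (Nat.beq (Nat.land a 128) 0) (sel3_15 a) (sel3_143 a)) (cond (Nat.beq (Nat.land a 128) 0) (sel3_79 a) (sel3_207 a))) (cond (Nat.beq (Nat.land a 64) 0) (cond (Nat.beq (Nat.land a 128) 0) (sel3_47 a) (sel3_175 a)) (cond (Nat.beq (Nat.land a 128) 0) (sel3_111 a) (sel3_239 a)))) (cond (Nat.beq (Nat.land a 32) 0) (cond (Nat.beq (Nat.land a 64) 0) (cond (Nat.beq (Nat.land a 128) 0) (sel3_31 a) (sel3_159 a)) (cond (Nat.beq (Nat.land a 128) 0) (sel3_95 a) (sel3_223 a))) (cond (Nat.beq (Nat.land a 64) 0) (cond (Nat.beq (Nat.land a 128) 0) (sel3_63 a) (sel3_191 a)) (cond (Nat.beq (Nat.land a 128) 0) (sel3_127 a) (sel3_255 a)))))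

/-- the part of the table that contains a row -/
noncomputable def rowSel (a : ℕ) : ℕ :=
  (cond (Nat.beq (Nat.land a 1) 0) (cond (Nat.beq (Nat.land a 2) 0) (cond (Nat.beq (Nat.land a 4) 0) (cond (Nat.beq (Nat.land a 8) 0) (sel2_0 a) (sel2_8 a)) (cond (Nat.beq (Nat.land a 8) 0) (sel2_4 a) (sel2_12 a))) (cond (Nat.beq (Nat.land a 4) 0) (cond (Nat.beq (Nat.land a 8) 0) (sel2_2 a) (sel2_10 a)) (cond (Nat.beq (Nat.land a 8) 0) (sel2_6 a) (sel2_14 a)))) (cond (Nat.beq (Nat.land a 2) 0) (cond (Nat.beq (Nat.land a 4) 0) (cond (Nat.beq (Nat.land a 8) 0) (sel2_1 a) (sel2_9 a)) (cond (Nat.beq (Nat.land a 8) 0) (sel2_5 a) (sel2_13 a))) (cond (Nat.beq (Nat.land a 4) 0) (cond (Nat.beq (Nat.land a 8) 0) (sel2_3 a) (sel2_11 a)) (cond (Nat.beq (Nat.land a 8) 0) (sel2_7 a) (sel2_15 a)))))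

/-- a word -/
noncomputable def wordOf (i : ℕ) : List ℕ :=
  strictN (Nat.land (Nat.shiftRight relP (Nat.mul 264 i)) 29642774844752946028434172162224104410437116074403984394101141506025761187823615) fun v =>
    unp (Nat.land v 255) (Nat.shiftRight v 8)

/-- the certificate -/
noncomputable def cert : VCert where
  n := 122760
  g := 8
  k := 7
  nW := 82
  B := 2048
  iv := fun x => cond (Nat.blt x 6) x (Nat.sub 13 x)
  sub := fun x => Nat.blt x 6
  sl := fun a x => strictN a fun a' =>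
    Nat.land (Nat.shiftRight (rowSel a') (Nat.add (Nat.mul 1576 (Nat.shiftRight a' 12)) (Nat.mul 194 x))) 25108406941546723055343157692830665664409421777856138051583
  pr := fun a => strictN a fun a' =>
    Nat.land (Nat.shiftRight (rowSel a') (Nat.add (Nat.mul 1576 (Nat.shiftRight a' 12)) 1552)) 16777215
  W := wordOf
  rhs := fun i => Nat.land (Nat.shiftRight rhsP (Nat.mul 160 i)) 1461501637330902918203684832716283019655932542975
  wT := fun i => Nat.land (Nat.shiftRight wTP (Nat.mul 12 i)) 4095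
  wA := fun i => Nat.land (Nat.shiftRight wAP (Nat.mul 20 i)) 1048575

/-- the check of the rows from `lo` to `lo + k` -/
noncomputable def rowsOK (lo k : ℕ) : Bool := allN k fun i => allN 8 fun x => cert.slotOK (Nat.add lo i) x

/-- the check of the words -/
noncomputable def wordsOK : Bool := allN 82 fun i => cert.wordOK i

end Cfsg.Agent.Lib.Helper8.ONM
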