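import Cfsg.Agent.Lib.Helper7.MGenG
import Cfsg.Agent.Lib.Helper8.ONM.Base

/-!
# The multiplier of the O'Nan group: a finite stem extension in which the subgroup `H` has a section

Let `σ : Γ → ON` be a finite stem extension of the presented O'Nan group and `s : H → Γ` a section of `σ` over the
subgroup `H` generated by the first six letters.  The first six letters are lifted by `s`, so that all the words in
these letters that are trivial in the group are trivial in the extension.  The lift of the seventh letter is chosen so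
that one more given word, in which its exponent sum is one, is trivial.  The checked table over the image of `s` shows
that the kernel is generated by the values of seven given words; the traced words give relations between them, which
make the kernel cyclic of order at most six, generated by an element whose cube is the value of the last of the
seven words.  (helper8, with the machine of helper7 and the data of helper5)
-/

set_option autoImplicit false
set_option maxRecDepth 100000

namespace Cfsg.Agent.Lib.Helper8.ONM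

open Cfsg Cfsg.Spor Cfsg.Agent.Lib.Helper7.MG Cfsg.Agent.Lib.Helper7.HSMult
open Cfsg.Agent.Lib.Helper6
open scoped IsMulCommutative

theorem lt_six_of_sub {x : ℕ} (hx : cert.sub x = true) : x < 6 := by
  have : Nat.blt x 6 = true := hx
  simpa [Nat.blt] using this

section upper

universe u

variable {Γ : Type u} [Group Γ] [Finite Γ] (σ : Γ →* ON) (hsurj : Function.Surjective σ)
  (hcen : σ.ker ≤ Subgroup.center Γ) (hder : σ.ker ≤ commutator Γ)
  (s : ↥ONL37.H →* Γ) (hs : ∀ h : ↥ONL37.H, σ (s h) = (h : ON))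

/-! ### the letters in the extension -/

/-- the letters in the extension -/
noncomputable def gU (t : Γ) (x : ℕ) : Γ :=
  if x < 6 then s (hO x) else if x = 6 then t else if x = 7 then t⁻¹ else 1

omit [Finite Γ] in
theorem gU_lt (t : Γ) {x : ℕ} (hx : x < 6) : gU s t x = s (hO x) := by
  rw [gU, if_pos hx]

omit [Finite Γ] in
theorem gU_six (t : Γ) : gU s t 6 = t := rfl

omit [Finite Γ] in
theorem gU_seven (t : Γ) : gU s t 7 = t⁻¹ := rfl

omit [Finite Γ] in
theorem gU_ge (t : Γ) {x : ℕ} (hx : 8 ≤ x) : gU s t x = 1 := by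
  rw [gU, if_neg (by omega), if_neg (by omega), if_neg (by omega)]

variable (t : Γ) (ht : σ t = lO 6)

include hs ht in
omit [Finite Γ] in
theorem map_gU {x : ℕ} (hx : x < 8) : σ (gU s t x) = lO x := by
  rcases Nat.lt_or_ge x 6 with h | h
  · rw [gU_lt s t h, hs, hO_coe h]
  · have : x = 6 ∨ x = 7 := by omega
    rcases this with rfl | rfl
    · exact ht
    · rw [gU_seven, map_inv, ht]
      exact (lO_iv 6 (by norm_num)).symm

include hs ht in
omit [Finite Γ] in
theorem map_wd_gU : ∀ w : List ℕ, (∀ x ∈ w, x < 8) → σ (VCert.wd (gU s t) w) = VCert.wd lO w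
  | [], _ => map_one σ
  | x :: w, h => by
    rw [VCert.wd_cons, VCert.wd_cons, map_mul, map_gU σ s hs t ht (h x List.mem_cons_self),
      map_wd_gU w (fun y hy => h y (List.mem_cons_of_mem _ hy))]

omit [Finite Γ] in
/-- the value of a word in the first six letters is the image of its value in the subgroup -/
theorem wd_gU_sub : ∀ w : List ℕ, (∀ x ∈ w, x < 6) → VCert.wd (gU s t) w = s (wdH w)
  | [], _ => (map_one s).symm
  | x :: w, h => by
    have e : wdH (x :: w) = hO x * wdH w := by
      rw [wdH, List.map_cons, List.prod_cons]; rfl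
    rw [VCert.wd_cons, e, map_mul, gU_lt s t (h x List.mem_cons_self),
      wd_gU_sub w (fun y hy => h y (List.mem_cons_of_mem _ hy))]

theorem iv_of_lt_six {x : ℕ} (hx : x < 6) : cert.iv x = x := by
  have : x = 0 ∨ x = 1 ∨ x = 2 ∨ x = 3 ∨ x = 4 ∨ x = 5 := by omega
  rcases this with rfl | rfl | rfl | rfl | rfl | rfl <;> rfl

theorem hO_mul_self {x : ℕ} (hx : x < 6) : hO x * hO x = 1 := by
  apply Subtype.ext
  rw [Subgroup.coe_mul, hO_coe hx, Subgroup.coe_one]
  have h := lO_iv x (by omega)
  rw [iv_of_lt_six hx] at h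
  calc lO x * lO x = (lO x)⁻¹ * lO x := by rw [← h]
    _ = 1 := inv_mul_cancel _

omit [Finite Γ] in
theorem gU_iv : ∀ x, x < 8 → gU s t (cert.iv x) = (gU s t x)⁻¹ := by
  intro x hx
  rcases Nat.lt_or_ge x 6 with h | h
  · rw [iv_of_lt_six h, gU_lt s t h]
    apply eq_inv_of_mul_eq_one_left
    rw [← map_mul, hO_mul_self h, map_one]
  · have : x = 6 ∨ x = 7 := by omega
    rcases this with rfl | rfl
    · rfl
    · exact (inv_inv t).symm

omit [Finite Γ] in
/-- the letters in the extension for two lifts of the seventh letter that differ by a central element -/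
theorem wd_gU_mul (w : Γ) (hw : w ∈ Subgroup.center Γ) (u : List ℕ) :
    VCert.wd (gU s (t * w)) u = VCert.wd (gU s t) u * w ^ expsumL 6 7 u := by
  have hwc : ∀ x : Γ, w⁻¹ * x = x * w⁻¹ := fun x =>
    (Subgroup.mem_center_iff.1 (Subgroup.inv_mem _ hw) x).symm
  exact wd_central_mul_at 6 7 (by norm_num) (gU s t) (gU s (t * w)) w hw rfl (by
    show (t * w)⁻¹ = t⁻¹ * w⁻¹
    rw [mul_inv_rev, hwc]) (by
    intro x h0 h1
    rcases Nat.lt_or_ge x 6 with h | h
    · rw [gU_lt _ _ h, gU_lt _ _ h]
    · rw [gU_ge _ _ (by omega), gU_ge _ _ (by omega)]) u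

include hsurj hcen hs in
omit [Finite Γ] in
/-- **a lift of the seventh letter such that the given word is trivial** -/
theorem exists_lift : ∃ t : Γ, σ t = lO 6 ∧ VCert.wd (gU s t) nW = 1 := by
  obtain ⟨t0, ht0⟩ := hsurj (lO 6)
  have hk2 : VCert.wd (gU s t0) nW ∈ σ.ker := by
    rw [MonoidHom.mem_ker, map_wd_gU σ s hs t0 ht0 nW nW_lt, ← chk_WN]
    exact wd_lO_W (by norm_num)
  set w : Γ := (VCert.wd (gU s t0) nW)⁻¹ with hwdef
  have hw : w ∈ σ.ker := Subgroup.inv_mem _ hk2
  refine ⟨t0 * w, ?_, ?_⟩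
  · rw [map_mul, MonoidHom.mem_ker.1 hw, mul_one, ht0]
  · rw [wd_gU_mul s t0 w (hcen hw), chk_nW, zpow_one, hwdef, mul_inv_cancel]

variable (hy : VCert.wd (gU s t) nW = 1)

include hs ht in
omit [Finite Γ] in
theorem wd_gU_mem_ker {i : ℕ} (hi : i < 82) : VCert.wd (gU s t) (cert.W i) ∈ σ.ker := by
  rw [MonoidHom.mem_ker, map_wd_gU σ s hs t ht _ (letters_lt hi), wd_lO_W hi]

/-- the central elements: the values of the given words -/
noncomputable def zU (j : ℕ) : Subgroup.center Γ :=
  ⟨VCert.wd (gU s t) (cert.W (axI j)), hcen (wd_gU_mem_ker σ s hs t ht (axI_lt j))⟩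

include hy in
omit [Finite Γ] in
theorem hW0_U : ∀ i, i < cert.nW → cert.wT i = 0 →
    VCert.wd (gU s t) (cert.W i) = (cert.ek (zU σ hcen s hs t ht) i : Γ) := by
  intro i hi hT
  rcases chk_wT i hi hT with ⟨h6, h0⟩ | rfl | ⟨j, hj, rfl⟩
  · rw [VCert.ek, cert.kap_one _ h0]
    have hl : ∀ x ∈ cert.W i, x < 6 := by
      intro x hx
      simpa [Nat.blt] using List.all_eq_true.1 h6 x hx
    rw [wd_gU_sub s t _ hl]
    have h1 : wdH (cert.W i) = 1 := by
      apply Subtype.ext
      rw [wdH_coe _ hl, Subgroup.coe_one]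
      exact wd_lO_W hi
    rw [h1, map_one]
    rfl
  · rw [VCert.ek, cert.kap_one _ chk_ex, chk_WN]
    exact hy
  · rw [VCert.ek, cert.kap_unit _ hj (chk_ax j hj)]
    rfl

include hcen hder hs ht in
omit [Finite Γ] in
theorem hgen_U : ∀ y : Γ, ∃ u : List ℕ, (∀ x ∈ u, x < cert.g) ∧ y = (u.map (gU s t)).prod := by
  apply Cfsg.Agent.Lib.Helper7.MG.exists_word_of_closure (gU s t) 8 cert.iv
  · intro x hx
    refine ⟨?_, gU_iv s t x hx⟩
    have : x = 0 ∨ x = 1 ∨ x = 2 ∨ x = 3 ∨ x = 4 ∨ x = 5 ∨ x = 6 ∨ x = 7 := by omega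
    rcases this with rfl | rfl | rfl | rfl | rfl | rfl | rfl | rfl <;> decide
  · apply Cfsg.Agent.Lib.Helper7.M12Mult.closure_eq_top_of_stem (σ := σ) hcen hder
    intro g
    have hg : g ∈ Subgroup.closure (lO '' Set.Iio 8) := by rw [closure_lO]; exact Subgroup.mem_top g
    induction hg using Subgroup.closure_induction with
    | mem y hy =>
      obtain ⟨x, hx, rfl⟩ := hy
      exact ⟨gU s t x, Subgroup.subset_closure ⟨x, hx, rfl⟩, map_gU σ s hs t ht hx⟩
    | one => exact ⟨1, one_mem _, map_one σ⟩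
    | mul p q _ _ ihp ihq =>
      obtain ⟨p', hp', rfl⟩ := ihp
      obtain ⟨q', hq', rfl⟩ := ihq
      exact ⟨p' * q', mul_mem hp' hq', map_mul σ p' q'⟩
    | inv p _ ihp =>
      obtain ⟨p', hp', rfl⟩ := ihp
      exact ⟨p'⁻¹, inv_mem hp', map_inv σ p'⟩

include hs in
omit [Finite Γ] in
theorem hHK_U : ∀ u, u ∈ s.range → u ∈ σ.ker → u = 1 := by
  rintro _ ⟨h, rfl⟩ hk
  have h1 : (h : ON) = 1 := by rw [← hs h]; exact MonoidHom.mem_ker.1 hk
  have h2 : h = 1 := Subtype.ext h1
  rw [h2, map_one]

omit [Finite Γ] in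
theorem hsub_U : ∀ x, cert.sub x = true → gU s t x ∈ s.range := fun x hx => by
  rw [gU_lt s t (lt_six_of_sub hx)]
  exact ⟨_, rfl⟩

omit [Finite Γ] in
theorem card_range_le : Nat.card ↥s.range ≤ 3753792 := by
  rw [← card_H]
  have : Finite ↥ONL37.H := inferInstance
  exact Nat.card_le_card_of_surjective _ s.rangeRestrict_surjective

include hsurj hder hs ht hy in
/-- **the kernel is generated by the central elements** -/
theorem ker_eq_Zc_U : σ.ker = Zc (zU σ hcen s hs t ht) 7 := by
  refine ker_eq_Zc_of_sub σ cert (gU s t) (zU σ hcen s hs t ht) s.range 3753792 hsurj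
    (by rw [card_ON]; rfl) (by decide) (by norm_num) (hHK_U σ s hs) (card_range_le s)
    (hsub_U s t) ?_ (hgen_U σ hcen hder s hs t ht) (by decide) (by decide)
    (gU_iv s t) ?_
    (hW0_U σ hcen s hs t ht hy) cert_all cert_wall
  · intro j _
    exact wd_gU_mem_ker σ s hs t ht (axI_lt j)
  · intro i hi
    exact wd_gU_mem_ker σ s hs t ht hi

include hy in
omit [Finite Γ] in
/-- the relations between the central elements -/
theorem rel_U : ∀ r ∈ relL, zprod (zU σ hcen s hs t ht) 7 (fun l => r.getD l 0) = 1 := by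
  have hKn : ∀ u, u ∈ σ.ker → ∀ g : Γ, g * u * g⁻¹ ∈ σ.ker := fun u hu g =>
    (inferInstance : σ.ker.Normal).conj_mem u hu g
  have key : ∀ {i v row : ℕ}, i < 82 → cert.scan 4095 (cert.W i) row 0 = some (row, v) →
      cert.ek (zU σ hcen s hs t ht) i = cert.kap (zU σ hcen s hs t ht) v (cert.W i).length := by
    intro i v row hi h
    exact cert.close_spec (γ := gU s t) (H := s.range) σ.ker hKn
      (fun j _ => wd_gU_mem_ker σ s hs t ht (axI_lt j)) (hHK_U σ s hs) (by decide) (by decide)
      (gU_iv s t) (hsub_U s t)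
      (fun i hi => wd_gU_mem_ker σ s hs t ht hi) (hW0_U σ hcen s hs t ht hy)
      cert_all cert_wall hi (chk_len i hi) h
  intro r hr
  simp only [relL, List.mem_cons, List.not_mem_nil, or_false] at hr
  rcases hr with rfl | rfl | rfl | rfl | rfl | rfl | rfl | rfl
  · exact cert.rel_of_close _ (key (by norm_num) close_0) _ chk_rel_0
  · exact cert.rel_of_close _ (key (by norm_num) close_1) _ chk_rel_1
  · exact cert.rel_of_close _ (key (by norm_num) close_2) _ chk_rel_2
  · exact cert.rel_of_close _ (key (by norm_num) close_3) _ chk_rel_3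
  · exact cert.rel_of_close _ (key (by norm_num) close_4) _ chk_rel_4
  · exact cert.rel_of_close _ (key (by norm_num) close_5) _ chk_rel_5
  · exact cert.rel_of_close _ (key (by norm_num) close_6) _ chk_rel_6
  · exact cert.rel_of_close _ (key (by norm_num) close_7) _ chk_rel_7

include hsurj hcen hder hs ht hy in
/-- **the kernel is generated by an element of which the sixth power is trivial and the cube is the value of the
last of the seven words** -/
theorem exists_gen_U : ∃ c : Γ, c ∈ σ.ker ∧ c ^ 6 = 1 ∧ σ.ker ≤ Subgroup.zpowers c ∧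
    VCert.wd (gU s t) (cert.W 80) = c ^ 3 := by
  have hK := ker_eq_Zc_U σ hsurj hcen hder s hs t ht hy
  obtain ⟨hz, hN⟩ := cyclic_of_relations (zU σ hcen s hs t ht) 7 relL
    (rel_U σ hcen s hs t ht hy) cL mL 6 lamL muL chk_lam chk_mu
  set g := zprod (zU σ hcen s hs t ht) 7 (fun l => cL.getD l 0) with hg
  have hle : σ.ker ≤ Subgroup.zpowers (g : Γ) := by
    rw [hK]
    exact Zc_le_zpowers _ 7 g (fun j => mL.getD j 0) hz
  have hgK : (g : Γ) ∈ σ.ker := by
    have : g ∈ σ.ker.comap (Subgroup.center Γ).subtype :=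
      zprod_mem _ 7 _ (fun j _ => wd_gU_mem_ker σ s hs t ht (axI_lt j)) _
    exact this
  refine ⟨(g : Γ), hgK, ?_, hle, ?_⟩
  · have := congrArg (fun t : Subgroup.center Γ => (t : Γ)) hN
    simpa using this
  · have h6 := hz 6 (by norm_num)
    have h7 : ((zU σ hcen s hs t ht 6 : Subgroup.center Γ) : Γ) = (g : Γ) ^ 3 := by
      have := congrArg (fun t : Subgroup.center Γ => (t : Γ)) h6
      simpa [mL] using this
    exact h7

end upper

/-- **in a finite stem extension of the presented group with a section over the subgroup, the kernel is generated by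
an element of which the sixth power is trivial and the cube is the value of the last of the seven words** -/
theorem exists_gen_of_section {Γ : Type*} [Group Γ] [Finite Γ] (σ : Γ →* ON) (hsurj : Function.Surjective σ)
    (hcen : σ.ker ≤ Subgroup.center Γ) (hder : σ.ker ≤ commutator Γ)
    (s : ↥ONL37.H →* Γ) (hs : ∀ h : ↥ONL37.H, σ (s h) = (h : ON)) :
    ∃ (t c : Γ), σ t = lO 6 ∧ c ∈ σ.ker ∧ c ^ 6 = 1 ∧ σ.ker ≤ Subgroup.zpowers c ∧
      VCert.wd (gU s t) (cert.W 80) = c ^ 3 := by
  obtain ⟨t, ht, hy⟩ := exists_lift σ hsurj hcen s hs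
  obtain ⟨c, h1, h2, h3, h4⟩ := exists_gen_U σ hsurj hcen hder s hs t ht hy
  exact ⟨t, c, ht, h1, h2, h3, h4⟩

end Cfsg.Agent.Lib.Helper8.ONM
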