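import Cfsg.Prelude.Def_KGroupFacts
import Cfsg.Agent.Lib.Helper8.ONM.U

/-!
# The multiplier of the O'Nan group: the finite stem extensions in which the subgroup `H` has a section

Let `σ : E → ON` be a finite stem extension of the presented O'Nan group with a section over the subgroup `H`
generated by `a, …, f`.  If the kernel has odd order, it is an image of the cyclic group of order three; and the kernel
does not have order two: in that case the section is multiplied by the sign character of `H` with values in the
kernel, if necessary, so that the value of the last of the seven words of the certificate is trivial, and then the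
generator of the kernel is trivial.  (helper8)
-/

set_option autoImplicit false

namespace Cfsg.Agent.Lib.Helper8.ONM

open Cfsg Cfsg.Spor Cfsg.Agent.Lib.Helper7.MG Cfsg.Agent.Lib.Helper7.HSMult
open Cfsg.Agent.Lib.Helper6

/-! ### the section multiplied by the sign character -/

section twist

variable {Γ : Type*} [Group Γ] (s : ↥ONL37.H →* Γ) (k : Γ)

/-- the factor of the section: trivial on the kernel of the sign character, the given central element outside -/
noncomputable def twF (h : ↥ONL37.H) : Γ := if sgnH h = 1 then 1 else k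

theorem twF_mul (hk2 : k * k = 1) (a b : ↥ONL37.H) : twF k (a * b) = twF k a * twF k b := by
  have hne : ¬ ((-1 : ℤˣ) = 1) := by decide
  have hm : ((-1 : ℤˣ) * -1) = 1 := by decide
  unfold twF
  rw [map_mul]
  rcases Int.units_eq_one_or (sgnH a) with ha | ha <;> rcases Int.units_eq_one_or (sgnH b) with hb | hb
  · rw [ha, hb, one_mul, if_pos rfl, one_mul]
  · rw [ha, hb, one_mul, if_neg hne, if_pos rfl, one_mul]
  · rw [ha, hb, mul_one, if_neg hne, if_pos rfl, mul_one]
  · rw [ha, hb, hm, if_pos rfl, if_neg hne, hk2]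

theorem twF_comm (hk : k ∈ Subgroup.center Γ) (a : ↥ONL37.H) (x : Γ) : twF k a * x = x * twF k a := by
  unfold twF
  split_ifs
  · rw [one_mul, mul_one]
  · exact (Subgroup.mem_center_iff.1 hk x).symm

/-- **the section multiplied by the sign character with values in the centre** -/
noncomputable def twS (hk : k ∈ Subgroup.center Γ) (hk2 : k * k = 1) : ↥ONL37.H →* Γ :=
  MonoidHom.mk' (fun h => s h * twF k h) (by
    intro a b
    show s (a * b) * twF k (a * b) = s a * twF k a * (s b * twF k b)
    rw [map_mul, twF_mul k hk2]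
    calc s a * s b * (twF k a * twF k b) = s a * (s b * twF k a) * twF k b := by simp only [mul_assoc]
      _ = s a * (twF k a * s b) * twF k b := by rw [twF_comm k hk a (s b)]
      _ = s a * twF k a * (s b * twF k b) := by simp only [mul_assoc])

theorem twS_apply (hk : k ∈ Subgroup.center Γ) (hk2 : k * k = 1) (h : ↥ONL37.H) :
    twS s k hk hk2 h = s h * twF k h := rfl

theorem twF_hO {x : ℕ} (hx : x < 6) : twF k (hO x) = k := by
  rw [twF, sgnH_hO hx, if_neg (by decide)]

/-- the number of the letters of a word among the first six -/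
def cntL : List ℕ → ℕ
  | [] => 0
  | x :: w => (if x < 6 then 1 else 0) + cntL w

/-- the value of a word for the new section -/
theorem wd_gU_twS (hk : k ∈ Subgroup.center Γ) (hk2 : k * k = 1) (t : Γ) : ∀ w : List ℕ,
    VCert.wd (gU (twS s k hk hk2) t) w = VCert.wd (gU s t) w * k ^ cntL w
  | [] => by simp [VCert.wd_nil, cntL]
  | x :: w => by
    have hc : ∀ (i : ℕ) (y : Γ), k ^ i * y = y * k ^ i := fun i y =>
      (Subgroup.mem_center_iff.1 (Subgroup.pow_mem _ hk i) y).symm
    rw [VCert.wd_cons, VCert.wd_cons, wd_gU_twS hk hk2 t w, cntL]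
    by_cases hx : x < 6
    · rw [gU_lt (twS s k hk hk2) t hx, gU_lt s t hx, twS_apply, twF_hO k hx, if_pos hx, pow_add, pow_one]
      have := hc 1 (VCert.wd (gU s t) w)
      rw [pow_one] at this
      rw [mul_assoc (s (hO x)), ← mul_assoc k, this]
      simp only [mul_assoc]
    · rw [if_neg hx, zero_add]
      have e : gU (twS s k hk hk2) t x = gU s t x := by
        unfold gU
        rw [if_neg hx, if_neg hx]
      rw [e, mul_assoc]

end twist

theorem chk_cnt : cntL (cert.W 80) = 43 := by decide +kernel

theorem chk_sum : expsumL 6 7 (cert.W 80) = 0 := by decide +kernel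

section main

variable (E : Type) [Group E] [Finite E] (σ : E →* ON) (hσ : IsStemExtension σ)
  (s : ↥ONL37.H →* E) (hs : ∀ h : ↥ONL37.H, σ (s h) = (h : ON))

include hσ hs in
/-- **a finite stem extension of the presented O'Nan group with a section over the subgroup generated by
`a, …, f` and with a kernel of odd order: the kernel is an image of the cyclic group of order three** -/
theorem hcert_odd (hodd : Odd (Nat.card σ.ker)) :
    ∃ p : Multiplicative (ZMod 3) →* σ.ker, Function.Surjective p := by
  obtain ⟨t, c, -, hcK, hc6, hle, -⟩ := exists_gen_of_section σ hσ.1 hσ.2.1 hσ.2.2 s hs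
  set c' : ↥σ.ker := ⟨c, hcK⟩ with hc'
  have h6 : c' ^ 6 = 1 := by
    apply Subtype.ext
    rw [Subgroup.coe_pow, Subgroup.coe_one]
    exact hc6
  have hd6 : orderOf c' ∣ 3 * 2 := orderOf_dvd_of_pow_eq_one h6
  have hdc : orderOf c' ∣ Nat.card ↥σ.ker := orderOf_dvd_natCard c'
  have ho : Odd (orderOf c') := Odd.of_dvd_nat hodd hdc
  have hcop : Nat.Coprime (orderOf c') 2 := Nat.coprime_two_right.2 ho
  have hd3 : orderOf c' ∣ 3 := hcop.dvd_of_dvd_mul_right hd6
  have h3 : c' ^ 3 = 1 := orderOf_dvd_iff_pow_eq_one.1 hd3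
  apply exists_surj_zmod c' 3 h3
  intro y
  obtain ⟨i, hi⟩ := Subgroup.mem_zpowers_iff.1 (hle y.2)
  refine Subgroup.mem_zpowers_iff.2 ⟨i, ?_⟩
  apply Subtype.ext
  rw [Subgroup.coe_zpow]
  exact hi

include hσ hs in
/-- **a finite stem extension of the presented O'Nan group with a section over the subgroup generated by
`a, …, f` does not have a kernel of order two** -/
theorem hcert_two : Nat.card σ.ker ≠ 2 := by
  intro h2
  have hsq : ∀ x : E, x ∈ σ.ker → x * x = 1 := by
    intro x hx
    have h := pow_card_eq_one' (G := ↥σ.ker) (x := ⟨x, hx⟩)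
    rw [h2] at h
    have := congrArg (fun y : ↥σ.ker => (y : E)) h
    simpa [pow_two] using this
  obtain ⟨t0, ht0⟩ := hσ.1 (lO 6)
  set k : E := VCert.wd (gU s t0) (cert.W 80) with hkdef
  have hkK : k ∈ σ.ker := wd_gU_mem_ker σ s hs t0 ht0 (by norm_num)
  have hkc : k ∈ Subgroup.center E := hσ.2.1 hkK
  have hk2 : k * k = 1 := hsq k hkK
  have hs' : ∀ h : ↥ONL37.H, σ (twS s k hkc hk2 h) = (h : ON) := by
    intro h
    rw [twS_apply, map_mul, hs]
    have : twF k h ∈ σ.ker := by
      unfold twF
      split_ifs
      · exact one_mem _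
      · exact hkK
    rw [MonoidHom.mem_ker.1 this, mul_one]
  obtain ⟨t, c, ht, hcK, hc6, hle, hW⟩ := exists_gen_of_section σ hσ.1 hσ.2.1 hσ.2.2 (twS s k hkc hk2) hs'
  -- the value of the word for the new section is trivial
  have hw : t0⁻¹ * t ∈ σ.ker := by
    rw [MonoidHom.mem_ker, map_mul, map_inv, ht0, ht, inv_mul_cancel]
  have e1 : VCert.wd (gU s t) (cert.W 80) = k := by
    have := wd_gU_mul s t0 (t0⁻¹ * t) (hσ.2.1 hw) (cert.W 80)
    rw [mul_inv_cancel_left, chk_sum, zpow_zero, mul_one] at this
    exact this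
  have e2 : c ^ 3 = 1 := by
    rw [← hW, wd_gU_twS s k hkc hk2 t, e1, chk_cnt, ← pow_succ']
    have : k ^ (43 + 1) = (k * k) ^ 22 := by
      calc k ^ (43 + 1) = k ^ (2 * 22) := by norm_num
        _ = (k ^ 2) ^ 22 := pow_mul k 2 22
        _ = (k * k) ^ 22 := by rw [pow_two]
    rw [this, hk2, one_pow]
  have e3 : c * c = 1 := hsq c hcK
  have e4 : c = 1 := by
    have : c ^ 3 = c * c * c := by rw [pow_succ, pow_two]
    rw [this, e3, one_mul] at e2
    exact e2
  have hbot : σ.ker = ⊥ := by
    rw [eq_bot_iff]
    refine hle.trans ?_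
    rw [e4, Subgroup.zpowers_one_eq_bot]
  rw [hbot, Subgroup.card_bot] at h2
  exact absurd h2 (by norm_num)

end main

end Cfsg.Agent.Lib.Helper8.ONM
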