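import Cfsg.Agent.Lib.Helper8.ONM.C
import Cfsg.Agent.Lib.Helper8.ONM.K79

/-! # The multiplier of the O'Nan group, the table over the subgroup of index 122760: the check of the rows 120120 to 121439 of the certificate (generated) -/

set_option autoImplicit false
set_option maxRecDepth 100000

namespace Cfsg.Agent.Lib.Helper8.ONM

theorem rows_ok_1001 : rowsOK 120120 120 = true := by decide +kernel

theorem rows_ok_1002 : rowsOK 120240 120 = true := by decide +kernel

theorem rows_ok_1003 : rowsOK 120360 120 = true := by decide +kernel

theorem rows_ok_1004 : rowsOK 120480 120 = true := by decide +kernel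

theorem rows_ok_1005 : rowsOK 120600 120 = true := by decide +kernel

theorem rows_ok_1006 : rowsOK 120720 120 = true := by decide +kernel

theorem rows_ok_1007 : rowsOK 120840 120 = true := by decide +kernel

theorem rows_ok_1008 : rowsOK 120960 120 = true := by decide +kernel

theorem rows_ok_1009 : rowsOK 121080 120 = true := by decide +kernel

theorem rows_ok_1010 : rowsOK 121200 120 = true := by decide +kernel

theorem rows_ok_1011 : rowsOK 121320 120 = true := by decide +kernel

theorem rows_ok_f91 : ∀ k, k < 11 → rowsOK (120 * (1001 + k)) 120 = true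
  | 0, _ => rows_ok_1001
  | 1, _ => rows_ok_1002
  | 2, _ => rows_ok_1003
  | 3, _ => rows_ok_1004
  | 4, _ => rows_ok_1005
  | 5, _ => rows_ok_1006
  | 6, _ => rows_ok_1007
  | 7, _ => rows_ok_1008
  | 8, _ => rows_ok_1009
  | 9, _ => rows_ok_1010
  | 10, _ => rows_ok_1011
  | k + 11, h => absurd h (by omega)

end Cfsg.Agent.Lib.Helper8.ONM
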